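/-
The group `S₃ × S₅` on the points `{0, ..., 4} ⊕ {5, 6, 7}` and its decidable facts.
-/
import Cfsg.Agent.EqLemmas
import Mathlib.GroupTheory.Perm.Fin
import Mathlib.GroupTheory.SpecificGroups.Alternating

set_option autoImplicit false
set_option maxRecDepth 100000
set_option synthInstance.maxSize 4000
set_option synthInstance.maxHeartbeats 400000

namespace Cfsg.Agent.SymEightThree

open Equiv Equiv.Perm

/-- Pairs of permutations of the two sets of points. -/
abbrev PP : Type := Perm (Fin 3) × Perm (Fin 5)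

/-- The element `(5 6 7)`. -/
def zP : PP := (swap 0 2 * swap 0 1, 1)
/-- The element `(0 1 2)`. -/
def wP : PP := (1, swap 0 2 * swap 0 1)
/-- The element `(3 4)`. -/
def cP : PP := (1, swap 3 4)
/-- The element `(0 1)`. -/
def aP : PP := (1, swap 0 1)
/-- The element `(5 6)`. -/
def bP : PP := (swap 0 1, 1)
/-- The element `(6 7)`. -/
def b2P : PP := (swap 1 2, 1)
/-- The element `(1 2)`. -/
def a2P : PP := (1, swap 1 2)
/-- The element `(2 3)`. -/
def sP : PP := (1, swap 2 3)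
/-- The element `(0 3)`. -/
def lP : PP := (1, swap 0 3)
/-- The element `(0 1)(2 3)`. -/
def tP : PP := (1, swap 0 1 * swap 2 3)
/-- The element `(0 2)(1 3)`. -/
def uP : PP := (1, swap 0 2 * swap 1 3)
/-- The element `(0 3)(1 4)`. -/
def pP : PP := (1, swap 0 3 * swap 1 4)
/-- The element `(4 3 2)`. -/
def gP : PP := (1, swap 2 3 * swap 2 4)
/-- The element `(0 1 2 3 4)`. -/
def fP : PP := (1, finRotate 5)

/-- The four-group on `{0, 1, 2, 3}`. -/
def fourA : List PP := [1, tP, uP, tP * uP]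

/-- The four-group on `{0, 1, 2, 4}`. -/
def fourB : List PP :=
  [1, (1, swap 0 1 * swap 2 4), (1, swap 0 2 * swap 1 4), (1, swap 0 4 * swap 1 2)]

/-- The nine elements of `⟨zP⟩ × ⟨wP⟩`. -/
def nineList : List PP :=
  [1, zP, zP * zP, wP, zP * wP, zP * zP * wP, wP * wP, zP * (wP * wP), zP * zP * (wP * wP)]

/-- The normalizer of `⟨zP⟩ × ⟨wP⟩`. -/
def InNine (x : PP) : Prop := x * zP * x⁻¹ ∈ nineList ∧ x * wP * x⁻¹ ∈ nineList

instance : DecidablePred InNine := fun x => by unfold InNine; infer_instance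

/-- The centralizer of `zP * wP` in `S₃ × S₅`. -/
def centList : List PP := nineList ++ nineList.map (· * cP)

theorem order_three_normal : ∀ x : PP, x ^ 3 = 1 → x ≠ 1 →
    (∀ g ∈ [wP, fP], g * x * g⁻¹ = x ∨ g * x * g⁻¹ = x⁻¹) → x = zP ∨ x = zP⁻¹ := by
  decide +kernel

theorem order_three_conj : ∀ x : PP, x ^ 3 = 1 → x * zP = zP * x →
    x ∉ [1, zP, zP * zP] → ∃ g : PP, g * zP = zP * g ∧
      ∃ i < 3, ∃ k < 3, k ≠ 0 ∧ g * x * g⁻¹ = zP ^ i * wP ^ k := by
  decide +kernel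

theorem conj_zP : ∀ x : PP, x * zP * x⁻¹ = zP ∨ x * zP * x⁻¹ = zP⁻¹ := by decide +kernel

theorem card_inNine : Fintype.card {x : PP // InNine x} = 72 := by decide +kernel

theorem cent_zw_list : ∀ x : PP, x * (zP * wP) = zP * wP * x → x ∈ centList := by
  decide +kernel

theorem cent_cw : ∀ x : PP, x * zP = zP * x → x * wP = wP * x → x ∈ centList := by
  decide +kernel

theorem cent_invol : ∀ x ∈ centList, x * x = 1 → x = 1 ∨ x = cP := by decide +kernel

theorem nine_fixed : ∀ d ∈ nineList, (bP * d * bP⁻¹ = d ∨ bP * d * bP⁻¹ = d⁻¹) →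
    d ∈ [1, zP, zP * zP, wP, wP * wP] := by
  decide +kernel

theorem nine_lines : ∀ d ∈ nineList, d ∉ [1, zP, zP * zP, wP, wP * wP] →
    ∃ h : PP, InNine h ∧ h * (zP * wP) * h⁻¹ = d := by
  decide +kernel

theorem nine_partner : ∀ x : PP, InNine x → x * zP * x⁻¹ = zP⁻¹ → x * wP = wP * x → x * x = 1 →
    ∃ m < 3, zP ^ m * x * (zP ^ m)⁻¹ = bP ∨ zP ^ m * x * (zP ^ m)⁻¹ = bP * cP := by
  decide +kernel

theorem nine_mem : zP ∈ nineList ∧ wP ∈ nineList ∧ InNine bP ∧ InNine aP ∧ InNine cP ∧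
    aP * zP * aP⁻¹ = zP ∧ aP * wP * aP⁻¹ = wP⁻¹ ∧ aP * aP = 1 := by
  decide +kernel

theorem inNine_of_norm : ∀ d ∈ nineList, ∀ e ∈ nineList, d * e ∈ nineList ∧ d⁻¹ ∈ nineList := by
  decide +kernel

end Cfsg.Agent.SymEightThree
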