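/-
The three-local configuration shared by `S₈` and `(A₅ × A₅).4`.
-/
import Cfsg.Agent.Lib.SymEightThree.Perms

set_option autoImplicit false
set_option maxRecDepth 100000
set_option synthInstance.maxSize 4000
set_option synthInstance.maxHeartbeats 400000
set_option linter.unusedSectionVars false

namespace Cfsg.Agent.SymEightThree

theorem orderOf_conj_eq {H : Type*} [Group H] (g x : H) : orderOf (g * x * g⁻¹) = orderOf x :=
  (MulAut.conj g).orderOf_eq x

theorem commute_conj {H : Type*} [Group H] {x y : H} (h : Commute x y) (g : H) :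
    Commute (g * x * g⁻¹) (g * y * g⁻¹) := by
  have := h.map (MulAut.conj g)
  simpa only [MulAut.conj_apply] using this

/-- An embedding of `S₃ × S₅` onto the normalizer of `⟨(5 6 7)⟩` and an involution exchanging
`(5 6 7)` and `(0 1 2)` and fixing `(3 4)`. -/
structure Pre (G : Type*) [Group G] where
  ψ : PP →* G
  inj : Function.Injective ψ
  mem_range : ∀ g : G, g * ψ zP * g⁻¹ = ψ zP ∨ g * ψ zP * g⁻¹ = (ψ zP)⁻¹ → g ∈ ψ.range
  j : G
  j_sq : j * j = 1
  j_z : j * ψ zP * j = ψ wP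
  j_c : j * ψ cP * j = ψ cP
  j_a : j * ψ aP * j = ψ bP ∨ j * ψ aP * j = ψ (bP * cP)
  card_zw : Nat.card (Subgroup.centralizer ({ψ (zP * wP)} : Set G)) = 36
  not27 : ¬ 27 ∣ Nat.card G

namespace Pre

variable {G : Type*} [Group G] (d : Pre G)

/-- The image of `(5 6 7)`. -/
abbrev z : G := d.ψ zP
/-- The image of `(0 1 2)`. -/
abbrev w : G := d.ψ wP
/-- The image of `(3 4)`. -/
abbrev c : G := d.ψ cP
/-- The image of `(0 1)`. -/
abbrev a : G := d.ψ aP
/-- The image of `(5 6)`. -/
abbrev b : G := d.ψ bP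
/-- The image of `(0 1)(2 3)`. -/
abbrev t : G := d.ψ tP
/-- The image of `(0 2)(1 3)`. -/
abbrev u : G := d.ψ uP

/-- The elements of the subgroup generated by the range and `j` that normalize `⟨z, w⟩`. -/
def Near (g : G) : Prop := g ∈ d.ψ.range ∨ d.j * g ∈ d.ψ.range

theorem commute_iff {x y : PP} : Commute (d.ψ x) (d.ψ y) ↔ x * y = y * x :=
  ⟨fun h => d.inj (by rw [map_mul, map_mul]; exact h.eq),
    fun h => Commute.map (show Commute x y from h) d.ψ⟩

theorem map_conj (x y : PP) : d.ψ x * d.ψ y * (d.ψ x)⁻¹ = d.ψ (x * y * x⁻¹) := by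
  rw [map_mul, map_mul, map_inv]

theorem j_inv : d.j⁻¹ = d.j := inv_eq_of_mul_eq_one_right d.j_sq

theorem j_cancel (g : G) : d.j * (d.j * g * d.j) * d.j = g := by
  calc d.j * (d.j * g * d.j) * d.j = (d.j * d.j) * g * (d.j * d.j) := by group
    _ = g := by rw [d.j_sq, one_mul, mul_one]

theorem j_mul (g h : G) : d.j * (g * h) * d.j = (d.j * g * d.j) * (d.j * h * d.j) := by
  calc d.j * (g * h) * d.j = d.j * g * 1 * h * d.j := by group
    _ = (d.j * g * d.j) * (d.j * h * d.j) := by rw [← d.j_sq]; group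

theorem j_conj_inv (g : G) : d.j * g⁻¹ * d.j = (d.j * g * d.j)⁻¹ := by
  rw [mul_inv_rev, mul_inv_rev, d.j_inv, mul_assoc]

theorem j_conj_pow (g : G) (k : ℕ) : d.j * g ^ k * d.j = (d.j * g * d.j) ^ k := by
  induction k with
  | zero => rw [pow_zero, pow_zero, mul_one, d.j_sq]
  | succ k ih => rw [pow_succ, pow_succ, d.j_mul, ih]

theorem j_w : d.j * d.w * d.j = d.z := by
  rw [show d.w = d.j * d.z * d.j from d.j_z.symm, d.j_cancel]

theorem j_commute {g h : G} (hgh : Commute g h) : Commute (d.j * g * d.j) (d.j * h * d.j) := by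
  show _ * _ = _ * _
  rw [← d.j_mul, ← d.j_mul, hgh.eq]

theorem j_isConj (g : G) : IsConj g (d.j * g * d.j) :=
  isConj_iff.2 ⟨d.j, by rw [d.j_inv]⟩

theorem isConj_of_PP {x y : PP} (g : PP) (h : g * x * g⁻¹ = y) : IsConj (d.ψ x) (d.ψ y) :=
  isConj_iff.2 ⟨d.ψ g, by rw [d.map_conj, h]⟩

theorem mem_of_commute {g : G} (h : Commute g d.z) : g ∈ d.ψ.range :=
  d.mem_range g (Or.inl (by rw [h.eq, mul_inv_cancel_right]))

theorem exists_of_commute_w {g : G} (h : Commute g d.w) : ∃ x, g = d.j * d.ψ x * d.j := by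
  obtain ⟨x, hx⟩ := d.mem_of_commute (d.j_w ▸ d.j_commute h)
  exact ⟨x, by rw [hx, d.j_cancel]⟩

theorem z_cube : d.z ^ 3 = 1 := by
  rw [← map_pow, show zP ^ 3 = 1 by decide +kernel, map_one]

theorem map_ne_one {x : PP} (hx : x ≠ 1) : d.ψ x ≠ 1 :=
  fun h => hx (d.inj (h.trans (map_one d.ψ).symm))

theorem orderOf_z : orderOf d.z = 3 :=
  orderOf_eq_prime d.z_cube (d.map_ne_one (by decide +kernel))

theorem isConj_z_inv : IsConj d.z d.z⁻¹ := by
  rw [← map_inv]
  exact d.isConj_of_PP bP (by decide +kernel)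

theorem isConj_z_w : IsConj d.z d.w := by
  have h := d.j_isConj d.z
  rwa [show d.j * d.z * d.j = d.w from d.j_z] at h

theorem j_zw : Commute d.j (d.ψ (zP * wP)) := by
  show _ * _ = _ * _
  have h : d.j * d.ψ (zP * wP) * d.j = d.ψ (zP * wP) := by
    rw [map_mul, d.j_mul, d.j_z, d.j_w,
      (d.commute_iff.2 (show wP * zP = zP * wP by decide +kernel)).eq]
  calc d.j * d.ψ (zP * wP) = d.j * d.ψ (zP * wP) * d.j * d.j := by rw [mul_assoc _ d.j, d.j_sq, mul_one]
    _ = d.ψ (zP * wP) * d.j := by rw [h]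

theorem commute_j_c : Commute d.j d.c := by
  show _ * _ = _ * _
  calc d.j * d.c = d.j * d.c * d.j * d.j := by rw [mul_assoc _ d.j, d.j_sq, mul_one]
    _ = d.c * d.j := by rw [d.j_c]

theorem j_notMem : d.j ∉ d.ψ.range := by
  rintro ⟨x, hx⟩
  have h : d.ψ (x * zP * x⁻¹) = d.w := by rw [← d.map_conj, hx, d.j_inv, d.j_z]
  rcases conj_zP x with e | e <;> rw [e] at h <;> exact absurd (d.inj h) (by decide +kernel)

variable [Finite G]

theorem not_isConj_z_zw : ¬ IsConj d.z (d.ψ (zP * wP)) := by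
  intro h
  obtain ⟨g, hg⟩ := isConj_iff.1 h
  have h5 : orderOf (g * d.ψ fP * g⁻¹) = 5 := by
    rw [orderOf_conj_eq, orderOf_injective _ d.inj]
    exact orderOf_eq_prime (p := 5) (hp := ⟨by norm_num⟩) (by decide +kernel) (by decide +kernel)
  have hm : g * d.ψ fP * g⁻¹ ∈ Subgroup.centralizer ({d.ψ (zP * wP)} : Set G) := by
    rw [Subgroup.mem_centralizer_singleton_iff, ← hg]
    exact (commute_conj (d.commute_iff.2 (by decide +kernel)) g).eq
  have := Subgroup.orderOf_dvd_natCard _ hm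
  rw [h5, d.card_zw] at this
  norm_num at this

/-- An element mapping `z` into `⟨z, w⟩` lies in the range or in its translate by `j`. -/
theorem near_of_conj {g : G} {x : PP} (hx : x ∈ nineList) (h : g * d.z * g⁻¹ = d.ψ x) : d.Near g := by
  have hw : d.ψ x = d.w ∨ d.ψ x = d.w⁻¹ → d.Near g := fun e => Or.inr (d.mem_range _ (by
    have h1 : d.j * g * d.z * (d.j * g)⁻¹ = d.j * d.ψ x * d.j := by
      rw [← h, mul_inv_rev, d.j_inv]; group
    rcases e with e | e <;> rw [e] at h1
    · exact Or.inl (by rw [h1, d.j_w])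
    · exact Or.inr (by rw [h1, d.j_conj_inv, d.j_w])))
  by_cases h0 : x ∈ [1, zP, zP * zP, wP, wP * wP]
  · simp only [List.mem_cons, List.not_mem_nil, or_false] at h0
    rcases h0 with rfl | rfl | rfl | rfl | rfl
    · rw [map_one, conj_eq_one_iff] at h
      exact absurd h (d.map_ne_one (by decide +kernel))
    · exact Or.inl (d.mem_range g (Or.inl h))
    · exact Or.inl (d.mem_range g (Or.inr (by
        rw [h, ← map_inv]; exact congrArg d.ψ (by decide +kernel))))
    · exact hw (Or.inl rfl)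
    · exact hw (Or.inr (by rw [← map_inv]; exact congrArg d.ψ (by decide +kernel)))
  · obtain ⟨k, -, hk⟩ := nine_lines x hx h0
    refine absurd ((isConj_iff.2 ⟨g, h⟩).trans (d.isConj_of_PP k⁻¹ ?_)) d.not_isConj_z_zw
    rw [← hk]; group

/-- The centralizer of `z * w`. -/
theorem cent_zw {g : G} (h : Commute g (d.ψ (zP * wP))) :
    ∃ x ∈ centList, g = d.ψ x ∨ g = d.j * d.ψ x := by
  set C := Subgroup.centralizer ({d.ψ (zP * wP)} : Set G) with hC
  have hcl : ∀ x ∈ centList, x * (zP * wP) = zP * wP * x := by decide +kernel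
  have hnd : centList.Nodup := by decide +kernel
  have hlen : centList.length = 18 := by decide +kernel
  have hc : ∀ i : Fin centList.length, Commute (d.ψ centList[i]) (d.ψ (zP * wP)) := fun i =>
    d.commute_iff.2 (hcl _ (List.getElem_mem _))
  let f : Bool × Fin centList.length → C := fun p => bif p.1 then
      ⟨d.j * d.ψ centList[p.2],
        Subgroup.mem_centralizer_singleton_iff.2 (d.j_zw.mul_left (hc _)).eq⟩
    else ⟨d.ψ centList[p.2], Subgroup.mem_centralizer_singleton_iff.2 (hc _).eq⟩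
  have hf : Function.Injective f := by
    rintro ⟨_ | _, a⟩ ⟨_ | _, b⟩ e <;> have e' := congrArg Subtype.val e <;>
      simp only [f, cond_false, cond_true] at e'
    · exact Prod.ext rfl (Fin.ext (hnd.getElem_inj_iff.1 (d.inj e')))
    · exact absurd ⟨centList[a] * (centList[b])⁻¹, by
        rw [map_mul, map_inv, e', mul_inv_cancel_right]⟩ d.j_notMem
    · exact absurd ⟨centList[b] * (centList[a])⁻¹, by
        rw [map_mul, map_inv, ← e', mul_inv_cancel_right]⟩ d.j_notMem
    · exact Prod.ext rfl (Fin.ext (hnd.getElem_inj_iff.1 (d.inj (mul_left_cancel e'))))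
  obtain ⟨⟨b, i⟩, hi⟩ := (hf.bijective_of_nat_card_le (le_of_eq (by
    rw [hC, d.card_zw, Nat.card_prod, Nat.card_eq_fintype_card, Fintype.card_bool, Nat.card_fin, hlen]))).2
    ⟨g, Subgroup.mem_centralizer_singleton_iff.2 h.eq⟩
  refine ⟨centList[i], List.getElem_mem _, ?_⟩
  have hi' := congrArg Subtype.val hi
  cases b
  · exact Or.inl hi'.symm
  · exact Or.inr hi'.symm

end Pre

/-- The configuration together with the two possibilities for the centralizer of `(3 4)`. -/
structure Cfg (G : Type*) [Group G] extends Pre G where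
  cent_c : (∀ g : G, Commute g (ψ cP) → g ∈ ψ.range ∨ j * g ∈ ψ.range) ∨
    ∃ π : Subgroup.centralizer ({ψ cP} : Set G) →* Equiv.Perm (Fin 6),
      Function.Surjective π ∧ ∀ g, π g = 1 ↔ (g : G) = 1 ∨ (g : G) = ψ cP

end Cfsg.Agent.SymEightThree
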