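/-
Decidable facts about the centralizer of `(3 4)`, and the group `⟨z, w⟩` in a configuration.
-/
import Cfsg.Agent.Lib.SymEightThree.Basic

set_option autoImplicit false
set_option maxRecDepth 100000
set_option synthInstance.maxSize 4000
set_option synthInstance.maxHeartbeats 400000

namespace Cfsg.Agent.SymEightThree

theorem cent_c_inNine : ∀ x : PP, x * cP = cP * x → InNine x := by decide +kernel

theorem cent_list_split : ∀ x ∈ centList, x ∈ nineList ∨ ∃ v ∈ nineList, x = v * cP := by
  decide +kernel

theorem nine_cent : ∀ x ∈ nineList,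
    x * zP = zP * x ∧ x * wP = wP * x ∧ x * cP = cP * x ∧ x ^ 3 = 1 ∧ x ≠ cP := by
  decide +kernel

theorem inNine_centList : ∀ x : PP, InNine x → x * cP = cP * x := by decide +kernel

end Cfsg.Agent.SymEightThree
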