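/-
The class of `(3 4)` and the elements of order three centralizing `(0 1)(2 3)`.
-/
import Cfsg.Agent.Lib.SymEightThree.Nine

set_option autoImplicit false
set_option maxRecDepth 100000
set_option synthInstance.maxSize 4000
set_option synthInstance.maxHeartbeats 400000
set_option linter.unusedSectionVars false

namespace Cfsg.Agent.SymEightThree

theorem cent_zt : ∀ x : PP, x * zP = zP * x → x * tP = tP * x → x ^ 9 = 1 →
    ∃ i < 3, x = zP ^ i := by
  decide +kernel

theorem nineList_closed : (∀ x ∈ nineList, ∀ y ∈ nineList, x * y ∈ nineList) ∧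
    ∀ x ∈ nineList, x⁻¹ ∈ nineList := by
  decide +kernel

/-- The subgroup on `nineList`. -/
def nineSub : Subgroup PP where
  carrier := {x | x ∈ nineList}
  one_mem' := List.mem_cons_self
  mul_mem' := fun ha hb => nineList_closed.1 _ ha _ hb
  inv_mem' := fun ha => nineList_closed.2 _ ha

theorem mem_nineSub {x : PP} : x ∈ nineSub ↔ x ∈ nineList := Iff.rfl

theorem card_nineSub : Nat.card nineSub = 9 := by
  rw [Nat.card_congr (Equiv.subtypeEquivRight (q := fun x => x ∈ nineList) fun x => mem_nineSub),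
    Nat.card_eq_fintype_card]
  decide +kernel

namespace Pre

variable {G : Type*} [Group G] [Finite G] (d : Pre G)

omit [Finite G] in
theorem tz : Commute d.t d.z := d.commute_iff.2 (by decide +kernel)

/-- A Sylow three-subgroup of the centralizer of `t` has order three. -/
theorem not_nine_dvd_cent_t : ¬ 9 ∣ Nat.card (Subgroup.centralizer ({d.t} : Set G)) := by
  intro h9
  have : Fact (Nat.Prime 3) := ⟨Nat.prime_three⟩
  set C := Subgroup.centralizer ({d.t} : Set G)
  let zc : C := ⟨d.z, Subgroup.mem_centralizer_singleton_iff.2 d.tz.symm.eq⟩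
  have hz3 : orderOf zc = 3 := by rw [← orderOf_submonoid]; exact d.orderOf_z
  have hp : IsPGroup 3 (Subgroup.zpowers zc) :=
    IsPGroup.of_card (n := 1) (by rw [Nat.card_zpowers, hz3, pow_one])
  obtain ⟨R, hR⟩ := hp.exists_le_sylow
  have h27 : ¬ 27 ∣ Nat.card C := fun h => d.not27 (h.trans (Subgroup.card_subgroup_dvd_card C))
  have hR9 : Nat.card R = 3 ^ 2 := by
    rw [R.card_eq_multiplicity]
    congr 1
    refine le_antisymm ?_ ?_
    · by_contra hlt
      exact h27 ((pow_dvd_pow 3 (not_le.1 hlt)).trans (Nat.ordProj_dvd _ 3))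
    · exact (Nat.Prime.pow_dvd_iff_le_factorization Nat.prime_three Nat.card_pos.ne').1 h9
  have hcomm : ∀ a ∈ (R : Subgroup C), a * zc = zc * a := fun a ha => by
    have := (IsPGroup.isMulCommutative_of_card_eq_prime_sq (G := (R : Subgroup C)) hR9).is_comm.comm
      ⟨a, ha⟩ ⟨zc, hR (Subgroup.mem_zpowers zc)⟩
    exact congrArg Subtype.val this
  have hsub : ∀ a ∈ (R : Subgroup C), a ∈ Subgroup.zpowers zc := by
    intro a ha
    have h1 : Commute (a : G) d.z := congrArg Subtype.val (hcomm a ha)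
    obtain ⟨x, hx⟩ := d.mem_of_commute h1
    rw [← hx] at h1
    have h2 : Commute (d.ψ x) d.t := hx ▸ Subgroup.mem_centralizer_singleton_iff.1 a.2
    have ha9 : a ^ 9 = 1 := by
      have := pow_card_eq_one' (x := (⟨a, ha⟩ : (R : Subgroup C)))
      rw [hR9] at this
      exact congrArg Subtype.val this
    obtain ⟨i, -, rfl⟩ := cent_zt x (d.commute_iff.1 h1) (d.commute_iff.1 h2)
      (d.inj (by rw [map_pow, hx, map_one]; exact congrArg Subtype.val ha9))
    refine ⟨(i : ℤ), Subtype.ext ?_⟩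
    rw [map_pow] at hx
    simp only [zpow_natCast, SubmonoidClass.coe_pow]
    exact hx
  have h3 : Nat.card R ≤ 3 := by
    have := Subgroup.card_le_of_le (show (R : Subgroup C) ≤ Subgroup.zpowers zc from hsub)
    rwa [Nat.card_zpowers, hz3] at this
  omega

/-- The elements of order three commuting with `t` are conjugate to `z`. -/
theorem three_cent_t {x : G} (hx : Commute x d.t) (h3 : orderOf x = 3) : IsConj d.z x := by
  have : Fact (Nat.Prime 3) := ⟨Nat.prime_three⟩
  set C := Subgroup.centralizer ({d.t} : Set G)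
  let zc : C := ⟨d.z, Subgroup.mem_centralizer_singleton_iff.2 d.tz.symm.eq⟩
  let xc : C := ⟨x, Subgroup.mem_centralizer_singleton_iff.2 hx.eq⟩
  have hcard : ∀ a : C, orderOf a = 3 → ∃ R : Sylow 3 C, (R : Subgroup C) = Subgroup.zpowers a := by
    intro a ha
    obtain ⟨R, hR⟩ := (IsPGroup.of_card (n := 1) (show Nat.card (Subgroup.zpowers a) = 3 ^ 1 by
      rw [Nat.card_zpowers, ha, pow_one])).exists_le_sylow
    refine ⟨R, (Subgroup.eq_of_le_of_card_ge hR ?_).symm⟩
    rw [Nat.card_zpowers, ha, R.card_eq_multiplicity]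
    refine le_trans (pow_le_pow_right₀ (by norm_num) (?_ : _ ≤ 1)) (le_of_eq (pow_one 3))
    by_contra hlt
    exact d.not_nine_dvd_cent_t ((pow_dvd_pow 3 (not_le.1 hlt)).trans (Nat.ordProj_dvd _ 3))
  obtain ⟨R, hR⟩ := hcard zc (by rw [← orderOf_submonoid]; exact d.orderOf_z)
  obtain ⟨S, hS⟩ := hcard xc (by rw [← orderOf_submonoid]; exact h3)
  obtain ⟨g, hg⟩ := MulAction.exists_smul_eq C R S
  have hm : g * zc * g⁻¹ ∈ (S : Subgroup C) := by
    rw [← hg, Sylow.coe_subgroup_smul]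
    exact ⟨zc, hR ▸ Subgroup.mem_zpowers zc, rfl⟩
  rw [hS] at hm
  obtain ⟨k, hk⟩ := hm
  have hk' : x ^ k = (g : G) * d.z * (g : G)⁻¹ := congrArg Subtype.val hk
  have hx3 : x ^ (3 : ℤ) = 1 := by
    rw [show (3 : ℤ) = ((3 : ℕ) : ℤ) from rfl, zpow_natCast, ← h3, pow_orderOf_eq_one]
  rw [← Int.emod_add_mul_ediv k 3, zpow_add, zpow_mul, hx3, one_zpow, mul_one] at hk'
  have h0 := Int.emod_nonneg k (show (3 : ℤ) ≠ 0 by norm_num)
  have h1 := Int.emod_lt_of_pos k (show (0 : ℤ) < 3 by norm_num)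
  interval_cases hh : k % 3
  · rw [zpow_zero, eq_mul_inv_iff_mul_eq, one_mul, eq_comm, mul_eq_left] at hk'
    exact absurd (orderOf_eq_one_iff.2 hk') (by rw [d.orderOf_z]; norm_num)
  · rw [zpow_one] at hk'
    exact isConj_iff.2 ⟨g, hk'.symm⟩
  · refine d.isConj_z_inv.trans (isConj_iff.2 ⟨g, ?_⟩)
    rw [← conj_inv, ← hk', zpow_two, inv_eq_iff_mul_eq_one, ← pow_two, ← pow_succ,
      show 2 + 1 = 3 from rfl, ← h3, pow_orderOf_eq_one]

theorem not_isConj_t_of_commute_zw {i : G} (hi : Commute i (d.ψ (zP * wP))) : ¬ IsConj d.t i := by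
  intro h
  obtain ⟨g, hg⟩ := isConj_iff.1 h
  have hc : Commute (g⁻¹ * d.ψ (zP * wP) * g) d.t := by
    have := commute_conj hi.symm g⁻¹
    rw [inv_inv] at this
    rwa [show d.t = g⁻¹ * i * g by rw [← hg]; group]
  have h3 : orderOf (g⁻¹ * d.ψ (zP * wP) * g) = 3 := by
    have := orderOf_conj_eq g⁻¹ (d.ψ (zP * wP))
    rw [inv_inv] at this
    rw [this, orderOf_injective _ d.inj]
    exact orderOf_eq_prime (by decide +kernel) (by decide +kernel)
  exact d.not_isConj_z_zw ((d.three_cent_t hc h3).trans (isConj_iff.2 ⟨g, by group⟩))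

theorem not_isConj_t_c : ¬ IsConj d.t d.c :=
  d.not_isConj_t_of_commute_zw (d.commute_iff.2 (by decide +kernel))

theorem not_isConj_t_j : ¬ IsConj d.t d.j := d.not_isConj_t_of_commute_zw d.j_zw

theorem not_isConj_t_jc : ¬ IsConj d.t (d.j * d.c) :=
  d.not_isConj_t_of_commute_zw (d.j_zw.mul_left (d.commute_iff.2 (by decide +kernel)))

theorem not_isConj_t_a : ¬ IsConj d.t d.a := fun h =>
  d.not_isConj_t_c (h.trans (d.isConj_of_PP pP (by decide +kernel)))

/-- The elements of `nineList` are conjugate to `z`, `w` or `z * w`. -/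
theorem eq_c_of_isConj {i : G} (hi : Commute i (d.ψ (zP * wP))) (h : IsConj d.c i) : i = d.c := by
  classical
  obtain ⟨q, hq⟩ := isConj_iff.1 h
  have : Fact (Nat.Prime 3) := ⟨Nat.prime_three⟩
  set C := Subgroup.centralizer ({d.c} : Set G)
  set D := nineSub.map d.ψ with hD
  have hDC : D ≤ C := by
    rintro _ ⟨x, hx, rfl⟩
    exact Subgroup.mem_centralizer_singleton_iff.2 (d.commute_iff.2 (nine_cent x hx).2.2.1).eq
  have hD9 : Nat.card (D.subgroupOf C) = 3 ^ 2 := by
    rw [Nat.card_congr (Subgroup.subgroupOfEquivOfLe hDC).toEquiv, hD,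
      Nat.card_congr (Subgroup.equivMapOfInjective _ _ d.inj).toEquiv.symm, card_nineSub]
    norm_num
  obtain ⟨R, hR⟩ := (IsPGroup.of_card hD9).exists_le_sylow
  have hReq : D.subgroupOf C = (R : Subgroup C) := Subgroup.eq_of_le_of_card_ge hR (by
    rw [hD9, R.card_eq_multiplicity]
    refine pow_le_pow_right₀ (by norm_num) ?_
    by_contra hlt
    exact d.not27 (((pow_dvd_pow 3 (not_le.1 hlt)).trans (Nat.ordProj_dvd _ 3)).trans
      (Subgroup.card_subgroup_dvd_card C)))
  have hec : Commute (q⁻¹ * d.ψ (zP * wP) * q) d.c := by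
    have := commute_conj hi.symm q⁻¹
    rw [inv_inv] at this
    rwa [show d.c = q⁻¹ * i * q by rw [← hq]; group]
  let e : C := ⟨_, Subgroup.mem_centralizer_singleton_iff.2 hec.eq⟩
  have hp : IsPGroup 3 (Subgroup.zpowers e) := IsPGroup.of_card (n := 1) (by
    rw [Nat.card_zpowers, ← orderOf_submonoid, pow_one]
    show orderOf (q⁻¹ * d.ψ (zP * wP) * q) = 3
    have := orderOf_conj_eq q⁻¹ (d.ψ (zP * wP))
    rw [inv_inv] at this
    rw [this, orderOf_injective _ d.inj]
    exact orderOf_eq_prime (by decide +kernel) (by decide +kernel))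
  obtain ⟨S, hS⟩ := hp.exists_le_sylow
  obtain ⟨m, hm⟩ := MulAction.exists_smul_eq C S R
  have hmem : m * e * m⁻¹ ∈ D.subgroupOf C := by
    rw [hReq, ← hm, Sylow.coe_subgroup_smul]
    exact ⟨e, hS (Subgroup.mem_zpowers e), rfl⟩
  obtain ⟨x, hx, hxe⟩ := hmem
  simp only [Subgroup.coe_mul, Subgroup.coe_inv, Subgroup.subtype_apply, e] at hxe
  have hne : x ∉ [1, zP, zP * zP, wP, wP * wP] := by
    intro h0
    have hconj : IsConj (d.ψ (zP * wP)) (d.ψ x) :=
      isConj_iff.2 ⟨(m : G) * q⁻¹, by rw [hxe]; group⟩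
    simp only [List.mem_cons, List.not_mem_nil, or_false] at h0
    rcases h0 with rfl | rfl | rfl | rfl | rfl
    · rw [map_one] at hconj
      exact d.map_ne_one (by decide +kernel : zP * wP ≠ 1) (isConj_one_left.1 hconj)
    · exact d.not_isConj_z_zw hconj.symm
    · refine d.not_isConj_z_zw (d.isConj_z_inv.trans ?_)
      rw [← map_inv, show zP⁻¹ = zP * zP by decide +kernel]
      exact hconj.symm
    · exact d.not_isConj_z_zw (d.isConj_z_w.trans hconj.symm)
    · refine d.not_isConj_z_zw ((d.isConj_z_w.trans ?_).trans hconj.symm)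
      exact d.isConj_of_PP aP (by decide +kernel)
  obtain ⟨k, hk, hkx⟩ := nine_lines x hx hne
  have hn : Commute ((d.ψ k)⁻¹ * (m : G) * q⁻¹) (d.ψ (zP * wP)) := by
    show _ * _ = _ * _
    rw [← mul_inv_eq_iff_eq_mul]
    calc (d.ψ k)⁻¹ * (m : G) * q⁻¹ * d.ψ (zP * wP) * ((d.ψ k)⁻¹ * (m : G) * q⁻¹)⁻¹
        = (d.ψ k)⁻¹ * ((m : G) * (q⁻¹ * d.ψ (zP * wP) * q) * (m : G)⁻¹) * d.ψ k := by group
      _ = d.ψ (zP * wP) := by rw [← hxe, ← hkx, ← d.map_conj]; group
  have hcn : Commute ((d.ψ k)⁻¹ * (m : G) * q⁻¹) d.c := by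
    obtain ⟨v, hv, e' | e'⟩ := d.cent_zw hn <;> rw [e']
    · exact d.commute_iff.2 ((by decide +kernel : ∀ v ∈ centList, v * cP = cP * v) v hv)
    · exact d.commute_j_c.mul_left (d.commute_iff.2 ((by decide +kernel : ∀ v ∈ centList, v * cP = cP * v) v hv))
  have hk' : Commute (d.ψ k) d.c := d.commute_iff.2 (inNine_centList k hk)
  have hm' : Commute (m : G) d.c := Subgroup.mem_centralizer_singleton_iff.1 m.2
  have hq' : Commute q d.c := by
    have := ((hcn.inv_left.mul_left hk'.inv_left).mul_left hm')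
    rwa [show ((d.ψ k)⁻¹ * (m : G) * q⁻¹)⁻¹ * (d.ψ k)⁻¹ * (m : G) = q by group] at this
  rw [← hq, hq'.eq, mul_inv_cancel_right]

theorem not_isConj_c_j : ¬ IsConj d.c d.j := fun h =>
  d.j_notMem ⟨cP, (d.eq_c_of_isConj d.j_zw h).symm⟩

theorem not_isConj_c_jc : ¬ IsConj d.c (d.j * d.c) := fun h => by
  have := d.eq_c_of_isConj (d.j_zw.mul_left (d.commute_iff.2 (by decide +kernel))) h
  rw [mul_eq_right] at this
  exact d.j_notMem ⟨1, by rw [map_one, this]⟩

omit [Finite G] in
theorem isConj_c_a : IsConj d.c d.a := d.isConj_of_PP pP (by decide +kernel)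

end Pre

end Cfsg.Agent.SymEightThree
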