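/-
Facts about involutions and elements of order three of the symmetric group on six points.
-/
import Cfsg.Agent.EqLemmas
import Mathlib.GroupTheory.Perm.Fin

set_option autoImplicit false
set_option maxRecDepth 100000
set_option synthInstance.maxSize 4000
set_option synthInstance.maxHeartbeats 400000

namespace Cfsg.Agent.SymEightThree.Six

open Equiv Equiv.Perm

/-- The list of images. -/
def code (a : Perm (Fin 6)) : List ℕ := List.ofFn fun i => (a i).val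

/-- Composition of lists of images. -/
def comp (a b : List ℕ) : List ℕ := b.map fun i => a.getD i 0

/-- The identity list. -/
def idL : List ℕ := [0, 1, 2, 3, 4, 5]

/-- Equality of lists. -/
def eqL : List ℕ → List ℕ → Bool
  | [], [] => true
  | a :: l, b :: m => Nat.beq a b && eqL l m
  | _, _ => false

theorem eqL_iff : ∀ {l m : List ℕ}, eqL l m = true ↔ l = m
  | [], [] => by simp [eqL]
  | a :: l, b :: m => by
    rw [eqL, Bool.and_eq_true, eqL_iff, List.cons.injEq]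
    exact and_congr_left' ⟨Nat.eq_of_beq_eq_true, fun h => h ▸ Nat.beq_refl a⟩
  | [], _ :: _ => by simp [eqL]
  | _ :: _, [] => by simp [eqL]

theorem code_injective : Function.Injective code := fun a b h =>
  Equiv.ext fun i => Fin.ext (congrFun (List.ofFn_inj.1 h) i)

theorem code_mul (a b : Perm (Fin 6)) : code (a * b) = comp (code a) (code b) := by
  simp only [code, comp, List.map_ofFn]
  congr 1
  funext i
  rw [Function.comp_apply, List.getD_eq_getElem _ _ (by simp), List.getElem_ofFn]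
  rfl

theorem code_one : code 1 = idL := by decide +kernel

/-- The lists of the involutions. -/
def invs : List (List ℕ) :=
  [ [0, 1, 2, 3, 5, 4], [0, 1, 2, 4, 3, 5], [0, 1, 2, 5, 4, 3], [0, 1, 3, 2, 4, 5], [0, 1, 3, 2, 5, 4],
    [0, 1, 4, 3, 2, 5], [0, 1, 4, 5, 2, 3], [0, 1, 5, 3, 4, 2], [0, 1, 5, 4, 3, 2], [0, 2, 1, 3, 4, 5],
    [0, 2, 1, 3, 5, 4], [0, 2, 1, 4, 3, 5], [0, 2, 1, 5, 4, 3], [0, 3, 2, 1, 4, 5], [0, 3, 2, 1, 5, 4],
    [0, 3, 4, 1, 2, 5], [0, 3, 5, 1, 4, 2], [0, 4, 2, 3, 1, 5], [0, 4, 2, 5, 1, 3], [0, 4, 3, 2, 1, 5],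
    [0, 4, 5, 3, 1, 2], [0, 5, 2, 3, 4, 1], [0, 5, 2, 4, 3, 1], [0, 5, 3, 2, 4, 1], [0, 5, 4, 3, 2, 1],
    [1, 0, 2, 3, 4, 5], [1, 0, 2, 3, 5, 4], [1, 0, 2, 4, 3, 5], [1, 0, 2, 5, 4, 3], [1, 0, 3, 2, 4, 5],
    [1, 0, 3, 2, 5, 4], [1, 0, 4, 3, 2, 5], [1, 0, 4, 5, 2, 3], [1, 0, 5, 3, 4, 2], [1, 0, 5, 4, 3, 2],
    [2, 1, 0, 3, 4, 5], [2, 1, 0, 3, 5, 4], [2, 1, 0, 4, 3, 5], [2, 1, 0, 5, 4, 3], [2, 3, 0, 1, 4, 5],
    [2, 3, 0, 1, 5, 4], [2, 4, 0, 3, 1, 5], [2, 4, 0, 5, 1, 3], [2, 5, 0, 3, 4, 1], [2, 5, 0, 4, 3, 1],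
    [3, 1, 2, 0, 4, 5], [3, 1, 2, 0, 5, 4], [3, 1, 4, 0, 2, 5], [3, 1, 5, 0, 4, 2], [3, 2, 1, 0, 4, 5],
    [3, 2, 1, 0, 5, 4], [3, 4, 2, 0, 1, 5], [3, 4, 5, 0, 1, 2], [3, 5, 2, 0, 4, 1], [3, 5, 4, 0, 2, 1],
    [4, 1, 2, 3, 0, 5], [4, 1, 2, 5, 0, 3], [4, 1, 3, 2, 0, 5], [4, 1, 5, 3, 0, 2], [4, 2, 1, 3, 0, 5],
    [4, 2, 1, 5, 0, 3], [4, 3, 2, 1, 0, 5], [4, 3, 5, 1, 0, 2], [4, 5, 2, 3, 0, 1], [4, 5, 3, 2, 0, 1],
    [5, 1, 2, 3, 4, 0], [5, 1, 2, 4, 3, 0], [5, 1, 3, 2, 4, 0], [5, 1, 4, 3, 2, 0], [5, 2, 1, 3, 4, 0],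
    [5, 2, 1, 4, 3, 0], [5, 3, 2, 1, 4, 0], [5, 3, 4, 1, 2, 0], [5, 4, 2, 3, 1, 0], [5, 4, 3, 2, 1, 0] ]

/-- The lists of the elements of order three. -/
def threes : List (List ℕ) :=
  [ [0, 1, 2, 4, 5, 3], [0, 1, 2, 5, 3, 4], [0, 1, 3, 4, 2, 5], [0, 1, 3, 5, 4, 2], [0, 1, 4, 2, 3, 5],
    [0, 1, 4, 3, 5, 2], [0, 1, 5, 2, 4, 3], [0, 1, 5, 3, 2, 4], [0, 2, 3, 1, 4, 5], [0, 2, 4, 3, 1, 5],
    [0, 2, 5, 3, 4, 1], [0, 3, 1, 2, 4, 5], [0, 3, 2, 4, 1, 5], [0, 3, 2, 5, 4, 1], [0, 4, 1, 3, 2, 5],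
    [0, 4, 2, 1, 3, 5], [0, 4, 2, 3, 5, 1], [0, 5, 1, 3, 4, 2], [0, 5, 2, 1, 4, 3], [0, 5, 2, 3, 1, 4],
    [1, 2, 0, 3, 4, 5], [1, 2, 0, 4, 5, 3], [1, 2, 0, 5, 3, 4], [1, 3, 2, 0, 4, 5], [1, 3, 4, 0, 5, 2],
    [1, 3, 5, 0, 2, 4], [1, 4, 2, 3, 0, 5], [1, 4, 3, 5, 0, 2], [1, 4, 5, 2, 0, 3], [1, 5, 2, 3, 4, 0],
    [1, 5, 3, 4, 2, 0], [1, 5, 4, 2, 3, 0], [2, 0, 1, 3, 4, 5], [2, 0, 1, 4, 5, 3], [2, 0, 1, 5, 3, 4],
    [2, 1, 3, 0, 4, 5], [2, 1, 4, 3, 0, 5], [2, 1, 5, 3, 4, 0], [2, 3, 4, 5, 0, 1], [2, 3, 5, 4, 1, 0],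
    [2, 4, 3, 0, 5, 1], [2, 4, 5, 1, 3, 0], [2, 5, 3, 0, 1, 4], [2, 5, 4, 1, 0, 3], [3, 0, 2, 1, 4, 5],
    [3, 0, 4, 1, 5, 2], [3, 0, 5, 1, 2, 4], [3, 1, 0, 2, 4, 5], [3, 1, 2, 4, 0, 5], [3, 1, 2, 5, 4, 0],
    [3, 2, 4, 5, 1, 0], [3, 2, 5, 4, 0, 1], [3, 4, 0, 2, 5, 1], [3, 4, 1, 5, 2, 0], [3, 5, 0, 2, 1, 4],
    [3, 5, 1, 4, 0, 2], [4, 0, 2, 3, 1, 5], [4, 0, 3, 5, 1, 2], [4, 0, 5, 2, 1, 3], [4, 1, 0, 3, 2, 5],
    [4, 1, 2, 0, 3, 5], [4, 1, 2, 3, 5, 0], [4, 2, 3, 1, 5, 0], [4, 2, 5, 0, 3, 1], [4, 3, 0, 5, 2, 1],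
    [4, 3, 1, 2, 5, 0], [4, 5, 0, 1, 2, 3], [4, 5, 1, 0, 3, 2], [5, 0, 2, 3, 4, 1], [5, 0, 3, 4, 2, 1],
    [5, 0, 4, 2, 3, 1], [5, 1, 0, 3, 4, 2], [5, 1, 2, 0, 4, 3], [5, 1, 2, 3, 0, 4], [5, 2, 3, 1, 0, 4],
    [5, 2, 4, 0, 1, 3], [5, 3, 0, 4, 1, 2], [5, 3, 1, 2, 0, 4], [5, 4, 0, 1, 3, 2], [5, 4, 1, 0, 2, 3] ]

/-- The representatives of the classes of involutions. -/
def reps : List (List ℕ) := [[1, 0, 2, 3, 4, 5], [1, 0, 3, 2, 4, 5], [1, 0, 3, 2, 5, 4]]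

theorem invs_complete : ∀ a : Perm (Fin 6), a * a = 1 → a ≠ 1 → code a ∈ invs := by decide +kernel

theorem threes_complete : ∀ a : Perm (Fin 6), a ^ 3 = 1 → a ≠ 1 → code a ∈ threes := by decide +kernel

theorem exists_rep : ∀ a : Perm (Fin 6), a * a = 1 → a ≠ 1 → ∃ g : Perm (Fin 6), code (g * a * g⁻¹) ∈ reps := by
  decide +kernel

/-- Commutation of lists. -/
def commB (a b : List ℕ) : Bool := eqL (comp a b) (comp b a)

/-- The braid relation of different lists. -/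
def braidB (a b : List ℕ) : Bool := !eqL a b && eqL (comp (comp a b) a) (comp (comp b a) b)

/-- The check of the completion of a chain. -/
def chainCheck : Bool :=
  reps.all fun B => (invs.filter fun b => braidB B b).all fun b =>
    (invs.filter fun c => commB c B && commB c b).all fun c =>
      (invs.filter fun x => commB x B && commB x b && braidB x c).all fun x =>
        (invs.filter fun s => commB s b && braidB s c && braidB s B).all fun s =>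
          commB s x || commB (comp (comp c s) c) x

theorem chainCheck_eq : chainCheck = true := by decide +kernel

theorem chain {B b c x s : Perm (Fin 6)} (hB : B * B = 1 ∧ B ≠ 1) (hb : b * b = 1 ∧ b ≠ 1)
    (hc : c * c = 1 ∧ c ≠ 1) (hx : x * x = 1 ∧ x ≠ 1) (hs : s * s = 1 ∧ s ≠ 1)
    (hBb : B ≠ b ∧ B * b * B = b * B * b) (hcB : Commute c B) (hcb : Commute c b)
    (hxB : Commute x B) (hxb : Commute x b) (hxc : x ≠ c ∧ x * c * x = c * x * c)
    (hsb : Commute s b) (hsc : s ≠ c ∧ s * c * s = c * s * c) (hsB : s ≠ B ∧ s * B * s = B * s * B) :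
    Commute s x ∨ Commute (c * s * c) x := by
  obtain ⟨g, hg⟩ := exists_rep B hB.1 hB.2
  let f := MulAut.conj g
  have hinv : ∀ {a : Perm (Fin 6)}, a * a = 1 ∧ a ≠ 1 → code (f a) ∈ invs := fun ha =>
    invs_complete _ (by rw [← map_mul, ha.1, map_one]) (fun h => ha.2 (f.map_eq_one_iff.1 h))
  have hcm : ∀ {a a' : Perm (Fin 6)}, Commute a a' → commB (code (f a)) (code (f a')) = true := fun h => by
    rw [commB, eqL_iff, ← code_mul, ← code_mul, ← map_mul, ← map_mul, h.eq]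
  have hbr : ∀ {a a' : Perm (Fin 6)}, a ≠ a' ∧ a * a' * a = a' * a * a' →
      braidB (code (f a)) (code (f a')) = true := fun h => by
    rw [braidB, Bool.and_eq_true, Bool.not_eq_true', ← Bool.not_eq_true, eqL_iff, eqL_iff]
    exact ⟨fun e => h.1 (f.injective (code_injective e)), by
      rw [← code_mul, ← code_mul, ← code_mul, ← code_mul, ← map_mul, ← map_mul, ← map_mul, ← map_mul, h.2]⟩
  have key := chainCheck_eq
  simp only [chainCheck, List.all_eq_true, List.mem_filter, and_imp, Bool.and_eq_true,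
    Bool.or_eq_true] at key
  have := key (code (f B)) hg (code (f b)) (hinv hb) (hbr hBb) (code (f c)) (hinv hc) (hcm hcB) (hcm hcb)
    (code (f x)) (hinv hx) (hcm hxB) (hcm hxb) (hbr hxc) (code (f s)) (hinv hs) (hcm hsb) (hbr hsc) (hbr hsB)
  simp only [commB, eqL_iff, ← code_mul, ← map_mul] at this
  exact this.imp (fun h => f.injective (code_injective h)) fun h => f.injective (code_injective h)

/-- The check for the elements of order three centralizing an involution. -/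
def threeCheck : Bool :=
  reps.all fun e => (threes.filter fun z => commB z e).all fun z =>
    let R := threes.filter fun r => commB r e && !eqL r z && !eqL r (comp z z)
    (R.any fun r => eqL (comp (comp (comp z r) (comp z r)) (comp z r)) idL) &&
      R.all fun r => R.all fun r' =>
        [idL, z, comp z z].any fun k =>
          eqL (comp r' k) (comp k r) || eqL (comp r' k) (comp k (comp r r))

theorem threeCheck_eq : threeCheck = true := by decide +kernel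

theorem three {e z : Perm (Fin 6)} (he : e * e = 1 ∧ e ≠ 1) (hz : z ^ 3 = 1 ∧ z ≠ 1) (hze : Commute z e) :
    (∃ r, r ^ 3 = 1 ∧ r ≠ 1 ∧ Commute r e ∧ r ≠ z ∧ r ≠ z * z ∧ (z * r) ^ 3 = 1) ∧
      ∀ r r', r ^ 3 = 1 → r ≠ 1 → Commute r e → r ≠ z → r ≠ z * z →
        r' ^ 3 = 1 → r' ≠ 1 → Commute r' e → r' ≠ z → r' ≠ z * z →
          ∃ i < 3, r' * z ^ i = z ^ i * r ∨ r' * z ^ i = z ^ i * r⁻¹ := by
  obtain ⟨g, hg⟩ := exists_rep e he.1 he.2
  let f := MulAut.conj g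
  have hthree : ∀ {a : Perm (Fin 6)}, a ^ 3 = 1 → a ≠ 1 → code (f a) ∈ threes := fun ha ha' =>
    threes_complete _ (by rw [← map_pow, ha, map_one]) (fun h => ha' (f.map_eq_one_iff.1 h))
  have hcm : ∀ {a a' : Perm (Fin 6)}, Commute a a' → commB (code (f a)) (code (f a')) = true := fun h => by
    rw [commB, eqL_iff, ← code_mul, ← code_mul, ← map_mul, ← map_mul, h.eq]
  have key := threeCheck_eq
  simp only [threeCheck, List.all_eq_true, List.any_eq_true, List.mem_filter, Bool.and_eq_true,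
    Bool.or_eq_true, Bool.not_eq_true', ← Bool.not_eq_true, eqL_iff] at key
  obtain ⟨⟨r₀, ⟨hr₀, ⟨hc₀, h1₀⟩, h2₀⟩, h3₀⟩, hall⟩ := key (code (f e)) hg (code (f z)) ⟨hthree hz.1 hz.2, hcm hze⟩
  have hmem : ∀ r, r ^ 3 = 1 → r ≠ 1 → Commute r e → r ≠ z → r ≠ z * z →
      code (f r) ∈ threes ∧ (commB (code (f r)) (code (f e)) = true ∧ code (f r) ≠ code (f z)) ∧
        code (f r) ≠ comp (code (f z)) (code (f z)) := fun r h h' hc h1 h2 =>
    ⟨hthree h h', ⟨hcm hc, fun e => h1 (f.injective (code_injective e))⟩,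
      fun e => h2 (f.injective (code_injective (by rw [e, ← code_mul, map_mul])))⟩
  constructor
  · obtain ⟨a, ha⟩ : ∃ a : Perm (Fin 6), code a = r₀ := by
      have : ∀ l ∈ threes, ∃ a : Perm (Fin 6), code a = l := by decide +kernel
      exact this r₀ hr₀
    subst ha
    obtain ⟨a, rfl⟩ := f.surjective a
    refine ⟨a, ?_, ?_, ?_, ?_, ?_, ?_⟩
    · have : ∀ a : Perm (Fin 6), code a ∈ threes → a ^ 3 = 1 := by decide +kernel
      exact f.injective (by rw [map_pow, this _ hr₀, map_one])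
    · rintro rfl
      rw [map_one] at hr₀
      exact absurd hr₀ (by decide +kernel)
    · rw [commB, eqL_iff, ← code_mul, ← code_mul, ← map_mul, ← map_mul] at hc₀
      exact f.injective (code_injective hc₀)
    · exact fun h => h1₀ (by rw [h])
    · exact fun h => h2₀ (by rw [h, map_mul, code_mul])
    · refine f.injective (code_injective ?_)
      rw [pow_succ, pow_two, map_mul, map_mul, map_mul, map_one, code_mul, code_mul, code_mul, code_one]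
      exact h3₀
  · intro r r' a1 a2 a3 a4 a5 b1 b2 b3 b4 b5
    obtain ⟨k, hk, h⟩ := hall _ (hmem r a1 a2 a3 a4 a5) _ (hmem r' b1 b2 b3 b4 b5)
    have hr2 : r * r = r⁻¹ := eq_inv_of_mul_eq_one_left (by rw [← pow_two, ← pow_succ, a1])
    obtain ⟨i, hi, rfl⟩ : ∃ i < 3, k = code (f (z ^ i)) := by
      simp only [List.mem_cons, List.not_mem_nil, or_false] at hk
      rcases hk with rfl | rfl | rfl
      · exact ⟨0, by norm_num, by rw [pow_zero, map_one, code_one]⟩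
      · exact ⟨1, by norm_num, by rw [pow_one]⟩
      · exact ⟨2, by norm_num, by rw [pow_two, map_mul, code_mul]⟩
    simp only [← code_mul, ← map_mul, hr2] at h
    exact ⟨i, hi, h.imp (fun h => f.injective (code_injective h)) fun h => f.injective (code_injective h)⟩

end Cfsg.Agent.SymEightThree.Six
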