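/-
The centralizer of `(0 1)`, conjugate to the one of `(3 4)`.
-/
import Cfsg.Agent.Lib.SymEightThree.CentC
import Cfsg.Agent.Lib.SymEightThree.Six

set_option autoImplicit false
set_option maxRecDepth 100000
set_option synthInstance.maxSize 4000
set_option synthInstance.maxHeartbeats 400000
set_option linter.unusedSectionVars false

namespace Cfsg.Agent.SymEightThree

namespace Cfg

variable {G : Type*} [Group G] [Finite G] (d : Cfg G)

theorem p_conj : d.ψ pP * d.a * d.ψ pP = d.c ∧ d.ψ pP * d.c * d.ψ pP = d.a ∧ d.ψ pP * d.ψ pP = 1 := by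
  refine ⟨?_, ?_, ?_⟩ <;> simp only [← map_mul]
  · exact congrArg d.ψ (by decide +kernel)
  · exact congrArg d.ψ (by decide +kernel)
  · rw [show pP * pP = 1 by decide +kernel, map_one]

theorem p_commute {g : G} (h : Commute g d.a) : Commute (d.ψ pP * g * d.ψ pP) d.c := by
  obtain ⟨h1, -, h3⟩ := d.p_conj
  have hinv : (d.ψ pP)⁻¹ = d.ψ pP := inv_eq_of_mul_eq_one_right h3
  have := commute_conj h (d.ψ pP)
  rwa [hinv, h1] at this

/-- The two possibilities for the centralizer of `(0 1)`. -/
theorem cent_a : (∀ g : G, Commute g d.a → d.Near (d.ψ pP * g * d.ψ pP)) ∨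
    ∃ π : Subgroup.centralizer ({d.a} : Set G) →* Equiv.Perm (Fin 6),
      Function.Surjective π ∧ ∀ g, π g = 1 ↔ (g : G) = 1 ∨ (g : G) = d.a := by
  obtain ⟨h1, h2, h3⟩ := d.p_conj
  have hinv : (d.ψ pP)⁻¹ = d.ψ pP := inv_eq_of_mul_eq_one_right h3
  rcases d.cent_c with h | ⟨π, hπ, hker⟩
  · exact Or.inl fun g hg => h _ (d.p_commute hg)
  · right
    let f : Subgroup.centralizer ({d.a} : Set G) →* Subgroup.centralizer ({d.c} : Set G) :=
      ((MulAut.conj (d.ψ pP)).toMonoidHom.comp (Subgroup.subtype _)).codRestrict _ fun g => by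
        rw [Subgroup.mem_centralizer_singleton_iff]
        show MulAut.conj (d.ψ pP) (g : G) * d.c = d.c * MulAut.conj (d.ψ pP) (g : G)
        rw [MulAut.conj_apply, hinv]
        exact (d.p_commute (Subgroup.mem_centralizer_singleton_iff.1 g.2)).eq
    have hf : ∀ g, ((f g : Subgroup.centralizer ({d.c} : Set G)) : G) = d.ψ pP * (g : G) * d.ψ pP := fun g => by
      show MulAut.conj (d.ψ pP) (g : G) = _
      rw [MulAut.conj_apply, hinv]
    have hpp : ∀ g : G, d.ψ pP * (d.ψ pP * g * d.ψ pP) * d.ψ pP = g := fun g => by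
      calc _ = (d.ψ pP * d.ψ pP) * g * (d.ψ pP * d.ψ pP) := by group
        _ = g := by rw [h3, one_mul, mul_one]
    refine ⟨π.comp f, fun y => ?_, fun g => ?_⟩
    · obtain ⟨g, rfl⟩ := hπ y
      have hg : Commute (d.ψ pP * (g : G) * d.ψ pP) d.a := by
        have hgc : Commute (g : G) d.c := Subgroup.mem_centralizer_singleton_iff.1 g.2
        have := commute_conj hgc (d.ψ pP)
        rwa [hinv, h2] at this
      exact ⟨⟨_, Subgroup.mem_centralizer_singleton_iff.2 hg.eq⟩,
        congrArg π (Subtype.ext (by rw [hf]; exact hpp _))⟩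
    · rw [MonoidHom.comp_apply, hker, hf]
      refine or_congr ⟨fun h => ?_, fun h => by rw [h, mul_one, h3]⟩
        ⟨fun h => ?_, fun h => by rw [h]; exact h1⟩
      · rw [← hpp (g : G), h, mul_one, h3]
      · rw [← hpp (g : G), h]; exact h2

theorem card_cent_a (π : Subgroup.centralizer ({d.a} : Set G) →* Equiv.Perm (Fin 6))
    (hker : ∀ g, π g = 1 ↔ (g : G) = 1 ∨ (g : G) = d.a) :
    Nat.card (Subgroup.centralizer ({d.a} : Set G)) ≤ 1440 := by
  have h1 : Nat.card π.ker ≤ 2 := by
    let f : Bool → π.ker := fun b => bif b then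
        ⟨⟨d.a, Subgroup.mem_centralizer_singleton_iff.2 rfl⟩, (hker _).2 (Or.inr rfl)⟩
      else 1
    refine (Nat.card_le_card_of_surjective f fun g => ?_).trans (le_of_eq (by
      rw [Nat.card_eq_fintype_card, Fintype.card_bool]))
    rcases (hker g.1).1 g.2 with h | h
    · exact ⟨false, Subtype.ext (Subtype.ext h.symm)⟩
    · exact ⟨true, Subtype.ext (Subtype.ext h.symm)⟩
  have h2 : Nat.card π.range ≤ 720 := by
    refine (Subgroup.card_le_card_group _).trans (le_of_eq ?_)
    rw [Nat.card_perm, Nat.card_fin]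
    rfl
  rw [Subgroup.card_eq_card_quotient_mul_card_subgroup π.ker,
    Nat.card_congr (QuotientGroup.quotientKerEquivRange π).toEquiv]
  exact Nat.mul_le_mul h2 h1

variable {d} {π : Subgroup.centralizer ({d.a} : Set G) →* Equiv.Perm (Fin 6)}
  (hker : ∀ g, π g = 1 ↔ (g : G) = 1 ∨ (g : G) = d.a)
include hker

theorem π_ne_one {x : Subgroup.centralizer ({d.a} : Set G)} (h1 : (x : G) ≠ 1) (ha : (x : G) ≠ d.a) :
    π x ≠ 1 := fun h => ((hker x).1 h).elim h1 ha

theorem π_eq {x y : Subgroup.centralizer ({d.a} : Set G)} (h : π x = π y) :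
    (y : G) = (x : G) ∨ (y : G) = (x : G) * d.a := by
  have h' : π (x⁻¹ * y) = 1 := by rw [map_mul, map_inv, h, inv_mul_cancel]
  rcases (hker _).1 h' with e | e <;>
    simp only [Subgroup.coe_mul, Subgroup.coe_inv, inv_mul_eq_iff_eq_mul, mul_one] at e
  exacts [Or.inl e, Or.inr e]

theorem π_braid {x y : Subgroup.centralizer ({d.a} : Set G)} (hx : (x : G) * x = 1)
    (hne : (x : G) ≠ y) (h : (x : G) * y * x = (y : G) * x * y) :
    π x ≠ π y ∧ π x * π y * π x = π y * π x * π y := by
  refine ⟨fun e => ?_, by simp only [← map_mul]; exact congrArg π (Subtype.ext h)⟩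
  rcases π_eq hker e with e' | e'
  · exact hne e'.symm
  · have ha : Commute d.a (x : G) := (Subgroup.mem_centralizer_singleton_iff.1 x.2).symm
    rw [e'] at h
    have h1 : (x : G) * ((x : G) * d.a) * (x : G) = d.a * (x : G) := by
      calc _ = (x : G) * (x : G) * (d.a * (x : G)) := by group
        _ = _ := by rw [hx, one_mul]
    have h2 : (x : G) * d.a * (x : G) * ((x : G) * d.a) = (x : G) := by
      calc _ = (x : G) * d.a * ((x : G) * (x : G)) * d.a := by group
        _ = (x : G) * (d.a * d.a) := by rw [hx]; group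
        _ = (x : G) := by rw [← map_mul, show aP * aP = 1 by decide +kernel, map_one, mul_one]
    rw [h1, h2, mul_eq_right] at h
    exact d.map_ne_one (by decide +kernel : aP ≠ 1) h

end Cfg

end Cfsg.Agent.SymEightThree
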