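/-
The transposition joining the two Coxeter chains in the symmetric case.
-/
import Cfsg.Agent.Lib.SymEightThree.CentA

set_option autoImplicit false
set_option maxRecDepth 100000
set_option synthInstance.maxSize 4000
set_option synthInstance.maxHeartbeats 400000
set_option linter.unusedSectionVars false

namespace Cfsg.Agent.SymEightThree

/-- The element `(0 4)`. -/
def l4P : PP := (1, Equiv.swap 0 4)

theorem link_facts : ∀ y ∈ [lP, l4P],
    y * y = 1 ∧ y * bP = bP * y ∧ y * b2P = b2P * y ∧ y * a2P = a2P * y ∧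
    y * cP * y = cP * y * cP ∧ y * aP * y = aP * y * aP ∧ y ≠ cP ∧ y ≠ aP ∧ y ≠ 1 ∧ y ≠ bP := by
  decide +kernel

theorem link_c : cP * lP * cP = l4P ∧
    sP * aP = tP ∧ aP * tP = sP ∧ b2P = zP * bP * zP⁻¹ ∧ a2P = wP * aP * wP⁻¹ := by
  decide +kernel

namespace Cfg

variable {G : Type*} [Group G] [Finite G] {d : Cfg G} (ha : d.j * d.a * d.j = d.b)
include ha

theorem j_b : d.j * d.b * d.j = d.a := by rw [← ha, d.j_cancel]

theorem j_b2 : d.j * d.ψ b2P * d.j = d.ψ a2P := by
  obtain ⟨-, -, -, e1, e2⟩ := link_c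
  rw [e1, e2, ← d.map_conj, ← d.map_conj, d.j_mul, d.j_mul, d.j_conj_inv, j_b ha,
    show d.j * d.ψ zP * d.j = d.w from d.j_z]

theorem j_a2 : d.j * d.ψ a2P * d.j = d.ψ b2P := by rw [← j_b2 ha, d.j_cancel]

/-- The alternative with `C((3 4))` normalizing `⟨z, w⟩` is excluded. -/
theorem exists_pi : ∃ π : Subgroup.centralizer ({d.a} : Set G) →* Equiv.Perm (Fin 6),
    Function.Surjective π ∧ ∀ g, π g = 1 ↔ (g : G) = 1 ∨ (g : G) = d.a := by
  refine d.cent_a.resolve_left fun h => ?_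
  obtain ⟨hy2, hyb, -⟩ := link_facts lP (by simp)
  have hs : Commute (d.j * d.ψ lP * d.j) d.a := by
    have := d.j_commute (d.commute_iff.2 hyb)
    rwa [j_b ha] at this
  set s := d.j * d.ψ lP * d.j with hsdef
  have hs2 : s⁻¹ = s := by
    rw [hsdef, ← d.j_conj_inv, ← map_inv, inv_eq_of_mul_eq_one_right hy2]
  have hpp := d.p_conj.2.2
  have hk : Commute (s * d.z * s⁻¹) d.z := by
    rcases h s hs with ⟨x, hx⟩ | ⟨x, hx⟩
    · have hsx : s = d.ψ (pP * x * pP) := by
        rw [map_mul, map_mul, hx]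
        calc s = (d.ψ pP * d.ψ pP) * s * (d.ψ pP * d.ψ pP) := by rw [hpp, one_mul, mul_one]
          _ = _ := by group
      rw [hsx, d.map_conj]
      refine d.commute_iff.2 ?_
      rcases conj_zP (pP * x * pP) with e | e <;> rw [e]
      exact (Commute.refl zP).inv_left.eq
    · have hsx : s = d.ψ pP * d.j * d.ψ x * d.ψ pP := by
        rw [hx]
        calc s = (d.ψ pP * d.ψ pP) * s * (d.ψ pP * d.ψ pP) := by rw [hpp, one_mul, mul_one]
          _ = d.ψ pP * (d.j * d.j) * (d.ψ pP * s * d.ψ pP) * d.ψ pP := by rw [d.j_sq]; group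
          _ = _ := by group
      have he : s * d.z * s⁻¹ = d.ψ pP * (d.j * d.ψ (x * zP * x⁻¹) * d.j) * d.ψ pP := by
        rw [hsx, ← d.map_conj]
        simp only [mul_inv_rev, d.j_inv, inv_eq_of_mul_eq_one_right hpp]
        have hpz : d.ψ pP * d.z * d.ψ pP = d.z := by
          rw [← map_mul, ← map_mul]; exact congrArg d.ψ (by decide +kernel)
        calc d.ψ pP * d.j * d.ψ x * d.ψ pP * d.z * (d.ψ pP * ((d.ψ x)⁻¹ * (d.j * d.ψ pP)))
            = d.ψ pP * (d.j * (d.ψ x * (d.ψ pP * d.z * d.ψ pP) * (d.ψ x)⁻¹) * d.j) * d.ψ pP := by group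
          _ = _ := by rw [hpz]
      have key : ∀ v ∈ [wP, wP⁻¹], pP * v * pP * zP = zP * (pP * v * pP) := by decide +kernel
      rw [he]
      rcases conj_zP x with e | e <;> rw [e]
      · rw [show d.j * d.ψ zP * d.j = d.w from d.j_z, ← map_mul, ← map_mul]
        exact d.commute_iff.2 (key _ (by simp))
      · rw [map_inv, d.j_conj_inv, show d.j * d.ψ zP * d.j = d.w from d.j_z, ← map_inv, ← map_mul,
          ← map_mul]
        exact d.commute_iff.2 (key _ (by simp))
  rw [hs2, hsdef, ← d.j_w, ← d.j_mul, ← d.j_mul, ← map_mul, ← map_mul] at hk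
  have := d.j_commute hk
  rw [d.j_cancel, d.j_cancel] at this
  exact absurd (d.commute_iff.1 this) (by decide +kernel)

/-- The missing transposition. -/
theorem exists_link : ∃ y ∈ [lP, l4P], Commute (d.j * d.ψ y * d.j) (d.ψ sP) := by
  obtain ⟨π, hπ, hker⟩ := exists_pi ha
  obtain ⟨hy2, hyb, hyb2, hya2, hyc, hya, hync, hyna, hy1, hynb⟩ := link_facts lP (by simp)
  set s := d.j * d.ψ lP * d.j with hsdef
  have hs : s * s = 1 := by rw [hsdef, ← d.j_mul, ← map_mul, hy2, map_one, mul_one, d.j_sq]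
  have hsa : Commute s d.a := by
    have := d.j_commute (d.commute_iff.2 hyb)
    rwa [j_b ha] at this
  have hsb2 : Commute s (d.ψ b2P) := by
    have := d.j_commute (d.commute_iff.2 hya2)
    rwa [j_a2 ha] at this
  have hbr : ∀ {v : PP} {g : G}, d.j * d.ψ v * d.j = g → lP * v * lP = v * lP * v →
      s * g * s = g * s * g := by
    intro v g hv h
    rw [hsdef, ← hv, ← d.j_mul, ← d.j_mul, ← d.j_mul, ← d.j_mul, ← map_mul, ← map_mul, ← map_mul,
      ← map_mul, h]
  have hsc := hbr d.j_c hyc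
  have hsb := hbr ha hya
  have hsne : ∀ {v : PP} {g : G}, d.j * d.ψ v * d.j = g → lP ≠ v → s ≠ g := by
    intro v g hv h e
    refine h (d.inj ?_)
    rw [← d.j_cancel (d.ψ lP), ← d.j_cancel (d.ψ v), hv, ← hsdef, e]
  have mk : ∀ v : PP, v * aP = aP * v → d.ψ v ∈ Subgroup.centralizer ({d.a} : Set G) := fun v hv =>
    Subgroup.mem_centralizer_singleton_iff.2 (d.commute_iff.2 hv).eq
  let B : Subgroup.centralizer ({d.a} : Set G) := ⟨d.b, mk bP (by decide +kernel)⟩
  let b' : Subgroup.centralizer ({d.a} : Set G) := ⟨d.ψ b2P, mk b2P (by decide +kernel)⟩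
  let c' : Subgroup.centralizer ({d.a} : Set G) := ⟨d.c, mk cP (by decide +kernel)⟩
  let x : Subgroup.centralizer ({d.a} : Set G) := ⟨d.ψ sP, mk sP (by decide +kernel)⟩
  let S : Subgroup.centralizer ({d.a} : Set G) := ⟨s, Subgroup.mem_centralizer_singleton_iff.2 hsa.eq⟩
  have hgen : ∀ v : PP, v * v = 1 → v ≠ 1 → v ≠ aP → ∀ hv,
      π ⟨d.ψ v, hv⟩ * π ⟨d.ψ v, hv⟩ = 1 ∧ π ⟨d.ψ v, hv⟩ ≠ 1 := fun v h1 h2 h3 hv =>
    ⟨by rw [← map_mul, ← map_one π]; exact congrArg π (Subtype.ext (by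
      simp only [Subgroup.coe_mul, Subgroup.coe_one, ← map_mul, h1, map_one])),
      Cfg.π_ne_one hker (d.map_ne_one h2) fun e => h3 (d.inj e)⟩
  have hS : π S * π S = 1 ∧ π S ≠ 1 := by
    refine ⟨by rw [← map_mul, ← map_one π]; exact congrArg π (Subtype.ext hs), ?_⟩
    refine Cfg.π_ne_one hker (fun e => hy1 (d.inj ?_)) (hsne (j_b ha) hynb)
    have e' : s = 1 := e
    rw [← d.j_cancel (d.ψ lP), ← hsdef, e', mul_one, d.j_sq, map_one]
  have pbr : ∀ {u v : PP} (hu : d.ψ u ∈ _) (hv : d.ψ v ∈ _), u * u = 1 → u ≠ v →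
      u * v * u = v * u * v → π ⟨d.ψ u, hu⟩ ≠ π ⟨d.ψ v, hv⟩ ∧
        π ⟨d.ψ u, hu⟩ * π ⟨d.ψ v, hv⟩ * π ⟨d.ψ u, hu⟩ = π ⟨d.ψ v, hv⟩ * π ⟨d.ψ u, hu⟩ * π ⟨d.ψ v, hv⟩ :=
    fun {u v} hu hv h1 h2 h3 => Cfg.π_braid hker (by rw [← map_mul, h1, map_one])
      (fun e => h2 (d.inj e)) (by simp only [← map_mul, h3])
  have pcm : ∀ {u v : Subgroup.centralizer ({d.a} : Set G)}, Commute (u : G) (v : G) →
      Commute (π u) (π v) := fun h => Commute.map (show Commute _ _ from Subtype.ext h.eq) π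
  have key := Six.chain (hgen bP (by decide +kernel) (by decide +kernel) (by decide +kernel) B.2)
    (hgen b2P (by decide +kernel) (by decide +kernel) (by decide +kernel) b'.2)
    (hgen cP (by decide +kernel) (by decide +kernel) (by decide +kernel) c'.2)
    (hgen sP (by decide +kernel) (by decide +kernel) (by decide +kernel) x.2) hS
    (pbr B.2 b'.2 (by decide +kernel) (by decide +kernel) (by decide +kernel))
    (pcm (u := c') (v := B) (d.commute_iff.2 (by decide +kernel)))
    (pcm (u := c') (v := b') (d.commute_iff.2 (by decide +kernel)))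
    (pcm (u := x) (v := B) (d.commute_iff.2 (by decide +kernel)))
    (pcm (u := x) (v := b') (d.commute_iff.2 (by decide +kernel)))
    (pbr x.2 c'.2 (by decide +kernel) (by decide +kernel) (by decide +kernel))
    (pcm (u := S) (v := b') hsb2)
    (Cfg.π_braid hker (x := S) (y := c') hs (hsne d.j_c hync) hsc)
    (Cfg.π_braid hker (x := S) (y := B) hs (hsne ha hyna) hsb)
  have exact' : ∀ y : Subgroup.centralizer ({d.a} : Set G), (y : G) * y = 1 →
      Commute (π y) (π x) → Commute (y : G) (d.ψ sP) := by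
    intro y hy h
    have hxy : π (y * x) = π (x * y) := by rw [map_mul, map_mul, h.eq]
    rcases Cfg.π_eq hker hxy with e | e <;> simp only [Subgroup.coe_mul] at e
    · exact e.symm
    exfalso
    have hy' : (y : G)⁻¹ = y := inv_eq_of_mul_eq_one_right hy
    have hya' : Commute (y : G) d.a := Subgroup.mem_centralizer_singleton_iff.1 y.2
    have hxx : d.ψ sP * d.ψ sP = 1 := by rw [← map_mul, show sP * sP = 1 by decide +kernel, map_one]
    have e' : d.ψ sP * (y : G) = (y : G) * d.ψ sP * d.a := e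
    have h1 : (y : G) * d.ψ sP * (y : G)⁻¹ = d.ψ tP := by
      have hax : d.a * d.ψ sP = d.ψ sP * d.a := (d.commute_iff.2 (by decide +kernel)).eq
      rw [hy']
      calc (y : G) * d.ψ sP * (y : G) = (y : G) * (d.ψ sP * (y : G)) := by group
        _ = (y : G) * ((y : G) * d.ψ sP * d.a) := by rw [e']
        _ = (y : G) * (y : G) * (d.ψ sP * d.a) := by group
        _ = d.ψ tP := by rw [hy, one_mul, ← map_mul, link_c.2.1]
    refine d.not_isConj_t_c ?_
    exact (isConj_iff.2 ⟨(y : G), h1⟩).symm.trans (d.isConj_of_PP gP⁻¹ (by decide +kernel))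
  rcases key with h | h
  · exact ⟨lP, by simp, exact' S hs h⟩
  · refine ⟨l4P, by simp, ?_⟩
    have h2 := exact' (c' * S * c') (by
      have hcc : d.c * d.c = 1 := by rw [← map_mul, show cP * cP = 1 by decide +kernel, map_one]
      calc ((c' * S * c' : Subgroup.centralizer ({d.a} : Set G)) : G) * (c' * S * c' : Subgroup.centralizer ({d.a} : Set G))
          = d.c * s * (d.c * d.c) * s * d.c := by simp only [Subgroup.coe_mul, c', S]; group
        _ = 1 := by rw [hcc, mul_one, mul_assoc d.c, hs, mul_one, hcc])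
      (by rw [map_mul, map_mul]; exact h)
    have e : d.j * d.ψ l4P * d.j = d.c * s * d.c := by
      rw [← link_c.1, map_mul, map_mul, d.j_mul, d.j_mul, show d.j * d.ψ cP * d.j = d.c from d.j_c]
    rw [e]
    exact h2

end Cfg

end Cfsg.Agent.SymEightThree
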