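/-
The symmetric group on eight points.
-/
import Cfsg.Agent.Lib.SymEightThree.Nine
import Cfsg.Agent.Lib.SymRecog.Coxeter

set_option autoImplicit false
set_option maxRecDepth 100000
set_option synthInstance.maxSize 4000
set_option synthInstance.maxHeartbeats 400000

namespace Cfsg.Agent.SymEightThree

open Equiv Equiv.Perm

/-- The pairs as permutations of eight points. -/
def emb8 : PP →* Perm (Fin 8) where
  toFun x := (finSumFinEquiv (m := 5) (n := 3)).permCongr (Equiv.sumCongr x.2 x.1)
  map_one' := by decide +kernel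
  map_mul' x y := by
    ext i
    simp only [Prod.fst_mul, Prod.snd_mul, Perm.mul_apply, Equiv.permCongr_apply,
      Equiv.symm_apply_apply]
    cases (finSumFinEquiv (m := 5) (n := 3)).symm i <;> rfl

theorem sign_emb8 (x : PP) : sign (emb8 x) = sign x.1 * sign x.2 := by
  show sign ((finSumFinEquiv (m := 5) (n := 3)).permCongr (Equiv.sumCongr x.2 x.1)) = _
  rw [sign_permCongr, sign_sumCongr, mul_comm]

/-- The transposition `(0 1)`. -/
def A8s : Perm (Fin 8) := swap 0 1
/-- The element `(0 5)(1 6)(2 7)`. -/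
def J8s : Perm (Fin 8) := swap 0 5 * swap 1 6 * swap 2 7
/-- The element `(0 5)(1 6)(2 7)(3 4)`. -/
def K8s : Perm (Fin 8) := swap 0 5 * swap 1 6 * swap 2 7 * swap 3 4

theorem eight_facts : J8s * J8s = 1 ∧ K8s * K8s = 1 ∧ J8s ≠ 1 ∧ K8s ≠ 1 ∧ sign K8s = 1 ∧
    sign A8s = -1 ∧ emb8 aP = A8s ∧ J8s ≠ emb8 cP ∧ K8s ≠ emb8 cP ∧ emb8 aP * emb8 aP = 1 ∧
    J8s * emb8 (zP * wP) = emb8 (zP * wP) * J8s ∧ K8s * emb8 (zP * wP) = emb8 (zP * wP) * K8s ∧
    K8s * emb8 zP * K8s = emb8 wP ∧
    K8s * emb8 (1, swap 0 2 * swap 3 4) * K8s = emb8 (swap 0 2, swap 3 4) := by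
  decide +kernel

theorem emb8_gen : emb8 aP = SymRecog.adj 7 0 ∧ emb8 a2P = SymRecog.adj 7 1 ∧
    emb8 sP = SymRecog.adj 7 2 ∧ emb8 cP = SymRecog.adj 7 3 ∧ emb8 bP = SymRecog.adj 7 5 ∧
    emb8 b2P = SymRecog.adj 7 6 := by
  decide +kernel

theorem support_reps : (emb8 aP).support.card = 2 ∧ (emb8 tP).support.card = 4 ∧
    J8s.support.card = 6 ∧ K8s.support.card = 8 := by
  decide +kernel

theorem cycleType_of_sq {α : Type*} [Fintype α] [DecidableEq α] {x : Perm α} (h : x * x = 1) :
    x.cycleType = Multiset.replicate (Multiset.card x.cycleType) 2 := by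
  refine Multiset.eq_replicate_card.2 fun n hn => ?_
  have h1 := two_le_of_mem_cycleType hn
  have h2 := (dvd_of_mem_cycleType hn).trans (orderOf_dvd_of_pow_eq_one (by rw [pow_two, h]))
  have := Nat.le_of_dvd (by norm_num) h2
  omega

theorem support_card_of_sq {α : Type*} [Fintype α] [DecidableEq α] {x : Perm α} (h : x * x = 1) :
    x.support.card = 2 * Multiset.card x.cycleType := by
  rw [← sum_cycleType]
  conv_lhs => rw [cycleType_of_sq h]
  rw [Multiset.sum_replicate, smul_eq_mul, mul_comm]

/-- Involutions with supports of equal size are conjugate. -/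
theorem isConj_of_support {α : Type*} [Fintype α] [DecidableEq α] {x y : Perm α} (hx : x * x = 1)
    (hy : y * y = 1) (h : x.support.card = y.support.card) : IsConj x y := by
  rw [isConj_iff_cycleType_eq, cycleType_of_sq hx, cycleType_of_sq hy]
  rw [support_card_of_sq hx, support_card_of_sq hy] at h
  rw [show Multiset.card x.cycleType = Multiset.card y.cycleType by omega]

/-- The classes of involutions. -/
theorem invol_classes {x : Perm (Fin 8)} (hx : x * x = 1) (h1 : x ≠ 1) :
    IsConj (emb8 aP) x ∨ IsConj (emb8 tP) x ∨ IsConj J8s x ∨ IsConj K8s x := by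
  obtain ⟨e1, e2, e3, e4⟩ := support_reps
  have h := support_card_of_sq hx
  have h8 : x.support.card ≤ 8 := (Finset.card_le_univ _).trans (le_of_eq (Fintype.card_fin 8))
  have h0 : x.support.card ≠ 0 := fun e => h1 (support_eq_empty_iff.1 (Finset.card_eq_zero.1 e))
  obtain ⟨f1, f2, -⟩ := eight_facts
  have ha : emb8 aP * emb8 aP = 1 := eight_facts.2.2.2.2.2.2.2.2.2.1
  have ht : emb8 tP * emb8 tP = 1 := by decide +kernel
  rcases (show x.support.card = 2 ∨ x.support.card = 4 ∨ x.support.card = 6 ∨ x.support.card = 8 by omega)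
    with e | e | e | e
  · exact Or.inl (isConj_of_support ha hx (e1.trans e.symm))
  · exact Or.inr (Or.inl (isConj_of_support ht hx (e2.trans e.symm)))
  · exact Or.inr (Or.inr (Or.inl (isConj_of_support f1 hx (e3.trans e.symm))))
  · exact Or.inr (Or.inr (Or.inr (isConj_of_support f2 hx (e4.trans e.symm))))

/-- An odd transposition generates the group together with the alternating group. -/
theorem sign_split (x : Perm (Fin 8)) : sign x = 1 ∨ sign (x * A8s) = 1 := by
  rcases Int.units_eq_one_or (sign x) with h | h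
  · exact Or.inl h
  · exact Or.inr (by rw [Perm.sign_mul, h, eight_facts.2.2.2.2.2.1]; rfl)

theorem emb8_injective : Function.Injective emb8 := fun x y h => by
  have h' : Equiv.sumCongr x.2 x.1 = Equiv.sumCongr y.2 y.1 :=
    (finSumFinEquiv (m := 5) (n := 3)).permCongr.injective h
  refine Prod.ext (Equiv.ext fun i => ?_) (Equiv.ext fun i => ?_)
  · exact Sum.inr_injective (Equiv.congr_fun h' (Sum.inr i))
  · exact Sum.inl_injective (Equiv.congr_fun h' (Sum.inl i))

/-- The permutations fixing the set `{0, 1}`. -/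
def cent01 : Perm (Fin 2) × Perm (Fin 6) →* Perm (Fin 8) where
  toFun x := (finSumFinEquiv (m := 2) (n := 6)).permCongr (Equiv.sumCongr x.1 x.2)
  map_one' := by decide +kernel
  map_mul' x y := by
    ext i
    simp only [Prod.fst_mul, Prod.snd_mul, Perm.mul_apply, Equiv.permCongr_apply,
      Equiv.symm_apply_apply]
    cases (finSumFinEquiv (m := 2) (n := 6)).symm i <;> rfl

theorem cent01_injective : Function.Injective cent01 := fun x y h => by
  have h' : Equiv.sumCongr x.1 x.2 = Equiv.sumCongr y.1 y.2 :=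
    (finSumFinEquiv (m := 2) (n := 6)).permCongr.injective h
  refine Prod.ext (Equiv.ext fun i => ?_) (Equiv.ext fun i => ?_)
  · exact Sum.inl_injective (Equiv.congr_fun h' (Sum.inl i))
  · exact Sum.inr_injective (Equiv.congr_fun h' (Sum.inr i))

theorem cent01_commute (x : Perm (Fin 2) × Perm (Fin 6)) : Commute (cent01 x) (emb8 aP) := by
  have h : emb8 aP = cent01 (swap 0 1, 1) := by decide +kernel
  rw [h]
  refine Commute.map (Prod.ext ?_ ?_) cent01
  · have : ∀ a : Perm (Fin 2), a * swap 0 1 = swap 0 1 * a := by decide +kernel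
    exact this x.1
  · show x.2 * 1 = 1 * x.2
    rw [mul_one, one_mul]

end Cfsg.Agent.SymEightThree
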