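/-
The embedding of `S₈` in the symmetric case.
-/
import Cfsg.Agent.Lib.SymEightThree.AlphaLink
import Cfsg.Agent.Lib.SymEightThree.Eight
import Mathlib.GroupTheory.SpecificGroups.Alternating.Simple

set_option autoImplicit false
set_option maxRecDepth 100000
set_option synthInstance.maxSize 4000
set_option synthInstance.maxHeartbeats 400000
set_option linter.unusedSectionVars false

namespace Cfsg.Agent.SymEightThree

open Equiv Equiv.Perm

theorem adj_gen : SymRecog.adj 4 0 = swap 0 1 ∧ SymRecog.adj 4 1 = swap 1 2 ∧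
    SymRecog.adj 4 2 = swap 2 3 ∧ SymRecog.adj 4 3 = swap 3 4 ∧
    SymRecog.adj 2 0 = swap 0 1 ∧ SymRecog.adj 2 1 = swap 1 2 := by
  decide +kernel

theorem chain_pairs : aP * aP = 1 ∧ a2P * a2P = 1 ∧ sP * sP = 1 ∧ cP * cP = 1 ∧ bP * bP = 1 ∧
    b2P * b2P = 1 ∧ aP * a2P * aP = a2P * aP * a2P ∧ a2P * sP * a2P = sP * a2P * sP ∧
    sP * cP * sP = cP * sP * cP ∧ bP * b2P * bP = b2P * bP * b2P ∧
    aP * sP = sP * aP ∧ aP * cP = cP * aP ∧ aP * bP = bP * aP ∧ aP * b2P = b2P * aP ∧
    a2P * cP = cP * a2P ∧ a2P * bP = bP * a2P ∧ a2P * b2P = b2P * a2P ∧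
    sP * bP = bP * sP ∧ sP * b2P = b2P * sP ∧ cP * bP = bP * cP ∧ cP * b2P = b2P * cP := by
  decide +kernel

namespace Cfg

variable {G : Type*} [Group G] [Finite G] {d : Cfg G} (ha : d.j * d.a * d.j = d.b)
include ha

/-- The symmetric group on eight points extending the normalizer of `⟨z⟩`. -/
theorem exists_phi : ∃ Φ : Perm (Fin 8) →* G, Function.Injective Φ ∧ ∀ x, Φ (emb8 x) = d.ψ x := by
  obtain ⟨y, hy, hys⟩ := exists_link ha
  obtain ⟨hy2, hyb, hyb2, hya2, hyc, hya, -⟩ := link_facts y hy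
  obtain ⟨q0, q1, q2, q3, q5, q6, r01, r12, r23, r56, c02, c03, c05, c06, c13, c15, c16, c25, c26,
    c35, c36⟩ := chain_pairs
  let l : List G := [d.a, d.ψ a2P, d.ψ sP, d.c, d.j * d.ψ y * d.j, d.b, d.ψ b2P]
  let s : ℕ → G := fun i => l.getD i 1
  have sq : ∀ {v : PP}, v * v = 1 → d.ψ v * d.ψ v = 1 := fun h => by rw [← map_mul, h, map_one]
  have br : ∀ {u v : PP}, u * v * u = v * u * v → d.ψ u * d.ψ v * d.ψ u = d.ψ v * d.ψ u * d.ψ v :=
    fun h => by simp only [← map_mul, h]
  have cm : ∀ {u v : PP}, u * v = v * u → d.ψ u * d.ψ v = d.ψ v * d.ψ u :=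
    fun h => by simp only [← map_mul, h]
  have hcm : ∀ {v : PP} {g : G}, d.j * d.ψ v * d.j = g → y * v = v * y →
      Commute (d.j * d.ψ y * d.j) g := fun hv h => hv ▸ d.j_commute (d.commute_iff.2 h)
  have hbr : ∀ {v : PP} {g : G}, d.j * d.ψ v * d.j = g → y * v * y = v * y * v →
      (d.j * d.ψ y * d.j) * g * (d.j * d.ψ y * d.j) = g * (d.j * d.ψ y * d.j) * g := by
    intro v g hv h
    rw [← hv, ← d.j_mul, ← d.j_mul, ← d.j_mul, ← d.j_mul, ← map_mul, ← map_mul, ← map_mul, ← map_mul, h]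
  have hchain : SymRecog.Chain s 7 := by
    refine ⟨fun i hi => ?_, fun i hi => ?_, fun i k hik hk => ?_⟩
    · interval_cases i
      · exact sq q0
      · exact sq q1
      · exact sq q2
      · exact sq q3
      · show d.j * d.ψ y * d.j * (d.j * d.ψ y * d.j) = 1
        rw [← d.j_mul, ← map_mul, hy2, map_one, mul_one, d.j_sq]
      · exact sq q5
      · exact sq q6
    · obtain hi' : i < 6 := by omega
      interval_cases i
      · exact br r01
      · exact br r12
      · exact br r23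
      · exact (hbr d.j_c hyc).symm
      · exact hbr ha hya
      · exact br r56
    · obtain hi : i < 5 := by omega
      interval_cases i <;> interval_cases k <;> first
        | exact cm c02
        | exact cm c03
        | exact cm c05
        | exact cm c06
        | exact cm c13
        | exact cm c15
        | exact cm c16
        | exact cm c25
        | exact cm c26
        | exact cm c35
        | exact cm c36
        | exact (hcm (j_b ha) hyb).eq.symm
        | exact (hcm (j_b2 ha) hyb2).eq.symm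
        | exact hys.eq.symm
        | exact (hcm (j_a2 ha) hya2).eq
  obtain ⟨Φ, hΦ, -⟩ := SymRecog.exists_hom s 7 hchain
  obtain ⟨g0, g1, g2, g3, g5, g6⟩ := emb8_gen
  obtain ⟨e0, e1, e2, e3, f0, f1⟩ := adj_gen
  have hgen : ∀ x, Φ (emb8 x) = d.ψ x := by
    have hL : (Φ.comp emb8).comp (MonoidHom.inr (Perm (Fin 3)) (Perm (Fin 5))) =
        d.ψ.comp (MonoidHom.inr (Perm (Fin 3)) (Perm (Fin 5))) := by
      refine MonoidHom.eq_of_eqOn_dense (SymRecog.closure_adj 4) ?_
      rintro _ ⟨i, hi, rfl⟩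
      have hi' : i < 4 := hi
      interval_cases i <;> simp only [MonoidHom.comp_apply, MonoidHom.inr_apply, e0, e1, e2, e3]
      · show Φ (emb8 aP) = _; rw [g0, hΦ 0 (by norm_num)]; rfl
      · show Φ (emb8 a2P) = _; rw [g1, hΦ 1 (by norm_num)]; rfl
      · show Φ (emb8 sP) = _; rw [g2, hΦ 2 (by norm_num)]; rfl
      · show Φ (emb8 cP) = _; rw [g3, hΦ 3 (by norm_num)]; rfl
    have hR : (Φ.comp emb8).comp (MonoidHom.inl (Perm (Fin 3)) (Perm (Fin 5))) =
        d.ψ.comp (MonoidHom.inl (Perm (Fin 3)) (Perm (Fin 5))) := by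
      refine MonoidHom.eq_of_eqOn_dense (SymRecog.closure_adj 2) ?_
      rintro _ ⟨i, hi, rfl⟩
      have hi' : i < 2 := hi
      interval_cases i <;> simp only [MonoidHom.comp_apply, MonoidHom.inl_apply, f0, f1]
      · show Φ (emb8 bP) = _; rw [g5, hΦ 5 (by norm_num)]; rfl
      · show Φ (emb8 b2P) = _; rw [g6, hΦ 6 (by norm_num)]; rfl
    intro x
    rw [show x = MonoidHom.inl _ _ x.1 * MonoidHom.inr _ _ x.2 by simp, map_mul, map_mul, map_mul]
    exact congrArg₂ (· * ·) (DFunLike.congr_fun hR x.1) (DFunLike.congr_fun hL x.2)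
  refine ⟨Φ, ?_, hgen⟩
  rw [← MonoidHom.ker_eq_bot_iff]
  by_contra hne
  have hsimple : IsSimpleGroup (alternatingGroup (Fin 8)) := alternatingGroup.isSimpleGroup (by simp)
  rcases hsimple.eq_bot_or_eq_top_of_normal (Φ.ker.subgroupOf (alternatingGroup (Fin 8))) inferInstance
    with h | h
  · obtain ⟨⟨k, hk⟩, hk1⟩ := Subgroup.ne_bot_iff_exists_ne_one.1 hne
    have hk1' : k ≠ 1 := fun e => hk1 (Subtype.ext e)
    have heven : ∀ m, Φ m = 1 → sign m = 1 → m = 1 := fun m hm hs => by
      have : (⟨m, mem_alternatingGroup.2 hs⟩ : alternatingGroup (Fin 8)) ∈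
          Φ.ker.subgroupOf (alternatingGroup (Fin 8)) := Subgroup.mem_subgroupOf.2 hm
      rw [h, Subgroup.mem_bot] at this
      exact congrArg Subtype.val this
    have hk' : Φ k = 1 := hk
    have hkk : k * k = 1 := heven _ (by rw [map_mul, hk', mul_one]) (by
      rw [Perm.sign_mul]; exact Int.units_mul_self _)
    have hrep : ∀ r, IsConj r k → Φ r = 1 ∧ sign r ≠ 1 := by
      intro r hr
      obtain ⟨g, rfl⟩ := isConj_iff.1 hr
      constructor
      · rw [map_mul, map_mul, map_inv, conj_eq_one_iff] at hk'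
        exact hk'
      · intro hs
        exact hk1' (heven _ hk' (by simp [Perm.sign_mul, hs]))
    rcases invol_classes hkk hk1' with hc | hc | hc | hc
    · exact d.map_ne_one (by decide +kernel : aP ≠ 1) ((hgen aP).symm.trans (hrep _ hc).1)
    · exact (hrep _ hc).2 (by decide +kernel)
    · have h1 := (hrep _ hc).1
      have h2 : Φ (J8s * emb8 zP * J8s) = d.z := by rw [map_mul, map_mul, h1, one_mul, mul_one, hgen]
      rw [show J8s * emb8 zP * J8s = emb8 wP by decide +kernel, hgen] at h2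
      exact absurd (d.inj h2) (by decide +kernel)
    · exact (hrep _ hc).2 (by decide +kernel)
  · have hm : (⟨emb8 wP, mem_alternatingGroup.2 (by rw [sign_emb8]; decide +kernel)⟩ : alternatingGroup (Fin 8)) ∈
        Φ.ker.subgroupOf (alternatingGroup (Fin 8)) := h ▸ Subgroup.mem_top _
    rw [Subgroup.mem_subgroupOf, MonoidHom.mem_ker, hgen] at hm
    exact d.map_ne_one (by decide +kernel : wP ≠ 1) hm

end Cfg

end Cfsg.Agent.SymEightThree
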