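/-
The symmetric case: the group is the symmetric group on eight points.
-/
import Cfsg.Agent.Lib.SymEightThree.AlphaHom
import Cfsg.Agent.Lib.AltEightThree.Main
import Cfsg.Agent.S0111

set_option autoImplicit false
set_option maxRecDepth 100000
set_option synthInstance.maxSize 4000
set_option synthInstance.maxHeartbeats 400000
set_option linter.unusedSectionVars false

namespace Cfsg.Agent.SymEightThree

open Equiv Equiv.Perm

theorem alt_pairs : ((AltEightThree.zP : AltEightThree.Pairs) : PP) = zP ∧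
    ((AltEightThree.wP : AltEightThree.Pairs) : PP) = wP ∧
    ((AltEightThree.aP : AltEightThree.Pairs) : PP) = (1, swap 0 2 * swap 3 4) ∧
    ((AltEightThree.bP : AltEightThree.Pairs) : PP) = (swap 0 2, swap 3 4) := by
  decide +kernel

theorem cent_list_eight : ∀ x ∈ centList, x * (zP * wP) = zP * wP * x := by decide +kernel

namespace Cfg

variable {G : Type*} [Group G] [Finite G] {d : Cfg G} (ha : d.j * d.a * d.j = d.b)
  {Φ : Perm (Fin 8) →* G} (hinj : Function.Injective Φ) (hΦ : ∀ x, Φ (emb8 x) = d.ψ x)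

include hinj hΦ in
theorem range_zw {g : G} (hg : Commute g (d.ψ (zP * wP))) : g ∈ Φ.range := by
  obtain ⟨f1, f2, f3, f4, -, -, -, f8, f9, -, f11, -⟩ := eight_facts
  set C := Subgroup.centralizer ({d.ψ (zP * wP)} : Set G) with hC
  have hJ : Commute (Φ J8s) (d.ψ (zP * wP)) := hΦ (zP * wP) ▸ (show Commute J8s _ from f11).map Φ
  have hc : ∀ i : Fin centList.length, Commute (d.ψ centList[i]) (d.ψ (zP * wP)) := fun i =>
    d.commute_iff.2 (cent_list_eight _ (List.getElem_mem _))
  let f : Bool × Fin centList.length → C := fun p => bif p.1 then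
      ⟨Φ J8s * d.ψ centList[p.2],
        Subgroup.mem_centralizer_singleton_iff.2 (hJ.mul_left (hc _)).eq⟩
    else ⟨d.ψ centList[p.2], Subgroup.mem_centralizer_singleton_iff.2 (hc _).eq⟩
  have hne : ∀ x y : PP, d.ψ x ≠ Φ J8s * d.ψ y := by
    intro x y h
    rw [← hΦ x, ← hΦ y, ← map_mul] at h
    have h' : J8s = emb8 (x * y⁻¹) := by rw [map_mul, map_inv, hinj h]; group
    have key : J8s * emb8 zP * J8s⁻¹ = emb8 wP := by decide +kernel
    rw [h', ← map_inv, ← map_mul, ← map_mul] at key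
    rcases conj_zP (x * y⁻¹) with e | e <;> rw [e] at key <;>
      exact absurd (emb8_injective key) (by decide +kernel)
  have hnd : centList.Nodup := by decide +kernel
  have hf : Function.Injective f := by
    rintro ⟨_ | _, a⟩ ⟨_ | _, b⟩ e <;> have e' := congrArg Subtype.val e <;>
      simp only [f, cond_false, cond_true] at e'
    · exact Prod.ext rfl (Fin.ext (hnd.getElem_inj_iff.1 (d.inj e')))
    · exact absurd e' (hne _ _)
    · exact absurd e'.symm (hne _ _)
    · exact Prod.ext rfl (Fin.ext (hnd.getElem_inj_iff.1 (d.inj (mul_left_cancel e'))))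
  obtain ⟨⟨b, i⟩, hi⟩ := (hf.bijective_of_nat_card_le (le_of_eq (by
    rw [hC, d.card_zw, Nat.card_prod, Nat.card_eq_fintype_card, Fintype.card_bool, Nat.card_fin,
      show centList.length = 18 by decide +kernel]))).2 ⟨g, Subgroup.mem_centralizer_singleton_iff.2 hg.eq⟩
  have hi' := congrArg Subtype.val hi
  cases b
  · exact ⟨emb8 centList[i], by rw [hΦ]; exact hi'⟩
  · exact ⟨J8s * emb8 centList[i], by rw [map_mul, hΦ]; exact hi'⟩

include ha hinj hΦ in
theorem range_a {g : G} (hg : Commute g d.a) : g ∈ Φ.range := by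
  obtain ⟨π, -, hker⟩ := exists_pi ha
  let f : Perm (Fin 2) × Perm (Fin 6) → Subgroup.centralizer ({d.a} : Set G) := fun x =>
    ⟨Φ (cent01 x), Subgroup.mem_centralizer_singleton_iff.2 (by
      have := (cent01_commute x).map Φ
      rw [hΦ] at this
      exact this.eq)⟩
  have hf : Function.Injective f := fun x y h => cent01_injective (hinj (congrArg Subtype.val h))
  obtain ⟨x, hx⟩ := (hf.bijective_of_nat_card_le (by
    refine (d.card_cent_a π hker).trans (le_of_eq ?_)
    rw [Nat.card_prod, Nat.card_perm, Nat.card_perm, Nat.card_fin, Nat.card_fin]; rfl)).2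
    ⟨g, Subgroup.mem_centralizer_singleton_iff.2 hg.eq⟩
  exact ⟨cent01 x, congrArg Subtype.val hx⟩

include hinj hΦ in
theorem class_a {x : Perm (Fin 8)} (h : IsConj d.a (Φ x)) : IsConj (emb8 aP) x := by
  obtain ⟨f1, f2, f3, f4, -, -, -, f8, f9, fa, f11, f12, -⟩ := eight_facts
  obtain ⟨g, hg⟩ := isConj_iff.1 h
  have hx : x * x = 1 := hinj (by
    rw [map_mul, map_one, ← hg]
    calc g * d.a * g⁻¹ * (g * d.a * g⁻¹) = g * (d.a * d.a) * g⁻¹ := by group
      _ = 1 := by rw [← map_mul, show aP * aP = 1 by decide +kernel, map_one, mul_one, mul_inv_cancel])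
  have hx1 : x ≠ 1 := by
    rintro rfl
    rw [map_one, conj_eq_one_iff] at hg
    exact d.map_ne_one (by decide +kernel : aP ≠ 1) hg
  have key : ∀ J, Commute J (emb8 (zP * wP)) → J ≠ emb8 cP → ¬ IsConj J x := by
    intro J hJ hne hc
    have h1 : IsConj d.c (Φ J) := (d.isConj_c_a.trans h).trans (Φ.map_isConj hc.symm)
    exact hne (hinj (by rw [hΦ, d.eq_c_of_isConj (hΦ (zP * wP) ▸ hJ.map Φ) h1]))
  rcases invol_classes hx hx1 with hc | hc | hc | hc
  · exact hc
  · exact absurd ((Φ.map_isConj hc).trans h.symm) (hΦ tP ▸ d.not_isConj_t_a)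
  · exact absurd hc (key _ f11 f8)
  · exact absurd hc (key _ f12 f9)

include ha in
/-- The symmetric case. -/
theorem sym_eight : Nonempty (G ≃* Perm (Fin 8)) := by
  classical
  obtain ⟨Φ, hinj, hΦ⟩ := exists_phi ha
  obtain ⟨f1, f2, f3, f4, f5, f6, f7, f8, f9, fa, f11, f12, f13, f14⟩ := eight_facts
  have : Fact (Nat.Prime 2) := ⟨Nat.prime_two⟩
  set G0 := Φ.range with hG0
  have haa : d.a = Φ (emb8 aP) := (hΦ aP).symm
  have haG : d.a ∈ G0 := ⟨emb8 aP, hΦ aP⟩
  have hord : orderOf d.a = 2 := orderOf_eq_prime (by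
    rw [pow_two, ← map_mul, show aP * aP = 1 by decide +kernel, map_one])
    (d.map_ne_one (by decide +kernel))
  obtain ⟨R, hR⟩ := (IsPGroup.of_card (G := Subgroup.zpowers (⟨d.a, haG⟩ : G0)) (p := 2) (n := 1) (by
    rw [Nat.card_zpowers, ← orderOf_submonoid, pow_one]; exact hord)).exists_le_sylow
  set R' := (R : Subgroup G0).map G0.subtype with hR'
  have haR : d.a ∈ R' := ⟨⟨d.a, haG⟩, hR (Subgroup.mem_zpowers _), rfl⟩
  have hR'G : R' ≤ G0 := Subgroup.map_subtype_le _
  obtain ⟨T, hT⟩ := (R.isPGroup'.map G0.subtype : IsPGroup 2 R').exists_le_sylow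
  have hTR : R' = (T : Subgroup G) := by
    by_contra hne
    haveI := T.isPGroup'.isNilpotent
    have hlt := Group.normalizerCondition_of_isNilpotent (R'.subgroupOf T) (by
      rw [lt_top_iff_ne_top, Ne, Subgroup.subgroupOf_eq_top]
      exact fun h => hne (le_antisymm hT h))
    obtain ⟨n, hn, hnR⟩ := SetLike.exists_of_lt hlt
    apply hnR
    rw [Subgroup.mem_subgroupOf]
    have hnm : (n : G) * d.a * (n : G)⁻¹ ∈ R' := by
      have := (Subgroup.mem_normalizer_iff.1 hn ⟨d.a, hT haR⟩).1 (Subgroup.mem_subgroupOf.2 haR)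
      rw [Subgroup.mem_subgroupOf] at this
      simpa only [Subgroup.coe_mul, Subgroup.coe_inv] using this
    obtain ⟨x, hx⟩ := hR'G hnm
    obtain ⟨q, hq⟩ := isConj_iff.1 (class_a hinj hΦ (x := x) (isConj_iff.2 ⟨(n : G), hx.symm⟩))
    have hx' : Φ q * d.a * (Φ q)⁻¹ = (n : G) * d.a * (n : G)⁻¹ := by
      rw [← hx, ← hq, haa]; simp only [map_mul, map_inv]
    have hcm : Commute ((Φ q)⁻¹ * (n : G)) d.a := by
      show _ * _ = _ * _
      calc (Φ q)⁻¹ * (n : G) * d.a = (Φ q)⁻¹ * ((n : G) * d.a * (n : G)⁻¹) * (n : G) := by group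
        _ = (Φ q)⁻¹ * (Φ q * d.a * (Φ q)⁻¹) * (n : G) := by rw [hx']
        _ = d.a * ((Φ q)⁻¹ * (n : G)) := by group
    have hnG : (n : G) ∈ G0 := by
      have := G0.mul_mem ⟨q, rfl⟩ (range_a ha hinj hΦ hcm)
      rwa [mul_inv_cancel_left] at this
    obtain ⟨S, hS⟩ := ((T.isPGroup'.to_le (inf_le_left : (T : Subgroup G) ⊓ G0 ≤ T)).of_equiv
      (Subgroup.subgroupOfEquivOfLe (inf_le_right : (T : Subgroup G) ⊓ G0 ≤ G0)).symm).exists_le_sylow
    have hle : (R : Subgroup G0) ≤ ((T : Subgroup G) ⊓ G0).subgroupOf G0 := fun r hr =>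
      Subgroup.mem_subgroupOf.2 ⟨hT ⟨r, hr, rfl⟩, r.2⟩
    have heq : (S : Subgroup G0) = R := R.is_maximal' S.isPGroup' (hle.trans hS)
    exact ⟨⟨n, hnG⟩, heq ▸ hS (Subgroup.mem_subgroupOf.2 ⟨n.2, hnG⟩), rfl⟩
  set Q := (T : Subgroup G) ⊓ ((alternatingGroup (Fin 8)).map Φ) with hQ
  have haQ : d.a ∉ Q := by
    rintro ⟨-, x, hx, hxa⟩
    rw [haa] at hxa
    have : Perm.sign x = 1 := mem_alternatingGroup.1 hx
    rw [hinj hxa, f7, f6] at this
    exact absurd this (by decide)
  have hrel : Q.relIndex (T : Subgroup G) = 2 := by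
    rw [Subgroup.relIndex, Subgroup.index_eq_two_iff]
    refine ⟨⟨d.a, hT haR⟩, fun b => ?_⟩
    obtain ⟨x, hx⟩ := hR'G (hTR.symm ▸ b.2 : (b : G) ∈ R')
    have hbx : ∀ v : G, v ∈ (T : Subgroup G) → ∀ y, Φ y = v → (v ∈ Q ↔ Perm.sign y = 1) := by
      intro v hv y hy
      refine ⟨?_, fun h => ⟨hv, y, mem_alternatingGroup.2 h, hy⟩⟩
      rintro ⟨-, y', hy', hy''⟩
      rw [hinj (hy.trans hy''.symm)]
      exact mem_alternatingGroup.1 hy'
    simp only [Subgroup.mem_subgroupOf, Subgroup.coe_mul]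
    rw [hbx _ b.2 x hx, hbx _ ((T : Subgroup G).mul_mem b.2 (hT haR)) (x * emb8 aP) (by rw [map_mul, hΦ, hx]),
      f7, Perm.sign_mul, f6]
    rcases Int.units_eq_one_or (Perm.sign x) with e | e <;> rw [e] <;> decide
  rcases S0111.result T Q inf_le_left hrel d.a hord (hT haR) haQ with ⟨M, hMn, hMi, haM⟩ | ⟨g, hg⟩
  swap
  · exfalso
    obtain ⟨x, hx, hxg⟩ := hg.2
    obtain ⟨q, hq⟩ := isConj_iff.1 (class_a hinj hΦ (x := x) (isConj_iff.2 ⟨g, hxg.symm⟩))
    have : Perm.sign x = 1 := mem_alternatingGroup.1 hx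
    rw [← hq, f7] at this
    simp only [Perm.sign_mul, Perm.sign_inv] at this
    rw [mul_right_comm, Int.units_mul_self, one_mul, f6] at this
    exact absurd this (by decide)
  have hsplit : ∀ g, g ∈ M ∨ g * d.a ∈ M := fun g => by
    by_cases h : g ∈ M
    · exact Or.inl h
    · exact Or.inr ((Subgroup.mul_mem_iff_of_index_two hMi).2 (iff_of_false h haM))
  have hsq : ∀ g : G, g * g ∈ M := fun g => Subgroup.mul_self_mem_of_index_two hMi g
  have halt : ∀ x : Perm (Fin 8), Perm.sign x = 1 → Φ x ∈ M := by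
    intro x hx
    have hle : alternatingGroup (Fin 8) ≤ M.comap Φ := by
      rw [← Equiv.Perm.closure_three_cycles_eq_alternating, Subgroup.closure_le]
      intro c hc
      have h3 : c ^ 3 = 1 := hc.orderOf ▸ pow_orderOf_eq_one c
      show Φ c ∈ M
      rw [show c = (c * c) * (c * c) by
        rw [show c * c * (c * c) = c ^ 3 * c by rw [pow_succ, pow_two]; group, h3, one_mul], map_mul]
      exact M.mul_mem (by rw [map_mul]; exact hsq _) (by rw [map_mul]; exact hsq _)
    exact hle (mem_alternatingGroup.2 hx)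
  have hodd : ∀ x : Perm (Fin 8), Φ x ∈ M → Perm.sign x = 1 := by
    intro x hx
    rcases Int.units_eq_one_or (Perm.sign x) with e | e
    · exact e
    exfalso
    refine haM ?_
    have h1 := halt (x * emb8 aP) (by rw [Perm.sign_mul, e, f7, f6]; rfl)
    rw [map_mul, hΦ] at h1
    exact (M.mul_mem_cancel_left hx).1 h1
  have hpair : ∀ x : PP, Perm.sign (emb8 x) = 1 ↔ Perm.sign x.1 * Perm.sign x.2 = 1 := fun x => by
    rw [sign_emb8]
  let ψM : AltEightThree.Pairs →* M := (d.ψ.comp (Subgroup.subtype _)).codRestrict M fun x => by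
    show d.ψ (x : PP) ∈ M
    rw [← hΦ]
    exact halt _ ((hpair _).2 (AltEightThree.mem_pairs.1 x.2))
  have hψM : ∀ x : AltEightThree.Pairs, (ψM x : G) = d.ψ (x : PP) := fun _ => rfl
  obtain ⟨a1, a2, a3, a4⟩ := alt_pairs
  have hK : Φ K8s ∈ M := halt _ f5
  have hcfg : Nonempty (AltEightThree.Cfg M) := ⟨{
    ψ := ψM
    inj := fun x y h => Subtype.ext (d.inj (congrArg Subtype.val h))
    mem_range := by
      intro g hg
      obtain ⟨x, hx⟩ := d.mem_range (g : G) (by
        refine hg.imp (fun h => ?_) fun h => ?_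
        · have := congrArg Subtype.val h
          simpa only [Subgroup.coe_mul, Subgroup.coe_inv, hψM, a1] using this
        · have := congrArg Subtype.val h
          simpa only [Subgroup.coe_mul, Subgroup.coe_inv, hψM, a1] using this)
      have hs := hodd (emb8 x) (by rw [hΦ, hx]; exact g.2)
      exact ⟨⟨x, AltEightThree.mem_pairs.2 ((hpair x).1 hs)⟩, Subtype.ext hx⟩
    j := ⟨Φ K8s, hK⟩
    j_sq := Subtype.ext (by simp only [Subgroup.coe_mul, Subgroup.coe_one, ← map_mul, f2, map_one])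
    j_z := Subtype.ext (by
      simp only [Subgroup.coe_mul, hψM, a1, a2, ← hΦ, ← map_mul, f13])
    j_a := Subtype.ext (by
      simp only [Subgroup.coe_mul, hψM, a3, a4, ← hΦ, ← map_mul, f14])
    card_zw := ?_
    not27 := fun h => d.not27 (h.trans (Subgroup.card_subgroup_dvd_card M)) }⟩
  swap
  · set C := Subgroup.centralizer ({d.ψ (zP * wP)} : Set G) with hC
    have hcC : d.c ∈ C := Subgroup.mem_centralizer_singleton_iff.2 (d.commute_iff.2 (by decide +kernel)).eq
    have hcM : d.c ∉ M := fun h => by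
      replace h : d.ψ cP ∈ M := h
      rw [← hΦ cP] at h
      exact absurd (hodd _ h) (by rw [sign_emb8]; decide +kernel)
    have hi : (M.subgroupOf C).index = 2 := by
      rw [Subgroup.index_eq_two_iff]
      refine ⟨⟨d.c, hcC⟩, fun b => ?_⟩
      simp only [Subgroup.mem_subgroupOf, Subgroup.coe_mul]
      rw [Subgroup.mul_mem_iff_of_index_two hMi]
      by_cases h : (b : G) ∈ M
      · exact Or.inr ⟨h, fun h' => hcM (h'.1 h)⟩
      · exact Or.inl ⟨iff_of_false h hcM, h⟩
    have hc := (M.subgroupOf C).card_mul_index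
    rw [hi, d.card_zw] at hc
    have hz : ((ψM (AltEightThree.zP * AltEightThree.wP) : M) : G) = d.ψ (zP * wP) := by
      rw [hψM, Subgroup.coe_mul, a1, a2]
    rw [show Nat.card (Subgroup.centralizer ({ψM (AltEightThree.zP * AltEightThree.wP)} : Set M))
      = Nat.card (M.subgroupOf C) from ?_]
    · omega
    refine Nat.card_congr ⟨fun g => ⟨⟨(g : M), Subgroup.mem_centralizer_singleton_iff.2 ?_⟩, (g : M).2⟩,
      fun g => ⟨⟨(g : C), g.2⟩, Subgroup.mem_centralizer_singleton_iff.2 (Subtype.ext ?_)⟩,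
      fun _ => rfl, fun _ => rfl⟩
    · have := congrArg Subtype.val (Subgroup.mem_centralizer_singleton_iff.1 g.2)
      simpa only [Subgroup.coe_mul, hz] using this
    · have := Subgroup.mem_centralizer_singleton_iff.1 (g : C).2
      simpa only [Subgroup.coe_mul, hz] using this
  obtain ⟨c8⟩ := hcfg
  obtain ⟨e8⟩ := c8.nonempty_mulEquiv
  have hG : Nat.card G = Nat.card (Perm (Fin 8)) := by
    have h1 := M.card_mul_index
    rw [hMi, Nat.card_congr e8.toEquiv] at h1
    have h2 := two_mul_nat_card_alternatingGroup (α := Fin 8)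
    omega
  exact ⟨(MulEquiv.ofBijective Φ (hinj.bijective_of_nat_card_le hG.le)).symm⟩


end Cfg

end Cfsg.Agent.SymEightThree
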