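/-
The configuration from the normalizers of a subgroup of order three and of a Sylow three-subgroup.
-/
import Cfsg.Agent.Lib.SymEightThree.Nine
import Cfsg.Agent.S3333

set_option autoImplicit false
set_option maxRecDepth 100000
set_option synthInstance.maxSize 4000
set_option synthInstance.maxHeartbeats 400000
set_option linter.unusedSectionVars false

namespace Cfsg.Agent.SymEightThree

variable {G : Type*} [Group G] [Finite G]

theorem mem_D_iff (D : Subgroup G) (ψ : PP →* G) (hinj : Function.Injective ψ)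
    (hz : ψ zP ∈ D) (hw : ψ wP ∈ D) (hD : Nat.card D = 9) :
    ∀ v, v ∈ D ↔ ∃ x ∈ nineList, ψ x = v := by
  have hmem : ∀ x ∈ nineList, ψ x ∈ D := by
    intro x hx
    simp only [nineList, List.mem_cons, List.not_mem_nil, or_false] at hx
    rcases hx with rfl | rfl | rfl | rfl | rfl | rfl | rfl | rfl | rfl <;>
      (try simp only [map_mul, map_one]) <;>
      first
      | exact D.one_mem
      | assumption
      | (repeat' first | assumption | apply D.mul_mem)
  intro v
  refine ⟨fun hv => ?_, fun ⟨x, hx, he⟩ => he ▸ hmem x hx⟩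
  let f : Fin 9 → D := fun i =>
    ⟨ψ (nineList[i.val]'(lt_of_lt_of_eq i.2 rfl)), hmem _ (List.getElem_mem _)⟩
  have hf : Function.Injective f := by
    intro a b hab
    have h := hinj (congrArg Subtype.val hab)
    have hnd : nineList.Nodup := by decide +kernel
    exact Fin.ext (hnd.getElem_inj_iff.1 h)
  obtain ⟨i, hi⟩ := (hf.bijective_of_nat_card_le (by rw [hD, Nat.card_fin])).2 ⟨v, hv⟩
  exact ⟨_, List.getElem_mem _, congrArg Subtype.val hi⟩

/-- The elements normalizing the subgroup on `nineList`. -/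
theorem mem_normalizer_D (D : Subgroup G) (ψ : PP →* G) (hinj : Function.Injective ψ)
    (hz : ψ zP ∈ D) (hw : ψ wP ∈ D) (hD : Nat.card D = 9) :
    (∀ g : G, g * ψ zP * g⁻¹ ∈ D → g * ψ wP * g⁻¹ ∈ D → g ∈ Subgroup.normalizer (D : Set G)) ∧
      ∀ x : PP, ψ x ∈ Subgroup.normalizer (D : Set G) ↔ InNine x := by
  have hnine := mem_D_iff D ψ hinj hz hw hD
  have hDnorm : ∀ g : G, g * ψ zP * g⁻¹ ∈ D → g * ψ wP * g⁻¹ ∈ D →
      g ∈ Subgroup.normalizer (D : Set G) := by
    intro g h1 h2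
    refine Subgroup.mem_normalizer_fintype fun v hv => ?_
    obtain ⟨x, hx, rfl⟩ := (hnine v).1 hv
    show (MulAut.conj g) (ψ x) ∈ D
    simp only [nineList, List.mem_cons, List.not_mem_nil, or_false] at hx
    have h1' : (MulAut.conj g) (ψ zP) ∈ D := h1
    have h2' : (MulAut.conj g) (ψ wP) ∈ D := h2
    rcases hx with rfl | rfl | rfl | rfl | rfl | rfl | rfl | rfl | rfl <;>
      (try simp only [map_mul, map_one]) <;>
      first
      | exact D.one_mem
      | assumption
      | (repeat' first | assumption | apply D.mul_mem)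
  refine ⟨hDnorm, fun x => ?_⟩
  have key : ∀ v, ψ x * ψ v * (ψ x)⁻¹ ∈ D ↔ x * v * x⁻¹ ∈ nineList := by
    intro v
    rw [← map_inv, ← map_mul, ← map_mul, hnine]
    exact ⟨fun ⟨u, hu, he⟩ => hinj he ▸ hu, fun h => ⟨_, h, rfl⟩⟩
  constructor
  · intro h
    exact ⟨(key zP).1 ((Subgroup.mem_normalizer_iff.1 h _).1 hz),
      (key wP).1 ((Subgroup.mem_normalizer_iff.1 h _).1 hw)⟩
  · rintro ⟨h1, h2⟩
    exact hDnorm _ ((key zP).2 h1) ((key wP).2 h2)

/-- The configuration without the alternative for the centralizer of `(3 4)`. -/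
theorem exists_pre (D : Subgroup G) (ψ : PP →* G) (hinj : Function.Injective ψ)
    (hrange : ∀ g : G, g * ψ zP * g⁻¹ = ψ zP ∨ g * ψ zP * g⁻¹ = (ψ zP)⁻¹ → g ∈ ψ.range)
    (hz : ψ zP ∈ D) (hw : ψ wP ∈ D) (hD : Nat.card D = 9) (hexp : ∀ v ∈ D, v ^ 3 = 1)
    (hN : Nat.card (Subgroup.normalizer (D : Set G)) = 144)
    {y : G} (hy : y ∈ D) (hyn : ∀ c, Commute c y → ∀ v ∈ D, c * v * c⁻¹ ∈ D)
    (hycard : Nat.card (Subgroup.centralizer ({y} : Set G)) = 36)
    (hysq : ∀ c, Commute c y → c ^ 2 ∈ D) (h27 : ¬ 27 ∣ Nat.card G) :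
    ∃ d : Pre G, d.ψ = ψ ∧ d.j ∈ Subgroup.normalizer (D : Set G) ∧
      ∀ v, Commute v (ψ (zP * wP)) → v ∈ Subgroup.normalizer (D : Set G) := by
  classical
  have hnine := mem_D_iff D ψ hinj hz hw hD
  obtain ⟨hDnorm, hin⟩ := mem_normalizer_D D ψ hinj hz hw hD
  set N := Subgroup.normalizer (D : Set G) with hNdef
  set M := ψ.range.subgroupOf N with hM
  have hMcard : Nat.card M = 72 := by
    have e : Nat.card M = Nat.card {x : PP // InNine x} := by
      refine (Nat.card_eq_of_bijective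
        (fun x : {x : PP // InNine x} => (⟨⟨ψ x.1, (hin _).2 x.2⟩, ⟨x.1, rfl⟩⟩ : M)) ⟨?_, ?_⟩).symm
      · intro a b h
        exact Subtype.ext (hinj (congrArg (fun m : M => ((m : N) : G)) h))
      · rintro ⟨⟨g, hg⟩, x, hx⟩
        have hx' : ψ x = g := hx
        exact ⟨⟨x, (hin x).1 (hx' ▸ hg)⟩, Subtype.ext (Subtype.ext hx')⟩
    rw [e, Nat.card_eq_fintype_card, card_inNine]
  have hidx : M.index = 2 := by
    have := M.card_mul_index
    rw [hMcard, hN] at this
    omega
  have hMn : M.Normal := Subgroup.normal_of_index_eq_two hidx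
  obtain ⟨hzm, hwm, hbN, haN, hcN, haz, haw, ha2⟩ := nine_mem
  have htrans : ∀ (g : G), g ∈ N → g ∉ ψ.range →
      g * ψ zP * g⁻¹ = ψ wP ∨ g * ψ zP * g⁻¹ = (ψ wP)⁻¹ := by
    intro g hg hgr
    have hgz : g * ψ zP * g⁻¹ ∈ D := (Subgroup.mem_normalizer_iff.1 hg _).1 hz
    obtain ⟨e, he, hde⟩ := (hnine _).1 hgz
    have hm : ((⟨g, hg⟩ : N)⁻¹ * ⟨ψ bP, (hin _).2 hbN⟩ * ⟨g, hg⟩) ∈ M :=
      hMn.conj_mem' _ ⟨bP, rfl⟩ _
    obtain ⟨x, hx⟩ := hm
    have hx' : ψ x = g⁻¹ * ψ bP * g := hx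
    have hc : bP * e * bP⁻¹ = e ∨ bP * e * bP⁻¹ = e⁻¹ := by
      have e' : ψ bP * ψ e * (ψ bP)⁻¹ = g * (ψ x * ψ zP * (ψ x)⁻¹) * g⁻¹ := by
        rw [hde, hx']; group
      rcases conj_zP x with h | h
      · refine Or.inl (hinj ?_)
        rw [map_mul, map_mul, map_inv, e', ← map_inv, ← map_mul, ← map_mul, h, hde]
      · refine Or.inr (hinj ?_)
        rw [map_mul, map_mul, map_inv, e', ← map_inv ψ x, ← map_mul, ← map_mul, h, map_inv, map_inv, hde]
        group
    have h := nine_fixed e he hc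
    simp only [List.mem_cons, List.not_mem_nil, or_false] at h
    rcases h with rfl | rfl | rfl | rfl | rfl
    · rw [map_one, eq_comm, conj_eq_one_iff, ← map_one ψ] at hde
      exact absurd (hinj hde) (by decide +kernel)
    · exact absurd (hrange g (Or.inl hde.symm)) hgr
    · exact absurd (hrange g (Or.inr (by
        rw [← hde, ← map_inv]; exact congrArg ψ (by decide +kernel)))) hgr
    · exact Or.inl hde.symm
    · exact Or.inr (by rw [← hde, ← map_inv]; exact congrArg ψ (by decide +kernel))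
  obtain ⟨g, hgN, hgr⟩ : ∃ g, g ∈ N ∧ g ∉ ψ.range := by
    by_contra hall
    push Not at hall
    have htop : M = ⊤ := eq_top_iff.2 fun m _ => hall m m.2
    rw [htop, Subgroup.index_top] at hidx
    norm_num at hidx
  have hfive : ∀ v : G, IsConj (ψ zP) v → Nat.card (Subgroup.centralizer ({v} : Set G)) ≠ 36 := by
    intro v hv h36
    obtain ⟨q, rfl⟩ := isConj_iff.1 hv
    have h5 : orderOf (q * ψ fP * q⁻¹) = 5 := by
      rw [orderOf_conj_eq, orderOf_injective _ hinj]
      exact orderOf_eq_prime (p := 5) (hp := ⟨by norm_num⟩) (by decide +kernel) (by decide +kernel)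
    have hm : q * ψ fP * q⁻¹ ∈ Subgroup.centralizer ({q * ψ zP * q⁻¹} : Set G) := by
      rw [Subgroup.mem_centralizer_singleton_iff]
      exact (commute_conj (Commute.map
        (show Commute fP zP from (by decide +kernel : fP * zP = zP * fP)) ψ) q).eq
    have := Subgroup.orderOf_dvd_natCard _ hm
    rw [h5, h36] at this
    norm_num at this
  obtain ⟨e, he, rfl⟩ := (hnine y).1 hy
  have hzinv : IsConj (ψ zP) (ψ zP)⁻¹ := isConj_iff.2 ⟨ψ bP, by
    rw [← map_inv, ← map_inv, ← map_mul, ← map_mul, show bP * zP * bP⁻¹ = zP⁻¹ by decide +kernel]⟩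
  have hwconj : IsConj (ψ zP) (ψ wP) ∧ IsConj (ψ zP) (ψ wP)⁻¹ := by
    rcases htrans g hgN hgr with h | h
    · refine ⟨isConj_iff.2 ⟨g, h⟩, hzinv.trans (isConj_iff.2 ⟨g, ?_⟩)⟩
      rw [← h]; group
    · refine ⟨hzinv.trans (isConj_iff.2 ⟨g, ?_⟩), isConj_iff.2 ⟨g, h⟩⟩
      rw [← inv_inv (ψ wP), ← h]; group
  have he1 : e ∉ [1, zP, zP * zP, wP, wP * wP] := by
    intro h
    simp only [List.mem_cons, List.not_mem_nil, or_false] at h
    rcases h with rfl | rfl | rfl | rfl | rfl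
    · have h' : Nat.card (Subgroup.centralizer ({ψ (1 : PP)} : Set G)) = Nat.card G := by
        rw [map_one, Subgroup.centralizer_eq_top_iff_subset.2 (by simp), Subgroup.card_top]
      rw [h'] at hycard
      have := Subgroup.card_subgroup_dvd_card N
      rw [hN, hycard] at this
      norm_num at this
    · exact hfive _ (IsConj.refl _) hycard
    · rw [show ψ (zP * zP) = (ψ zP)⁻¹ by rw [← map_inv]; exact congrArg ψ (by decide +kernel)] at hycard
      exact hfive _ hzinv hycard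
    · exact hfive _ hwconj.1 hycard
    · rw [show ψ (wP * wP) = (ψ wP)⁻¹ by rw [← map_inv]; exact congrArg ψ (by decide +kernel)] at hycard
      exact hfive _ hwconj.2 hycard
  obtain ⟨h, hh, hhd⟩ := nine_lines e he he1
  have hhN : ψ h ∈ N := (hin h).2 hh
  have hconj : ψ e = ψ h * ψ (zP * wP) * (ψ h)⁻¹ := by rw [← map_inv, ← map_mul, ← map_mul, hhd]
  have hcardzw : Nat.card (Subgroup.centralizer ({ψ (zP * wP)} : Set G)) = 36 := by
    rw [← hycard]
    refine Nat.card_congr (Equiv.subtypeEquiv (MulAut.conj (ψ h)).toEquiv fun v => ?_)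
    simp only [Subgroup.mem_centralizer_singleton_iff, MulEquiv.toEquiv_eq_coe, EquivLike.coe_coe,
      MulAut.conj_apply, hconj]
    constructor
    · intro hv
      exact (commute_conj (show Commute v (ψ (zP * wP)) from hv) (ψ h)).eq
    · intro hv
      have := commute_conj (show Commute _ _ from hv) (ψ h)⁻¹
      simpa [mul_assoc] using this.eq
  have hzwN : ∀ v, Commute v (ψ (zP * wP)) → v ∈ N ∧ v ^ 2 ∈ D := by
    intro v hv
    have hv' : Commute (ψ h * v * (ψ h)⁻¹) (ψ e) := by rw [hconj]; exact commute_conj hv _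
    constructor
    · have : ψ h * v * (ψ h)⁻¹ ∈ N := Subgroup.mem_normalizer_fintype fun u hu => hyn _ hv' u hu
      have := N.mul_mem (N.mul_mem (N.inv_mem hhN) this) hhN
      simpa [mul_assoc] using this
    · have := hysq _ hv'
      rw [conj_pow] at this
      exact (Subgroup.mem_normalizer_iff.1 hhN _).2 this
  obtain ⟨g₀, hg₀, hg₀r⟩ : ∃ g₀, Commute g₀ (ψ (zP * wP)) ∧ g₀ ∉ ψ.range := by
    by_contra hall
    push Not at hall
    have hle : Nat.card (Subgroup.centralizer ({ψ (zP * wP)} : Set G)) ≤ centList.length := by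
      rw [← Nat.card_fin centList.length]
      refine Nat.card_le_card_of_surjective
        (fun i : Fin centList.length => (⟨ψ centList[i], Subgroup.mem_centralizer_singleton_iff.2 (by
          have hcl : ∀ x ∈ centList, x * (zP * wP) = zP * wP * x := by decide +kernel
          exact ((show Commute centList[i] (zP * wP) from hcl _ (List.getElem_mem _)).map ψ).eq)⟩ :
          Subgroup.centralizer ({ψ (zP * wP)} : Set G))) fun v => ?_
      have hv : Commute (v : G) (ψ (zP * wP)) := Subgroup.mem_centralizer_singleton_iff.1 v.2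
      obtain ⟨x, hx⟩ := hall v hv
      obtain ⟨i, hi, hix⟩ := List.getElem_of_mem (cent_zw_list x (hinj (by
        rw [map_mul, map_mul ψ _ x, hx]; exact hv.eq)))
      exact ⟨⟨i, hi⟩, Subtype.ext (by rw [← hx, ← hix]; rfl)⟩
    rw [hcardzw, show centList.length = 18 by decide +kernel] at hle
    norm_num at hle
  obtain ⟨i, hi2', hir, hic⟩ : ∃ i, i * i = 1 ∧ i ∉ ψ.range ∧ Commute i (ψ (zP * wP)) := by
    have hsq := (hzwN _ hg₀).2
    obtain ⟨x, -, hx⟩ := (hnine _).1 hsq
    refine ⟨g₀ ^ 9, ?_, fun hr => hg₀r ?_, hg₀.pow_left 9⟩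
    · calc g₀ ^ 9 * g₀ ^ 9 = ((g₀ ^ 2) ^ 3) ^ 3 := by
            rw [← pow_add, ← pow_mul, ← pow_mul]
        _ = 1 := by rw [hexp _ hsq, one_pow]
    · have h8 : g₀ ^ 8 ∈ ψ.range := by
        rw [show 8 = 2 * 4 from rfl, pow_mul, ← hx]
        exact ψ.range.pow_mem ⟨x, rfl⟩ 4
      have := ψ.range.mul_mem hr (ψ.range.inv_mem h8)
      rwa [show g₀ ^ 9 * (g₀ ^ 8)⁻¹ = g₀ by rw [pow_succ', mul_inv_cancel_right]] at this
  have hiN := (hzwN i hic).1
  have hiinv : i⁻¹ = i := inv_eq_of_mul_eq_one_right hi2'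
  have hzw : i * ψ zP * i⁻¹ * (i * ψ wP * i⁻¹) = ψ zP * ψ wP := by
    rw [← map_mul]
    calc i * ψ zP * i⁻¹ * (i * ψ wP * i⁻¹) = i * ψ (zP * wP) * i⁻¹ := by rw [map_mul]; group
      _ = _ := by rw [hic.eq, mul_inv_cancel_right]
  have hiz : i * ψ zP * i = ψ wP ∧ i * ψ wP * i = ψ zP := by
    rw [hiinv] at hzw
    rcases htrans i hiN hir with h1 | h1 <;> rw [hiinv] at h1
    · refine ⟨h1, ?_⟩
      rw [← h1]
      calc i * (i * ψ zP * i) * i = (i * i) * ψ zP * (i * i) := by group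
        _ = ψ zP := by rw [hi2', one_mul, mul_one]
    · exfalso
      have h2 : i * ψ wP * i = (ψ zP)⁻¹ := by
        have hw' : ψ wP = i * (ψ zP)⁻¹ * i := by
          rw [← inv_inv (ψ wP), ← h1, mul_inv_rev, mul_inv_rev, hiinv, mul_assoc]
        rw [hw']
        calc i * (i * (ψ zP)⁻¹ * i) * i = (i * i) * (ψ zP)⁻¹ * (i * i) := by group
          _ = _ := by rw [hi2', one_mul, mul_one]
      rw [h1, h2, ← map_inv, ← map_inv, ← map_mul, ← map_mul] at hzw
      exact absurd (hinj hzw) (by decide +kernel)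
  have hci : ∀ p q : G, i * (p * q) * i = (i * p * i) * (i * q * i) := fun p q => by
    calc i * (p * q) * i = i * p * 1 * q * i := by group
      _ = _ := by rw [← hi2']; group
  have hinv : ∀ p : G, (i * p * i)⁻¹ = i * p⁻¹ * i := fun p => by
    rw [mul_inv_rev, mul_inv_rev, hiinv, mul_assoc]
  have hcomm : ∀ p q : G, Commute p q → Commute (i * p * i) (i * q * i) := fun p q h => by
    show _ * _ = _ * _
    rw [← hci, ← hci, h.eq]
  have hiconj : ∀ x : PP, InNine x → ∃ x' : PP, ψ x' = i * ψ x * i ∧ InNine x' := fun x hx => by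
    obtain ⟨x', hx'⟩ : ((⟨i, hiN⟩ : N) * ⟨ψ x, (hin _).2 hx⟩ * (⟨i, hiN⟩ : N)⁻¹) ∈ M :=
      hMn.conj_mem _ ⟨x, rfl⟩ _
    have h' : ψ x' = i * ψ x * i⁻¹ := hx'
    rw [hiinv] at h'
    exact ⟨x', h', (hin x').1 (h' ▸ N.mul_mem (N.mul_mem hiN ((hin _).2 hx)) hiN)⟩
  obtain ⟨x, hx', hxN⟩ := hiconj aP haN
  obtain ⟨x₁, hx₁, -⟩ := hiconj cP hcN
  have hc1 : i * ψ cP * i = ψ cP := by
    have hz1 : Commute (ψ x₁) (ψ zP) := by
      rw [hx₁, ← hiz.2]
      exact hcomm _ _ (Commute.map (show Commute cP wP from (by decide +kernel : cP * wP = wP * cP)) ψ)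
    have hw1 : Commute (ψ x₁) (ψ wP) := by
      rw [hx₁, ← hiz.1]
      exact hcomm _ _ (Commute.map (show Commute cP zP from (by decide +kernel : cP * zP = zP * cP)) ψ)
    have hsq : x₁ * x₁ = 1 := hinj (by
      rw [map_mul, map_one, hx₁, ← hci, ← map_mul, show cP * cP = 1 by decide +kernel, map_one, mul_one,
        hi2'])
    rcases cent_invol x₁ (cent_cw x₁ (hinj (by rw [map_mul, map_mul ψ _ x₁]; exact hz1.eq))
        (hinj (by rw [map_mul, map_mul ψ _ x₁]; exact hw1.eq))) hsq with e' | e'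
    · exfalso
      have h1 : i * ψ cP * i = 1 := by rw [← hx₁, e', map_one]
      have h2 : ψ cP = 1 := by
        calc ψ cP = (i * i) * ψ cP * (i * i) := by rw [hi2', one_mul, mul_one]
          _ = i * (i * ψ cP * i) * i := by group
          _ = 1 := by rw [h1, mul_one, hi2']
      exact absurd (hinj (h2.trans (map_one ψ).symm)) (by decide +kernel)
    · rw [← hx₁, e']
  obtain ⟨m, -, hm⟩ := nine_partner x hxN
    (hinj (by
      rw [map_mul, map_mul, map_inv, map_inv, hx', hinv, ← hiz.2, ← hci, ← hci, ← map_inv, ← map_mul,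
        ← map_mul, haw, map_inv, hinv]))
    (hinj (by
      rw [map_mul, map_mul, hx', ← hiz.1, ← hci, ← hci, ← map_mul, ← map_mul,
        show aP * zP = zP * aP by decide +kernel]))
    (hinj (by rw [map_mul, map_one, hx', ← hci, ← map_mul, ha2, map_one, mul_one, hi2']))
  have hfix : ∀ x : PP, x * zP = zP * x → (ψ zP ^ m)⁻¹ * ψ x * ψ zP ^ m = ψ x := fun x hx => by
    rw [mul_assoc, ← ((Commute.map (show Commute zP x from hx.symm) ψ).pow_left m).eq,
      inv_mul_cancel_left]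
  have hexpand : ∀ g : G, ψ zP ^ m * i * (ψ zP ^ m)⁻¹ * g * (ψ zP ^ m * i * (ψ zP ^ m)⁻¹)
      = ψ zP ^ m * (i * ((ψ zP ^ m)⁻¹ * g * ψ zP ^ m) * i) * (ψ zP ^ m)⁻¹ := fun g => by group
  have hback : ∀ x : PP, x * zP = zP * x → ψ zP ^ m * ψ x * (ψ zP ^ m)⁻¹ = ψ x := fun x hx => by
    rw [((Commute.map (show Commute zP x from hx.symm) ψ).pow_left m).eq, mul_inv_cancel_right]
  refine ⟨{
    ψ := ψ
    inj := hinj
    mem_range := hrange
    j := ψ zP ^ m * i * (ψ zP ^ m)⁻¹
    j_sq := by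
      calc _ = ψ zP ^ m * (i * i) * (ψ zP ^ m)⁻¹ := by group
        _ = 1 := by rw [hi2', mul_one, mul_inv_cancel]
    j_z := ?_
    j_c := ?_
    j_a := ?_
    card_zw := hcardzw
    not27 := h27 }, rfl, ?_, fun v hv => (hzwN v hv).1⟩
  · rw [hexpand, hfix zP rfl, hiz.1, hback wP (by decide +kernel)]
  · rw [hexpand, hfix cP (by decide +kernel), hc1, hback cP (by decide +kernel)]
  · rw [hexpand, hfix aP (by decide +kernel), ← hx', ← map_pow, ← map_inv, ← map_mul, ← map_mul]
    rcases hm with hm | hm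
    · exact Or.inl (by rw [hm])
    · exact Or.inr (by rw [hm])
  · exact N.mul_mem (N.mul_mem (N.pow_mem ((hin zP).2 (by decide +kernel)) m) hiN)
      (N.inv_mem (N.pow_mem ((hin zP).2 (by decide +kernel)) m))

end Cfsg.Agent.SymEightThree
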