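/-
The centralizer of `(3 4)`: either it normalizes `⟨z, w⟩` or it is a cover of `S₆`.
-/
import Cfsg.Agent.Lib.SymEightThree.Setup

set_option autoImplicit false
set_option maxRecDepth 100000
set_option synthInstance.maxSize 4000
set_option synthInstance.maxHeartbeats 400000
set_option linter.unusedSectionVars false

namespace Cfsg.Agent.SymEightThree

variable {G : Type*} [Group G] [Finite G]

/-- The configuration, extending a given embedding. -/
theorem exists_cfg (P : Sylow 3 G) (D : Subgroup G) (hDP : D = P) (ψ : PP →* G) (hinj : Function.Injective ψ)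
    (hrange : ∀ g : G, g * ψ zP * g⁻¹ = ψ zP ∨ g * ψ zP * g⁻¹ = (ψ zP)⁻¹ → g ∈ ψ.range)
    (hz : ψ zP ∈ D) (hw : ψ wP ∈ D) (hD : Nat.card D = 9) (hexp : ∀ v ∈ D, v ^ 3 = 1)
    (hN : Nat.card (Subgroup.normalizer (D : Set G)) = 144)
    [hcn : ((Subgroup.centralizer (D : Set G)).subgroupOf (Subgroup.normalizer (D : Set G))).Normal]
    (eNC : Subgroup.normalizer (D : Set G) ⧸ (Subgroup.centralizer (D : Set G)).subgroupOf (Subgroup.normalizer (D : Set G)) ≃* DihedralGroup 4)
    {y : G} (hy : y ∈ D) (hyn : ∀ c, Commute c y → ∀ v ∈ D, c * v * c⁻¹ ∈ D)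
    (hycard : Nat.card (Subgroup.centralizer ({y} : Set G)) = 36)
    (hysq : ∀ c, Commute c y → c ^ 2 ∈ D) (h27 : ¬ 27 ∣ Nat.card G) :
    ∃ c : Cfg G, c.ψ = ψ := by
  classical
  obtain ⟨d, rfl, hjN, hzwN⟩ := exists_pre D ψ hinj hrange hz hw hD hexp hN hy hyn hycard hysq h27
  have hnine := mem_D_iff D d.ψ hinj hz hw hD
  obtain ⟨hDnorm, hin⟩ := mem_normalizer_D D d.ψ hinj hz hw hD
  set N := Subgroup.normalizer (D : Set G) with hNdef
  set C := Subgroup.centralizer ({d.c} : Set G) with hCdef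
  have hCD : ∀ g, g ∈ Subgroup.centralizer (D : Set G) ↔ ∃ x ∈ centList, d.ψ x = g := by
    intro g
    constructor
    · intro hg
      have hgz : Commute g d.z := (hg _ hz).symm
      obtain ⟨x, rfl⟩ := d.mem_of_commute hgz
      exact ⟨x, cent_cw x (d.commute_iff.1 hgz) (d.commute_iff.1 (hg _ hw).symm), rfl⟩
    · rintro ⟨x, hx, rfl⟩ v hv
      obtain ⟨k, hk, rfl⟩ := (hnine v).1 hv
      have key : ∀ x ∈ centList, ∀ k ∈ nineList, k * x = x * k := by decide +kernel
      exact (d.commute_iff.2 (key x hx k hk)).eq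
  have hsplit : ∀ g ∈ Subgroup.centralizer (D : Set G), ∃ v ∈ D, g = v ∨ g = v * d.c := by
    intro g hg
    obtain ⟨x, hx, rfl⟩ := (hCD g).1 hg
    rcases cent_list_split x hx with h | ⟨v, hv, rfl⟩
    · exact ⟨_, (hnine _).2 ⟨x, h, rfl⟩, Or.inl rfl⟩
    · exact ⟨_, (hnine _).2 ⟨v, hv, rfl⟩, Or.inr (map_mul _ _ _)⟩
  have hcsq : d.c * d.c = 1 := by rw [← map_mul, show cP * cP = 1 by decide +kernel, map_one]
  have hcc : d.c ∈ Subgroup.centralizer (D : Set G) := (hCD _).2 ⟨cP, by decide +kernel, rfl⟩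
  have hDC : D ≤ C := fun v hv => Subgroup.mem_centralizer_singleton_iff.2 (hcc v hv)
  have hcD : d.c ∉ D := fun h => d.map_ne_one (by decide +kernel : cP ≠ 1) (by
    calc d.c = d.c ^ 3 * (d.c * d.c)⁻¹ := by group
      _ = 1 := by rw [hexp _ h, hcsq, inv_one, mul_one])
  have hNC : N ≤ C := by
    intro g hg
    have hm : g * d.c * g⁻¹ ∈ Subgroup.centralizer (D : Set G) :=
      hcn.conj_mem ⟨d.c, Subgroup.centralizer_le_normalizer _ hcc⟩ hcc ⟨g, hg⟩
    have hsq : (g * d.c * g⁻¹) * (g * d.c * g⁻¹) = 1 := by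
      calc g * d.c * g⁻¹ * (g * d.c * g⁻¹) = g * (d.c * d.c) * g⁻¹ := by group
        _ = 1 := by rw [hcsq, mul_one, mul_inv_cancel]
    obtain ⟨x, hx, hxe⟩ := (hCD _).1 hm
    rcases cent_invol x hx (d.inj (by rw [map_mul, map_one, hxe, hsq])) with rfl | rfl
    · rw [map_one, eq_comm, conj_eq_one_iff] at hxe
      exact absurd hxe (d.map_ne_one (by decide +kernel : cP ≠ 1))
    · exact Subgroup.mem_centralizer_singleton_iff.2 (mul_inv_eq_iff_eq_mul.1 hxe.symm)
  let cc : C := ⟨d.c, Subgroup.mem_centralizer_singleton_iff.2 rfl⟩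
  set Z := Subgroup.zpowers cc with hZdef
  haveI : Z.Normal := ⟨fun n hn g => by
    obtain ⟨k, rfl⟩ := hn
    have h : Commute g cc := Subtype.ext (Subgroup.mem_centralizer_singleton_iff.1 g.2)
    show g * cc ^ k * g⁻¹ ∈ _
    rw [(h.zpow_right k).eq, mul_inv_cancel_right]
    exact ⟨k, rfl⟩⟩
  have hZmem : ∀ g : C, g ∈ Z ↔ (g : G) = 1 ∨ (g : G) = d.c := by
    intro g
    constructor
    · rintro ⟨k, hk⟩
      have hk' : d.c ^ k = (g : G) := congrArg Subtype.val hk
      have h2 : d.c ^ (2 : ℤ) = 1 := by rw [zpow_two, hcsq]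
      rw [← Int.emod_add_mul_ediv k 2, zpow_add, zpow_mul, h2, one_zpow, mul_one] at hk'
      rcases Int.emod_two_eq k with e | e <;> rw [e] at hk'
      · exact Or.inl (by rw [← hk', zpow_zero])
      · exact Or.inr (by rw [← hk', zpow_one])
    · rintro (h | h)
      · rw [show g = 1 from Subtype.ext h]; exact Z.one_mem
      · rw [show g = cc from Subtype.ext h]; exact Subgroup.mem_zpowers _
  let π := QuotientGroup.mk' Z
  have hπ1 : ∀ g : C, π g = 1 ↔ (g : G) = 1 ∨ (g : G) = d.c := fun g =>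
    (QuotientGroup.eq_one_iff g).trans (hZmem g)
  have hπs : Function.Surjective π := QuotientGroup.mk'_surjective Z
  have : Fact (Nat.Prime 3) := ⟨Nat.prime_three⟩
  let P' : Sylow 3 C := P.subtype (hDP ▸ hDC)
  set S : Subgroup (C ⧸ Z) := (D.subgroupOf C).map π with hSdef
  have hSP : S = (P'.mapSurjective hπs : Subgroup (C ⧸ Z)) := by
    rw [Sylow.coe_mapSurjective, Sylow.coe_subtype, hSdef, hDP]
  have hkey : ∀ g v : C, (v : G) ∈ D → ∀ e ∈ D, ((g * v * g⁻¹ : C) : G) = e * d.c → False := by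
    intro g v hv e he h
    have h3 : ((g : G) * (v : G) * (g : G)⁻¹) ^ 3 = 1 := by
      rw [conj_pow, hexp _ hv, mul_one, mul_inv_cancel]
    have hec : Commute e d.c := hcc e he
    simp only [Subgroup.coe_mul, Subgroup.coe_inv] at h
    rw [h, hec.mul_pow, hexp _ he, one_mul, show d.c ^ 3 = d.c * d.c * d.c by rw [pow_succ, pow_two], hcsq, one_mul] at h3
    exact d.map_ne_one (by decide +kernel : cP ≠ 1) h3
  have hconjmem : ∀ g v : C, (v : G) ∈ D → π (g * v * g⁻¹) ∈ S → (g : G) * (v : G) * (g : G)⁻¹ ∈ D := by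
    rintro g v hv ⟨e, he, hee⟩
    have he' : (e : G) ∈ D := he
    rw [eq_comm, ← inv_mul_eq_one, ← map_inv, ← map_mul, hπ1] at hee
    simp only [Subgroup.coe_mul, Subgroup.coe_inv, inv_mul_eq_iff_eq_mul, mul_one] at hee
    rcases hee with h | h
    · exact h ▸ he'
    · exfalso
      refine hkey g v hv (e : G) he' ?_
      simp only [Subgroup.coe_mul, Subgroup.coe_inv]
      rw [h, mul_assoc, mul_assoc, hcsq, mul_one]
  have hconjeq : ∀ g v : C, (v : G) ∈ D → π g * π v = π v * π g → Commute (g : G) (v : G) := by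
    intro g v hv h
    have h' : π ((g * v * g⁻¹) * v⁻¹) = 1 := by
      simp only [map_mul, map_inv]
      rw [h]; group
    rcases (hπ1 _).1 h' with h | h <;> simp only [Subgroup.coe_mul, Subgroup.coe_inv] at h
    · rw [mul_inv_eq_one, mul_inv_eq_iff_eq_mul] at h
      exact h
    · exfalso
      refine hkey g v hv (v : G) hv ?_
      simp only [Subgroup.coe_mul, Subgroup.coe_inv]
      rw [mul_inv_eq_iff_eq_mul] at h
      rw [h, (show Commute (v : G) d.c from hcc _ hv).eq]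
  have hS9 : Nat.card S = 9 := by
    have hinj' : Function.Injective (π.comp (D.subgroupOf C).subtype) := by
      rw [injective_iff_map_eq_one]
      intro v hv
      rcases (hπ1 _).1 hv with h | h
      · exact Subtype.ext (Subtype.ext h)
      · exact absurd (h ▸ (v.2 : ((v : C) : G) ∈ D)) hcD
    have e := Nat.card_congr (MonoidHom.ofInjective hinj').toEquiv
    rw [MonoidHom.range_comp, Subgroup.range_subtype, ← hSdef,
      Nat.card_congr (Subgroup.subgroupOfEquivOfLe hDC).toEquiv, hD] at e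
    exact e.symm
  have hCS : Subgroup.centralizer (S : Set (C ⧸ Z)) = S := by
    refine le_antisymm (fun q hq => ?_) ?_
    · obtain ⟨g, rfl⟩ := hπs q
      have hg : (g : G) ∈ Subgroup.centralizer (D : Set G) := fun v hv =>
        (hconjeq g ⟨v, hDC hv⟩ hv (hq (π ⟨v, hDC hv⟩) ⟨⟨v, hDC hv⟩, hv, rfl⟩).symm).symm.eq
      obtain ⟨v, hv, hgv⟩ := hsplit _ hg
      refine ⟨⟨v, hDC hv⟩, hv, ?_⟩
      rw [← inv_mul_eq_one, ← map_inv, ← map_mul, hπ1]
      simp only [Subgroup.coe_mul, Subgroup.coe_inv, inv_mul_eq_iff_eq_mul, mul_one]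
      exact hgv
    · rintro _ ⟨v, hv, rfl⟩ _ ⟨v', hv', rfl⟩
      rw [← map_mul, ← map_mul]
      refine congrArg π (Subtype.ext ?_)
      obtain ⟨x, hx, hxe⟩ := (hnine _).1 (show (v : G) ∈ D from hv)
      obtain ⟨x', hx', hxe'⟩ := (hnine _).1 (show (v' : G) ∈ D from hv')
      have key : ∀ x ∈ nineList, ∀ k ∈ nineList, k * x = x * k := by decide +kernel
      simp only [Subgroup.coe_mul, ← hxe, ← hxe', ← map_mul, key x hx x' hx']
  set NS := Subgroup.normalizer (S : Set (C ⧸ Z)) with hNSdef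
  have hmemNS : ∀ g : C, (g : G) ∈ N → π g ∈ NS := fun g hg =>
    Subgroup.mem_normalizer_fintype fun q hq => by
      obtain ⟨v, hv, rfl⟩ := hq
      refine ⟨g * v * g⁻¹, ?_, by simp only [map_mul, map_inv]⟩
      show ((g * v * g⁻¹ : C) : G) ∈ D
      exact (Subgroup.mem_normalizer_iff.1 hg _).1 hv
  have hofNS : ∀ g : C, π g ∈ NS → (g : G) ∈ N := fun g hg => by
    refine Subgroup.mem_normalizer_fintype fun v hv => ?_
    refine hconjmem g ⟨v, hDC hv⟩ hv ?_
    rw [map_mul, map_mul, map_inv]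
    exact (Subgroup.mem_normalizer_iff.1 hg _).1 ⟨⟨v, hDC hv⟩, hv, rfl⟩
  have hSNS : S ≤ NS := Subgroup.le_normalizer
  let f : N →* NS := (π.comp (Subgroup.inclusion hNC)).codRestrict NS fun g => hmemNS _ g.2
  let φ : N →* NS ⧸ S.subgroupOf NS := (QuotientGroup.mk' _).comp f
  have hφs : Function.Surjective φ := by
    intro q
    obtain ⟨⟨q', hq'⟩, rfl⟩ := QuotientGroup.mk'_surjective _ q
    obtain ⟨g, rfl⟩ := hπs q'
    exact ⟨⟨g, hofNS g hq'⟩, rfl⟩
  have hker : φ.ker = (Subgroup.centralizer (D : Set G)).subgroupOf N := by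
    ext g
    rw [MonoidHom.mem_ker, Subgroup.mem_subgroupOf]
    show QuotientGroup.mk' _ (f g) = 1 ↔ _
    rw [QuotientGroup.mk'_apply, QuotientGroup.eq_one_iff, Subgroup.mem_subgroupOf]
    constructor
    · rintro ⟨v, hv, hve⟩
      have hve' : π v = π (Subgroup.inclusion hNC g) := hve
      rw [← inv_mul_eq_one, ← map_inv, ← map_mul, hπ1] at hve'
      simp only [Subgroup.coe_mul, Subgroup.coe_inv, inv_mul_eq_iff_eq_mul, mul_one,
        Subgroup.coe_inclusion] at hve'
      obtain ⟨x, hx, hxe⟩ := (hnine _).1 (show (v : G) ∈ D from hv)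
      have hvc : (v : G) ∈ Subgroup.centralizer (D : Set G) :=
        (hCD _).2 ⟨x, List.mem_append_left _ hx, hxe⟩
      rcases hve' with h | h
      · rw [h]; exact hvc
      · rw [h]; exact mul_mem hvc hcc
    · intro hg
      obtain ⟨v, hv, hgv⟩ := hsplit _ hg
      refine ⟨⟨v, hDC hv⟩, hv, ?_⟩
      show π _ = π (Subgroup.inclusion hNC g)
      rw [← inv_mul_eq_one, ← map_inv, ← map_mul, hπ1]
      simp only [Subgroup.coe_mul, Subgroup.coe_inv, inv_mul_eq_iff_eq_mul, mul_one,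
        Subgroup.coe_inclusion]
      exact hgv
  let eN := ((QuotientGroup.quotientKerEquivOfSurjective φ hφs).symm.trans
    (QuotientGroup.quotientMulEquivOfEq hker)).trans eNC
  have hcent : ∀ q ∈ S, q ≠ 1 → Subgroup.centralizer ({q} : Set (C ⧸ Z)) ≤ NS := by
    rintro _ ⟨v, hv, rfl⟩ h1 r hr
    obtain ⟨g, rfl⟩ := hπs r
    have hgv := hconjeq g v hv (Subgroup.mem_centralizer_singleton_iff.1 hr)
    refine hmemNS g ?_
    obtain ⟨x, hx, hxe⟩ := (hnine _).1 (show (v : G) ∈ D from hv)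
    rw [← hxe] at hgv
    have hgc : Commute (g : G) d.c := Subgroup.mem_centralizer_singleton_iff.1 g.2
    have hxne : x ≠ 1 := by
      rintro rfl
      exact h1 ((hπ1 v).2 (Or.inl (by rw [← hxe, map_one])))
    have hzcase : ∀ r : G, Commute r d.c → Commute r d.z → r ∈ N := by
      intro r hrc hrz
      obtain ⟨k, rfl⟩ := d.mem_of_commute hrz
      exact (hin k).2 (cent_c_inNine k (d.commute_iff.1 hrc))
    have hwcase : ∀ r : G, Commute r d.c → Commute r d.w → r ∈ N := by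
      intro r hrc hrw
      have := hzcase _ (d.j_c ▸ d.j_commute hrc) (d.j_w ▸ d.j_commute hrw)
      have h' := N.mul_mem (N.mul_mem hjN this) hjN
      rwa [d.j_cancel] at h'
    by_cases h0 : x ∈ [1, zP, zP * zP, wP, wP * wP]
    · simp only [List.mem_cons, List.not_mem_nil, or_false] at h0
      rcases h0 with rfl | rfl | rfl | rfl | rfl
      · exact absurd rfl hxne
      · exact hzcase _ hgc hgv
      · refine hzcase _ hgc ?_
        have h2 := hgv.mul_right hgv
        rwa [← map_mul, show zP * zP * (zP * zP) = zP by decide +kernel] at h2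
      · exact hwcase _ hgc hgv
      · refine hwcase _ hgc ?_
        have h2 := hgv.mul_right hgv
        rwa [← map_mul, show wP * wP * (wP * wP) = wP by decide +kernel] at h2
    · obtain ⟨k, hk, hkx⟩ := nine_lines x hx h0
      have hkN : d.ψ k ∈ N := (hin k).2 hk
      have hc' : Commute ((d.ψ k)⁻¹ * (g : G) * d.ψ k) (d.ψ (zP * wP)) := by
        have := commute_conj hgv (d.ψ k)⁻¹
        rw [inv_inv] at this
        rwa [show (d.ψ k)⁻¹ * d.ψ x * d.ψ k = d.ψ (zP * wP) by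
          rw [← hkx, ← d.map_conj]; group] at this
      have h' := N.mul_mem (N.mul_mem hkN (hzwN _ hc')) (N.inv_mem hkN)
      rwa [show d.ψ k * ((d.ψ k)⁻¹ * (g : G) * d.ψ k) * (d.ψ k)⁻¹ = (g : G) by group] at h'
  refine ⟨{ d with cent_c := ?_ }, rfl⟩
  rcases Cfsg.Agent.S3333.result (P'.mapSurjective hπs) S hSP hS9 hCS eN hcent with h | h'
  · refine Or.inl fun g hg => ?_
    have hgC : g ∈ C := Subgroup.mem_centralizer_singleton_iff.2 hg.eq
    have hgN : g ∈ N := hofNS ⟨g, hgC⟩ (by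
      rw [hNSdef, Subgroup.normalizer_eq_top_iff.2 h]; exact Subgroup.mem_top _)
    obtain ⟨x, hx, hxe⟩ := (hnine _).1 ((Subgroup.mem_normalizer_iff.1 hgN _).1 hz)
    exact d.near_of_conj hx hxe.symm
  · obtain ⟨e6⟩ := h'
    refine Or.inr ⟨e6.toMonoidHom.comp π, e6.surjective.comp hπs, fun g => ?_⟩
    rw [MonoidHom.comp_apply, MulEquiv.coe_toMonoidHom, MulEquiv.map_eq_one_iff, hπ1]

/-- The configuration. -/
theorem nonempty_cfg (P : Sylow 3 G) (D : Subgroup G) (hDP : D = P) (ψ : PP →* G) (hinj : Function.Injective ψ)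
    (hrange : ∀ g : G, g * ψ zP * g⁻¹ = ψ zP ∨ g * ψ zP * g⁻¹ = (ψ zP)⁻¹ → g ∈ ψ.range)
    (hz : ψ zP ∈ D) (hw : ψ wP ∈ D) (hD : Nat.card D = 9) (hexp : ∀ v ∈ D, v ^ 3 = 1)
    (hN : Nat.card (Subgroup.normalizer (D : Set G)) = 144)
    [hcn : ((Subgroup.centralizer (D : Set G)).subgroupOf (Subgroup.normalizer (D : Set G))).Normal]
    (eNC : Subgroup.normalizer (D : Set G) ⧸ (Subgroup.centralizer (D : Set G)).subgroupOf (Subgroup.normalizer (D : Set G)) ≃* DihedralGroup 4)
    {y : G} (hy : y ∈ D) (hyn : ∀ c, Commute c y → ∀ v ∈ D, c * v * c⁻¹ ∈ D)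
    (hycard : Nat.card (Subgroup.centralizer ({y} : Set G)) = 36)
    (hysq : ∀ c, Commute c y → c ^ 2 ∈ D) (h27 : ¬ 27 ∣ Nat.card G) :
    Nonempty (Cfg G) :=
  let ⟨c, _⟩ := exists_cfg P D hDP ψ hinj hrange hz hw hD hexp hN eNC hy hyn hycard hysq h27
  ⟨c⟩

end Cfsg.Agent.SymEightThree
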