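/-
Subgroups of order prime to three normalized by `⟨z, w⟩` and not containing `(3 4)`.
-/
import Cfsg.Agent.Lib.SymEightThree.CentC
import Cfsg.Agent.Lib.Coprime.Generation

set_option autoImplicit false
set_option maxRecDepth 100000
set_option synthInstance.maxSize 4000
set_option synthInstance.maxHeartbeats 400000
set_option linter.unusedSectionVars false

namespace Cfsg.Agent.SymEightThree

/-- Words in `x` and its conjugates under `wP`. -/
def threeWords (x : PP) : List PP :=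
  let x₁ := wP * x * wP⁻¹
  let x₂ := wP * x₁ * wP⁻¹
  [x, x ^ 2, x ^ 4, x ^ 5, x * x₁, x * x₂, x * x₁ * (x * x₂), x * (x * x₁), x ^ 3 * (wP * x ^ 3 * wP⁻¹)]

theorem three_word : ∀ x : PP, x * zP = zP * x →
    x ∈ fourA ∨ x ∈ fourB ∨ x = cP ∨ ∃ q ∈ threeWords x, q ^ 3 = 1 ∧ q ≠ 1 := by
  decide +kernel

theorem four_orbit : (∀ x ∈ fourA, x ≠ 1 → ∀ y ∈ fourA,
      y = 1 ∨ y = x ∨ y = wP * x * wP⁻¹ ∨ y = wP * (wP * x * wP⁻¹) * wP⁻¹) ∧
    (∀ x ∈ fourB, x ≠ 1 → ∀ y ∈ fourB,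
      y = 1 ∨ y = x ∨ y = wP * x * wP⁻¹ ∨ y = wP * (wP * x * wP⁻¹) * wP⁻¹) ∧
    (∀ x ∈ fourA, ∀ y ∈ fourB, x ≠ 1 → y ≠ 1 → x * y ∉ fourA ∧ x * y ∉ fourB ∧ x * y ≠ cP) ∧
    (∀ x ∈ fourA ++ fourB, x * zP = zP * x ∧ x * x = 1) := by
  decide +kernel

theorem nine_conj : ∀ h : PP, InNine h → ∀ x ∈ nineList, h * x * h⁻¹ ∈ nineList := by
  decide +kernel

theorem nine_swap : ∀ x ∈ nineList, ∃ i < 3, ∃ k < 3, x = zP ^ i * wP ^ k := by decide +kernel

theorem nine_mk : ∀ i < 3, ∀ k < 3, zP ^ i * wP ^ k ∈ nineList := by decide +kernel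

theorem cent_list_sq : ∀ v ∈ centList, v * v ∈ nineList := by decide +kernel

namespace Pre

variable {G : Type*} [Group G] [Finite G] (d : Pre G)

theorem j_nine {x : PP} (hx : x ∈ nineList) : ∃ y ∈ nineList, d.j * d.ψ x * d.j⁻¹ = d.ψ y := by
  obtain ⟨i, hi, k, hk, rfl⟩ := nine_swap x hx
  refine ⟨zP ^ k * wP ^ i, nine_mk k hk i hi, ?_⟩
  rw [d.j_inv, map_mul, map_pow, map_pow, d.j_mul, d.j_conj_pow, d.j_conj_pow, d.j_z, d.j_w,
    ← map_pow, ← map_pow, ← map_mul]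
  exact congrArg d.ψ (by
    have : ∀ i < 3, ∀ k < 3, wP ^ i * zP ^ k = zP ^ k * wP ^ i := by decide +kernel
    exact this i hi k hk)

/-- A subgroup of order prime to three normalized by `⟨z, w⟩`, without `c`. -/
structure Inv (K : Subgroup G) : Prop where
  norm : ∀ x ∈ nineList, ∀ k ∈ K, d.ψ x * k * (d.ψ x)⁻¹ ∈ K
  notc : d.c ∉ K
  three : ¬ 3 ∣ Nat.card K

variable {d} {K : Subgroup G} (hK : d.Inv K)
include hK

theorem Inv.z_mem {k : G} (hk : k ∈ K) : d.z * k * d.z⁻¹ ∈ K := hK.norm zP (by decide +kernel) k hk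

theorem Inv.w_mem {k : G} (hk : k ∈ K) : d.w * k * d.w⁻¹ ∈ K := hK.norm wP (by decide +kernel) k hk

theorem Inv.eq_one {x : PP} (hx : d.ψ x ∈ K) (h3 : x ^ 3 = 1) : x = 1 := by
  by_contra h
  have hor : orderOf (d.ψ x) = 3 := orderOf_eq_prime (by rw [← map_pow, h3, map_one]) (d.map_ne_one h)
  exact hK.three (hor ▸ Subgroup.orderOf_dvd_natCard K hx)

theorem Inv.comap {e : G} (he : ∀ x ∈ nineList, ∃ y ∈ nineList, e * d.ψ x * e⁻¹ = d.ψ y)
    (hec : Commute e d.c) : d.Inv (K.comap (MulAut.conj e).toMonoidHom) := by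
  refine ⟨fun x hx k hk => ?_, fun h => ?_, ?_⟩
  · obtain ⟨y, hy, hxy⟩ := he x hx
    simp only [Subgroup.mem_comap, MulEquiv.coe_toMonoidHom, MulAut.conj_apply] at hk ⊢
    have := hK.norm y hy _ hk
    rw [← hxy] at this
    convert this using 1
    group
  · simp only [Subgroup.mem_comap, MulEquiv.coe_toMonoidHom, MulAut.conj_apply] at h
    rw [hec.eq, mul_inv_cancel_right] at h
    exact hK.notc h
  · rw [show Nat.card (K.comap (MulAut.conj e).toMonoidHom) = Nat.card K from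
      Nat.card_congr ((MulAut.conj e).toEquiv.subtypeEquiv fun _ => Iff.rfl)]
    exact hK.three

theorem Inv.cent_z_mem {x : PP} (hx : d.ψ x ∈ K) (hxz : x * zP = zP * x) : x ∈ fourA ∨ x ∈ fourB := by
  rcases three_word x hxz with h | h | h | ⟨q, hq, hq3, hq1⟩
  · exact Or.inl h
  · exact Or.inr h
  · subst h; exact absurd hx hK.notc
  exfalso
  let L := K.comap d.ψ
  have h1 : ∀ y : PP, y ∈ L → wP * y * wP⁻¹ ∈ L := fun y hy => by
    show d.ψ _ ∈ K
    rw [map_mul, map_mul, map_inv]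
    exact hK.w_mem hy
  have hm : q ∈ L := by
    have a1 := h1 x hx
    have a2 := h1 _ a1
    have a3 := h1 _ (L.pow_mem (n := 3) hx)
    simp only [threeWords, List.mem_cons, List.not_mem_nil, or_false] at hq
    rcases hq with rfl | rfl | rfl | rfl | rfl | rfl | rfl | rfl | rfl
    exacts [hx, L.pow_mem hx _, L.pow_mem hx _, L.pow_mem hx _, L.mul_mem hx a1, L.mul_mem hx a2,
      L.mul_mem (L.mul_mem hx a1) (L.mul_mem hx a2), L.mul_mem hx (L.mul_mem hx a1),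
      L.mul_mem (L.pow_mem hx _) a3]
  exact hq1 (hK.eq_one hm hq3)

/-- The fixed points of `z` on an invariant subgroup. -/
theorem Inv.cent_z : (∀ k ∈ K, Commute k d.z → k = 1) ∨
    ((∀ k ∈ K, Commute k d.z → ∃ v ∈ fourA, k = d.ψ v) ∧ ∀ v ∈ fourA, d.ψ v ∈ K) ∨
    ((∀ k ∈ K, Commute k d.z → ∃ v ∈ fourB, k = d.ψ v) ∧ ∀ v ∈ fourB, d.ψ v ∈ K) := by
  by_cases h : ∀ k ∈ K, Commute k d.z → k = 1
  · exact Or.inl h
  push Not at h
  obtain ⟨k, hk, hkz, hk1⟩ := h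
  obtain ⟨x, rfl⟩ := d.mem_of_commute hkz
  obtain ⟨hoA, hoB, hAB, hsq⟩ := four_orbit
  have hx1 : x ≠ 1 := fun e => hk1 (by rw [e, map_one])
  have hxz := d.commute_iff.1 hkz
  have hall : ∀ k ∈ K, Commute k d.z → ∃ y, (y ∈ fourA ∨ y ∈ fourB) ∧ k = d.ψ y := fun k hk hkz => by
    obtain ⟨y, rfl⟩ := d.mem_of_commute hkz
    exact ⟨y, hK.cent_z_mem hk (d.commute_iff.1 hkz), rfl⟩
  have horb : ∀ v : PP, (v = 1 ∨ v = x ∨ v = wP * x * wP⁻¹ ∨
      v = wP * (wP * x * wP⁻¹) * wP⁻¹) → d.ψ v ∈ K := by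
    rintro v (rfl | rfl | rfl | rfl)
    · rw [map_one]; exact K.one_mem
    · exact hk
    · rw [map_mul, map_mul, map_inv]; exact hK.w_mem hk
    · simp only [map_mul, map_inv]; exact hK.w_mem (hK.w_mem hk)
  have hprod : ∀ a ∈ fourA, ∀ b ∈ fourB, d.ψ a ∈ K → d.ψ b ∈ K → a = 1 ∨ b = 1 := by
    intro a ha b hb haK hbK
    by_contra hne
    push Not at hne
    have hc : a * b * zP = zP * (a * b) :=
      (Commute.mul_left (show Commute a zP from (hsq a (List.mem_append_left _ ha)).1)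
        (show Commute b zP from (hsq b (List.mem_append_right _ hb)).1)).eq
    obtain ⟨n1, n2, -⟩ := hAB a ha b hb hne.1 hne.2
    rcases hK.cent_z_mem (x := a * b) (by rw [map_mul]; exact K.mul_mem haK hbK) hc with h' | h'
    exacts [n1 h', n2 h']
  rcases hK.cent_z_mem hk hxz with hA | hB
  · refine Or.inr (Or.inl ⟨fun k' hk' hk'z => ?_, fun v hv => horb v (hoA x hA hx1 v hv)⟩)
    obtain ⟨y, hy | hy, rfl⟩ := hall k' hk' hk'z
    · exact ⟨y, hy, rfl⟩
    · rcases hprod x hA y hy hk hk' with e | e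
      · exact absurd e hx1
      · exact ⟨1, List.mem_cons_self, by rw [e]⟩
  · refine Or.inr (Or.inr ⟨fun k' hk' hk'z => ?_, fun v hv => horb v (hoB x hB hx1 v hv)⟩)
    obtain ⟨y, hy | hy, rfl⟩ := hall k' hk' hk'z
    · rcases hprod y hy x hB hk' hk with e | e
      · exact ⟨1, List.mem_cons_self, by rw [e]⟩
      · exact absurd e hx1
    · exact ⟨y, hy, rfl⟩

theorem Inv.cent_zw {k : G} (hk : k ∈ K) (hc : Commute k (d.ψ (zP * wP))) : k = 1 := by
  obtain ⟨v, hv, h | h⟩ := d.cent_zw hc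
  · subst h
    have h2 : v * v = 1 := hK.eq_one (by rw [map_mul]; exact K.mul_mem hk hk)
      (nine_cent _ (cent_list_sq v hv)).2.2.2.1
    rcases cent_invol v hv h2 with e | e
    · rw [e, map_one]
    · subst e; exact absurd hk hK.notc
  · exfalso
    have h1 : d.z * k * d.z⁻¹ * k⁻¹ = d.ψ (zP * wP⁻¹) := by
      have hvz : d.ψ v * (d.z)⁻¹ * (d.ψ v)⁻¹ = (d.z)⁻¹ := by
        rw [← map_inv, d.map_conj]
        exact congrArg d.ψ ((by decide +kernel : ∀ v ∈ centList, v * zP⁻¹ * v⁻¹ = zP⁻¹) v hv)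
      calc d.z * k * d.z⁻¹ * k⁻¹ = d.z * (d.j * (d.ψ v * (d.z)⁻¹ * (d.ψ v)⁻¹) * d.j⁻¹) := by
            rw [h]; group
        _ = d.ψ (zP * wP⁻¹) := by rw [hvz, d.j_inv, d.j_conj_inv, d.j_z, map_mul, map_inv]
    have h2 := K.mul_mem (hK.z_mem hk) (K.inv_mem hk)
    rw [h1] at h2
    exact absurd (hK.eq_one h2 (by decide +kernel)) (by decide +kernel)

/-- An invariant subgroup is generated by the fixed points of `z` and `w`. -/
theorem Inv.le {W : Subgroup G} (hWz : ∀ k ∈ K, Commute k d.z → k ∈ W)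
    (hWw : ∀ k ∈ K, Commute k d.w → k ∈ W) : K ≤ W := by
  set A := nineSub.map d.ψ with hA
  have : IsMulCommutative A := ⟨⟨by
    rintro ⟨_, a, ha, rfl⟩ ⟨_, b, hb, rfl⟩
    have key : ∀ x ∈ nineList, ∀ k ∈ nineList, k * x = x * k := by decide +kernel
    refine Subtype.ext ?_
    show d.ψ a * d.ψ b = d.ψ b * d.ψ a
    rw [← map_mul, ← map_mul, key b hb a ha]⟩⟩
  have hA9 : Nat.card A = 9 := by
    rw [hA, Nat.card_congr (Subgroup.equivMapOfInjective _ _ d.inj).toEquiv.symm, card_nineSub]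
  have hnot : ¬ IsCyclic A := by
    intro hcyc
    obtain ⟨g, hg⟩ := hcyc.exists_generator
    have h9 := orderOf_eq_card_of_forall_mem_zpowers hg
    obtain ⟨_, a, ha, rfl⟩ := g
    have h3 : orderOf (⟨d.ψ a, a, ha, rfl⟩ : A) ∣ 3 := orderOf_dvd_of_pow_eq_one (Subtype.ext (by
      show d.ψ a ^ 3 = 1
      rw [← map_pow, (nine_cent a ha).2.2.2.1, map_one]))
    rw [h9, hA9] at h3
    norm_num at h3
  refine Coprime.le_of_noncyclic hnot ?_ ?_ fun a ha ha1 k hk => ?_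
  · rintro _ ⟨x, hx, rfl⟩
    exact Subgroup.mem_normalizer_fintype fun k hk => hK.norm x hx k hk
  · rw [hA9]
    exact (Nat.Coprime.pow_left 2 (Nat.prime_three.coprime_iff_not_dvd.2 hK.three) :
      (3 ^ 2).Coprime _)
  · obtain ⟨x, hx, rfl⟩ := ha
    have hk' : Commute k (d.ψ x) := Subgroup.mem_centralizer_singleton_iff.1 hk.2
    by_cases h0 : x ∈ [1, zP, zP * zP, wP, wP * wP]
    · simp only [List.mem_cons, List.not_mem_nil, or_false] at h0
      have h2 := hk'.mul_right hk'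
      rw [← map_mul] at h2
      rcases h0 with rfl | rfl | rfl | rfl | rfl
      · exact absurd (map_one d.ψ) ha1
      · exact hWz k hk.1 hk'
      · rw [show zP * zP * (zP * zP) = zP by decide +kernel] at h2
        exact hWz k hk.1 h2
      · exact hWw k hk.1 hk'
      · rw [show wP * wP * (wP * wP) = wP by decide +kernel] at h2
        exact hWw k hk.1 h2
    · obtain ⟨h, hh, hhx⟩ := nine_lines x hx h0
      have hinv := hK.comap (e := d.ψ h) (fun v hv => ⟨_, nine_conj h hh v hv, d.map_conj h v⟩)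
        (d.commute_iff.2 (inNine_centList h hh))
      have hc : Commute ((d.ψ h)⁻¹ * k * d.ψ h) (d.ψ (zP * wP)) := by
        have := commute_conj hk' (d.ψ h)⁻¹
        rw [inv_inv] at this
        rwa [show (d.ψ h)⁻¹ * d.ψ x * d.ψ h = d.ψ (zP * wP) by rw [← hhx, ← d.map_conj]; group] at this
      have := hinv.cent_zw (k := (d.ψ h)⁻¹ * k * d.ψ h) (by
        simp only [Subgroup.mem_comap, MulEquiv.coe_toMonoidHom, MulAut.conj_apply]
        rw [show d.ψ h * ((d.ψ h)⁻¹ * k * d.ψ h) * (d.ψ h)⁻¹ = k by group]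
        exact hk.1) hc
      rw [show k = d.ψ h * ((d.ψ h)⁻¹ * k * d.ψ h) * (d.ψ h)⁻¹ by group, this, mul_one, mul_inv_cancel]
      exact W.one_mem

/-- The fixed points of `w` on an invariant subgroup. -/
theorem Inv.cent_w : (∀ k ∈ K, Commute k d.w → k = 1) ∨
    ((∀ k ∈ K, Commute k d.w → ∃ v ∈ fourA, k = d.j * d.ψ v * d.j) ∧ ∀ v ∈ fourA, d.j * d.ψ v * d.j ∈ K) ∨
    ((∀ k ∈ K, Commute k d.w → ∃ v ∈ fourB, k = d.j * d.ψ v * d.j) ∧ ∀ v ∈ fourB, d.j * d.ψ v * d.j ∈ K) := by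
  have hL := hK.comap (e := d.j) (fun x hx => d.j_nine hx) d.commute_j_c
  have hmem : ∀ k, k ∈ K.comap (MulAut.conj d.j).toMonoidHom ↔ d.j * k * d.j ∈ K := fun k => by
    rw [Subgroup.mem_comap, MulEquiv.coe_toMonoidHom, MulAut.conj_apply, d.j_inv]
  have hdown : ∀ k ∈ K, Commute k d.w →
      d.j * k * d.j ∈ K.comap (MulAut.conj d.j).toMonoidHom ∧ Commute (d.j * k * d.j) d.z := fun k hk hkw =>
    ⟨(hmem _).2 (by rw [d.j_cancel]; exact hk), d.j_w ▸ d.j_commute hkw⟩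
  rcases hL.cent_z with h | ⟨h, h'⟩ | ⟨h, h'⟩
  · refine Or.inl fun k hk hkw => ?_
    have h1 := h _ (hdown k hk hkw).1 (hdown k hk hkw).2
    rw [← d.j_cancel k, h1, mul_one, d.j_sq]
  · refine Or.inr (Or.inl ⟨fun k hk hkw => ?_, fun v hv => (hmem _).1 (h' v hv)⟩)
    obtain ⟨v, hv, e⟩ := h _ (hdown k hk hkw).1 (hdown k hk hkw).2
    exact ⟨v, hv, by rw [← e, d.j_cancel]⟩
  · refine Or.inr (Or.inr ⟨fun k hk hkw => ?_, fun v hv => (hmem _).1 (h' v hv)⟩)
    obtain ⟨v, hv, e⟩ := h _ (hdown k hk hkw).1 (hdown k hk hkw).2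
    exact ⟨v, hv, by rw [← e, d.j_cancel]⟩

end Pre

end Cfsg.Agent.SymEightThree
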