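/-
Auxiliary facts on finite groups: fixed Sylow subgroups, isolated involutions, inversion.
-/
import Cfsg.Agent.EqLemmas
import Cfsg.Agent.Lib.ZStar.Apply
import Cfsg.Agent.Lib.ZStar.Unique
import Cfsg.Agent.Lib.Coprime.InvolutionEigen
import Cfsg.Agent.Lib.Involution.Basic

set_option autoImplicit false

namespace Cfsg.Agent.SymEightThree

variable {G : Type*} [Group G] [Finite G]

/-- A group of three-power order fixes a Sylow subgroup if their number is prime to three. -/
theorem exists_fixed_sylow {A M : Subgroup G} {p : ℕ} [Fact p.Prime] (hA : IsPGroup 3 A)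
    (hn : A ≤ Subgroup.normalizer (M : Set G)) (h3 : ¬ 3 ∣ Nat.card (Sylow p M)) :
    ∃ T : Sylow p M, ∀ a ∈ A, ∀ x ∈ (T : Subgroup M).map M.subtype,
      a * x * a⁻¹ ∈ (T : Subgroup M).map M.subtype := by
  have : Fact (Nat.Prime 3) := ⟨Nat.prime_three⟩
  let f : A →* MulAut M := M.normalizerMonoidHom.comp (Subgroup.inclusion hn)
  letI : MulDistribMulAction A M := MulDistribMulAction.compHom M f
  obtain ⟨T, hT⟩ := hA.nonempty_fixed_point_of_prime_not_dvd_card (Sylow p M) h3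
  refine ⟨T, fun a ha x hx => ?_⟩
  obtain ⟨y, hy, rfl⟩ := hx
  have hm : f ⟨a, ha⟩ y ∈ (T : Subgroup M) := by
    have h1 : (⟨a, ha⟩ : A) • y ∈ ((⟨a, ha⟩ : A) • T : Sylow p M) :=
      Subgroup.smul_mem_pointwise_smul y _ _ hy
    rwa [hT ⟨a, ha⟩] at h1
  exact ⟨_, hm, rfl⟩

/-- The largest normal subgroup of odd order. -/
abbrev core (H : Type*) [Group H] [Finite H] : Subgroup H := Cfsg.pPrimeCore 2 H

theorem core_pow_eq_one {H : Type*} [Group H] [Finite H] {m : H} (hm : m ∈ core H) {n : ℕ}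
    (h : m ^ 2 ^ n = 1) : m = 1 := by
  have h1 : orderOf m ∣ Nat.card (core H) := Subgroup.orderOf_dvd_natCard _ hm
  have hc : (Nat.card (core H)).Coprime (2 ^ n) :=
    Nat.Coprime.pow_right n (Cores.coprime_card_pPrimeCore 2)
  exact orderOf_eq_one_iff.1 (Nat.eq_one_of_dvd_coprimes hc h1 (orderOf_dvd_of_pow_eq_one h))

/-- An isolated involution: the centralizer supplements the odd core. -/
theorem exists_factor {H : Type*} [Group H] [Finite H] {u : H} (hu2 : orderOf u = 2)
    (hiso : Cfsg.IsIsolated u) (g : H) : ∃ o ∈ core H, ∃ y, Commute y u ∧ g = o * y := by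
  have huu : u * u = 1 := by rw [← pow_two, ← hu2, pow_orderOf_eq_one]
  have hz := ZStar.zStar_pElement ZStar.uniqueInvolution ⟨1, by rw [hu2, pow_one]⟩ hiso g
  have huinv : u⁻¹ = u := inv_eq_of_mul_eq_one_right huu
  rw [huinv] at hz
  obtain ⟨v, hv⟩ : ∃ v, v = g * u * g⁻¹ := ⟨_, rfl⟩
  rw [← hv] at hz
  have hvv : v * v = 1 := by
    rw [hv, show g * u * g⁻¹ * (g * u * g⁻¹) = g * (u * u) * g⁻¹ by group, huu,
      mul_one, mul_inv_cancel]
  have hvinv : v⁻¹ = v := inv_eq_of_mul_eq_one_right hvv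
  have hodd : Odd (Nat.card (core H)) := Nat.coprime_two_right.1 (Cores.coprime_card_pPrimeCore 2)
  obtain ⟨n, hn⟩ : Odd (orderOf (v * u)) :=
    hodd.of_dvd_nat (Subgroup.orderOf_dvd_natCard _ hz)
  have hinvw : v * (v * u) * v⁻¹ = (v * u)⁻¹ := by
    rw [hvinv, ← mul_assoc, hvv, one_mul]
    refine eq_inv_of_mul_eq_one_left ?_
    calc u * v * (v * u) = u * (v * v) * u := by group
      _ = 1 := by rw [hvv, mul_one, huu]
  have hr : (v * u) ^ n * v * ((v * u) ^ n)⁻¹ = u := by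
    have h1 : v * (v * u) ^ n * v⁻¹ = ((v * u) ^ n)⁻¹ := Involution.inverts_pow hinvw n
    have h2 : v * ((v * u) ^ n)⁻¹ = (v * u) ^ n * v := by
      rw [← h1, hvinv, ← mul_assoc, ← mul_assoc, hvv, one_mul]
    rw [mul_assoc, h2, ← mul_assoc, ← pow_add]
    have h3 : (v * u) ^ (n + n) = (v * u)⁻¹ := by
      refine eq_inv_of_mul_eq_one_left ?_
      rw [← pow_succ, show n + n + 1 = 2 * n + 1 by ring, ← hn, pow_orderOf_eq_one]
    rw [h3, mul_inv_rev, mul_assoc, inv_mul_cancel, mul_one, huinv]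
  refine ⟨((v * u) ^ n)⁻¹, (core H).inv_mem ((core H).pow_mem hz n), (v * u) ^ n * g, ?_, by group⟩
  refine mul_inv_eq_iff_eq_mul.1 ?_
  rw [show (v * u) ^ n * g * u * ((v * u) ^ n * g)⁻¹
    = (v * u) ^ n * (g * u * g⁻¹) * ((v * u) ^ n)⁻¹ by group, ← hv, hr]

/-- An involution without fixed points on the odd core inverts it. -/
theorem core_inverted {H : Type*} [Group H] [Finite H] {u : H} (huu : u * u = 1)
    (hfix : ∀ o ∈ core H, Commute o u → o = 1) {o : H} (ho : o ∈ core H) : u * o * u⁻¹ = o⁻¹ := by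
  haveI : (core H).Normal := Cores.pPrimeCore_normal 2 _
  have := InvolutionEigen.inverts_of_fpf (A := core H) (MulAut.conjNormal u).toMonoidHom
    (fun a => Subtype.ext (by
      simp only [MulEquiv.coe_toMonoidHom, MulAut.conjNormal_apply]
      calc u * (u * (a : H) * u⁻¹) * u⁻¹ = (u * u) * (a : H) * (u * u)⁻¹ := by group
        _ = a := by rw [huu, one_mul, inv_one, mul_one]))
    (fun a ha => by
      refine Subtype.ext (hfix a a.2 ?_)
      have h : u * (a : H) * u⁻¹ = a := congrArg Subtype.val ha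
      exact (mul_inv_eq_iff_eq_mul.1 h).symm) ⟨o, ho⟩
  exact congrArg Subtype.val this

end Cfsg.Agent.SymEightThree
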