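/-
The centralizer of the four-group on `{0, 1, 2, 3}`.
-/
import Cfsg.Agent.Lib.SymEightThree.Invariant
import Cfsg.Agent.Lib.SymEightThree.Util
import Cfsg.Agent.Lib.GLOrder.Basic
import Cfsg.Agent.S3331

set_option autoImplicit false
set_option maxRecDepth 100000
set_option synthInstance.maxSize 4000
set_option synthInstance.maxHeartbeats 400000
set_option linter.unusedSectionVars false

namespace Cfsg.Agent.SymEightThree

open Equiv Equiv.Perm

theorem cent_four : ∀ x : PP, x * tP = tP * x → x * uP = uP * x → x * zP = zP * x →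
    ∃ i < 3, ∃ v ∈ fourA, x = zP ^ i * v := by
  decide +kernel

theorem four_facts : fourA.Nodup ∧
    (∀ v ∈ fourA, v * tP = tP * v ∧ v * uP = uP * v ∧ v * zP = zP * v ∧ v * v = 1) ∧
    (∀ h : PP, InNine h → h * zP = zP * h → h * wP = wP * h → h * cP = cP * h) ∧
    cP * uP ≠ uP * cP ∧ tP ∈ fourA ∧ tP ∉ fourB ∧ tP ≠ 1 ∧ tP * zP = zP * tP ∧
    bP * tP = tP * bP ∧ bP * uP = uP * bP ∧ zP * tP = tP * zP ∧ zP * uP = uP * zP := by
  decide +kernel

theorem nine_norm_four : ∀ x ∈ nineList, x * tP * x⁻¹ ∈ fourA ∧ x * uP * x⁻¹ ∈ fourA := by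
  decide +kernel

theorem three_s3 : ∀ x : Perm (Fin 3), (∀ y : Perm (Fin 3), y * x * y⁻¹ = x) → x = 1 := by
  decide +kernel

theorem five_four : ∀ a b : Perm (Fin 5), sign a = 1 → sign b = 1 → a ≠ 1 → b ≠ 1 → a ≠ b →
    a ^ 4 = 1 → b ^ 4 = 1 → a * b = b * a →
    ∃ r : Perm (Fin 5), sign r = 1 ∧ r ^ 3 = 1 ∧ r ≠ 1 ∧
      r * a * r⁻¹ ∈ [1, a, b, a * b] ∧ r * b * r⁻¹ ∈ [1, a, b, a * b] := by
  decide +kernel

theorem centralizer_zpowers_eq {Q : Type*} [Group Q] {x : Q}
    (h : ∀ q, Commute q x → q ∈ Subgroup.zpowers x) :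
    Subgroup.centralizer (Subgroup.zpowers x : Set Q) = Subgroup.zpowers x := by
  refine le_antisymm (fun q hq => h q (hq x (Subgroup.mem_zpowers x)).symm) ?_
  rintro _ ⟨k, rfl⟩ _ ⟨l, rfl⟩
  exact ((Commute.refl x).zpow_zpow l k).eq

namespace Pre

variable {G : Type*} [Group G] [Finite G] (d : Pre G)

/-- The centralizer of the four-group. -/
abbrev CV : Subgroup G := Subgroup.centralizer ({d.t, d.u} : Set G)

variable {d}

omit [Finite G] in
theorem mem_CV {g : G} : g ∈ d.CV ↔ Commute g d.t ∧ Commute g d.u := by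
  rw [Subgroup.mem_centralizer_iff]
  constructor
  · exact fun h => ⟨(h d.t (by simp)).symm, (h d.u (by simp)).symm⟩
  · rintro ⟨h1, h2⟩ k (rfl | rfl)
    exacts [h1.symm.eq, h2.symm.eq]

omit [Finite G] in
theorem mem_CV' {x : PP} : d.ψ x ∈ d.CV ↔ x * tP = tP * x ∧ x * uP = uP * x := by
  rw [mem_CV, d.commute_iff, d.commute_iff]

omit [Finite G] in
theorem four_le_CV {v : PP} (hv : v ∈ fourA) : d.ψ v ∈ d.CV :=
  mem_CV'.2 ⟨(four_facts.2.1 v hv).1, (four_facts.2.1 v hv).2.1⟩

omit [Finite G] in
theorem four_central {v : PP} (hv : v ∈ fourA) {g : G} (hg : g ∈ d.CV) : Commute g (d.ψ v) := by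
  obtain ⟨h1, h2⟩ := mem_CV.1 hg
  simp only [fourA, List.mem_cons, List.not_mem_nil, or_false] at hv
  rcases hv with rfl | rfl | rfl | rfl
  · rw [map_one]; exact Commute.one_right g
  · exact h1
  · exact h2
  · rw [map_mul]; exact h1.mul_right h2

variable (d)

/-- The four-group as a subgroup of its centralizer. -/
def V4 : Subgroup d.CV where
  carrier := {g | ∃ v ∈ fourA, (g : G) = d.ψ v}
  one_mem' := ⟨1, by decide +kernel, by simp⟩
  mul_mem' := by
    rintro a b ⟨v, hv, ha⟩ ⟨v', hv', hb⟩
    exact ⟨v * v', (by decide +kernel : ∀ v ∈ fourA, ∀ v' ∈ fourA, v * v' ∈ fourA) v hv v' hv',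
      by rw [Subgroup.coe_mul, ha, hb, map_mul]⟩
  inv_mem' := by
    rintro a ⟨v, hv, ha⟩
    exact ⟨v, hv, by
      rw [Subgroup.coe_inv, ha, inv_eq_of_mul_eq_one_right]
      rw [← map_mul, (four_facts.2.1 v hv).2.2.2, map_one]⟩

theorem mem_V4 {g : d.CV} : g ∈ d.V4 ↔ ∃ v ∈ fourA, (g : G) = d.ψ v := Iff.rfl

instance V4_normal : d.V4.Normal := ⟨fun n hn g => by
  obtain ⟨v, hv, h⟩ := hn
  refine ⟨v, hv, ?_⟩
  rw [Subgroup.coe_mul, Subgroup.coe_mul, Subgroup.coe_inv, h, (four_central hv g.2).eq,
    mul_inv_cancel_right]⟩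

theorem card_V4 : Nat.card d.V4 = 4 := by
  let f : Fin fourA.length → d.V4 := fun i =>
    ⟨⟨d.ψ fourA[i], four_le_CV (List.getElem_mem _)⟩, fourA[i], List.getElem_mem _, rfl⟩
  have hf : Function.Bijective f := by
    refine ⟨fun i k h => Fin.ext (four_facts.1.getElem_inj_iff.1
      (d.inj (congrArg (fun g : d.V4 => ((g : d.CV) : G)) h))), ?_⟩
    rintro ⟨⟨g, hg⟩, v, hv, h⟩
    obtain ⟨i, hi, rfl⟩ := List.getElem_of_mem hv
    exact ⟨⟨i, hi⟩, Subtype.ext (Subtype.ext h.symm)⟩
  rw [← Nat.card_eq_of_bijective f hf, Nat.card_fin]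
  rfl

/-- The element `z` in the centralizer of the four-group. -/
def zV : d.CV := ⟨d.z, mem_CV'.2 (by decide +kernel)⟩

theorem zV_cube : d.zV ^ 3 = 1 := Subtype.ext d.z_cube

/-- The quotient by the four-group. -/
abbrev QV : Type _ := d.CV ⧸ d.V4

/-- The projection. -/
abbrev πV : d.CV →* d.QV := QuotientGroup.mk' d.V4

theorem πV_eq_one {g : d.CV} : d.πV g = 1 ↔ ∃ v ∈ fourA, (g : G) = d.ψ v :=
  (QuotientGroup.eq_one_iff g).trans Iff.rfl

theorem cent_mod {g : d.CV} (h : d.πV g * d.πV d.zV = d.πV d.zV * d.πV g) : Commute (g : G) d.z := by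
  have h' : d.πV (g * d.zV * g⁻¹ * d.zV⁻¹) = 1 := by
    simp only [map_mul, map_inv]
    rw [h]; group
  obtain ⟨v, hv, e⟩ := d.πV_eq_one.1 h'
  simp only [Subgroup.coe_mul, Subgroup.coe_inv] at e
  have hvz : Commute (d.ψ v) d.z := d.commute_iff.2 (four_facts.2.1 v hv).2.2.1
  have hv3 : d.ψ v ^ 3 = d.ψ v := by
    rw [pow_succ, pow_two, ← map_mul, (four_facts.2.1 v hv).2.2.2, map_one, one_mul]
  have e' : (g : G) * d.z * (g : G)⁻¹ = d.ψ v * d.z := by
    rw [← e]; simp [zV]
  have := congrArg (· ^ 3) e'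
  simp only [conj_pow, d.z_cube, mul_one, mul_inv_cancel, hvz.mul_pow, hv3] at this
  rw [← this, one_mul, mul_inv_eq_iff_eq_mul] at e'
  exact e'

theorem self_centralizing :
    Subgroup.centralizer (Subgroup.zpowers (d.πV d.zV) : Set d.QV) = Subgroup.zpowers (d.πV d.zV) := by
  refine centralizer_zpowers_eq fun q hq => ?_
  obtain ⟨g, rfl⟩ := QuotientGroup.mk'_surjective _ q
  have hgz := d.cent_mod hq.eq
  obtain ⟨x, hx⟩ := d.mem_of_commute hgz
  rw [← hx] at hgz
  obtain ⟨h1, h2⟩ := mem_CV'.1 (hx ▸ g.2 : d.ψ x ∈ d.CV)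
  obtain ⟨i, -, v, hv, rfl⟩ := cent_four x h1 h2 (d.commute_iff.1 hgz)
  refine ⟨(i : ℤ), ?_⟩
  simp only [zpow_natCast, ← map_pow]
  show d.πV (d.zV ^ i) = d.πV g
  rw [← inv_mul_eq_one, ← map_inv, ← map_mul, d.πV_eq_one]
  refine ⟨v, hv, ?_⟩
  simp only [Subgroup.coe_mul, Subgroup.coe_inv, SubmonoidClass.coe_pow, zV, ← hx, map_mul, map_pow,
    inv_mul_cancel_left]

theorem orderOf_zbar : orderOf (d.πV d.zV) = 3 := by
  refine orderOf_eq_prime (by rw [← map_pow, d.zV_cube, map_one]) fun h => ?_
  obtain ⟨v, hv, e⟩ := d.πV_eq_one.1 h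
  exact (by decide +kernel : zP ∉ fourA) (d.inj (show d.ψ zP = d.ψ v from e) ▸ hv)

theorem nine_le_normalizer : nineSub.map d.ψ ≤ Subgroup.normalizer (d.CV : Set G) := by
  rintro _ ⟨x, hx, rfl⟩
  refine Subgroup.mem_normalizer_fintype fun g hg => ?_
  have key : ∀ y ∈ [tP, uP], Commute (d.ψ x * g * (d.ψ x)⁻¹) (d.ψ y) := by
    intro y hy
    have hy' : x⁻¹ * y * x ∈ fourA := by
      have hinv := nineSub.inv_mem hx
      obtain ⟨h1, h2⟩ := nine_norm_four _ (mem_nineSub.1 hinv)
      rw [inv_inv] at h1 h2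
      simp only [List.mem_cons, List.not_mem_nil, or_false] at hy
      rcases hy with rfl | rfl
      exacts [h1, h2]
    have := commute_conj (four_central hy' hg) (d.ψ x)
    rwa [d.map_conj, show x * (x⁻¹ * y * x) * x⁻¹ = y by group] at this
  exact mem_CV.2 ⟨key tP (by simp), key uP (by simp)⟩

theorem nine_group : IsPGroup 3 (nineSub.map d.ψ) := by
  refine IsPGroup.of_card (n := 2) ?_
  rw [Nat.card_congr (Subgroup.equivMapOfInjective _ _ d.inj).toEquiv.symm, card_nineSub]
  rfl

theorem c_notMem_CV : d.c ∉ d.CV := fun h => four_facts.2.2.2.1 (mem_CV'.1 h).2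

/-- A two- or seven-subgroup of the centralizer of the four-group as an invariant subgroup. -/
theorem exists_inv_sylow {p : ℕ} [Fact p.Prime] (hp3 : p ≠ 3) (h3 : ¬ 3 ∣ Nat.card (Sylow p d.CV)) :
    ∃ T : Sylow p d.CV, d.Inv ((T : Subgroup d.CV).map d.CV.subtype) := by
  obtain ⟨T, hT⟩ := exists_fixed_sylow d.nine_group d.nine_le_normalizer h3
  refine ⟨T, fun x hx k hk => hT _ ⟨x, hx, rfl⟩ k hk,
    fun h => d.c_notMem_CV (Subgroup.map_subtype_le _ h), fun h => ?_⟩
  rw [Nat.card_congr ((T : Subgroup d.CV).equivMapOfInjective _ d.CV.subtype_injective).toEquiv.symm,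
    T.card_eq_multiplicity] at h
  exact hp3 ((Nat.prime_dvd_prime_iff_eq Nat.prime_three (Fact.out : p.Prime)).1
    (Nat.prime_three.dvd_of_dvd_pow h)).symm

variable {d}

/-- An invariant subgroup centralizing the four-group and meeting `C(w)` trivially lies in it. -/
theorem Inv.le_four {K : Subgroup G} (hK : d.Inv K) (hle : K ≤ d.CV)
    (hw : ∀ k ∈ K, Commute k d.w → k = 1) : ∀ k ∈ K, ∃ v ∈ fourA, k = d.ψ v := by
  let W : Subgroup G := d.V4.map d.CV.subtype
  have h : K ≤ W := hK.le (fun k hk hkz => by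
      obtain ⟨x, rfl⟩ := d.mem_of_commute hkz
      obtain ⟨h1, h2⟩ := mem_CV'.1 (hle hk)
      obtain ⟨i, hi, v, hv, rfl⟩ := cent_four x h1 h2 (d.commute_iff.1 hkz)
      obtain ⟨-, hvv, -⟩ := four_facts
      have hvz : zP * v = v * zP := (hvv v hv).2.2.1.symm
      have h2' : (zP ^ i * v) ^ 2 = zP ^ (2 * i) := by
        rw [((show Commute zP v from hvz).pow_left i).mul_pow, ← pow_mul, pow_two v, (hvv v hv).2.2.2,
          mul_one, mul_comm]
      have := hK.eq_one (x := zP ^ (2 * i)) (by rw [← h2', map_pow]; exact K.pow_mem hk 2)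
        (by rw [← pow_mul, mul_comm, pow_mul, show zP ^ 3 = 1 by decide +kernel, one_pow])
      have hi0 : i = 0 := by
        revert this
        have key : ∀ i < 3, zP ^ (2 * i) = 1 → i = 0 := by decide +kernel
        exact key i hi
      subst hi0
      refine ⟨⟨_, hle hk⟩, ⟨v, hv, ?_⟩, rfl⟩
      show d.ψ (zP ^ 0 * v) = d.ψ v
      rw [pow_zero, one_mul])
    (fun k hk hkw => by rw [hw k hk hkw]; exact W.one_mem)
  intro k hk
  obtain ⟨g, ⟨v, hv, e⟩, rfl⟩ := h hk
  exact ⟨v, hv, e⟩

variable (d)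

/-- The linking alternative. -/
def Linked : Prop :=
  (∀ v ∈ fourA, d.j * d.ψ v * d.j ∈ d.CV) ∨ (∀ v ∈ fourB, d.j * d.ψ v * d.j ∈ d.CV)

/-- The centralizer of the four-group is small. -/
def Small : Prop := ∀ g ∈ d.CV, g ∈ d.ψ.range

variable {d}

theorem Inv.linked_or_four {K : Subgroup G} (hK : d.Inv K) (hle : K ≤ d.CV) :
    d.Linked ∨ ∀ k ∈ K, ∃ v ∈ fourA, k = d.ψ v := by
  rcases hK.cent_w with h | ⟨-, h⟩ | ⟨-, h⟩
  · exact Or.inr (hK.le_four hle h)
  · exact Or.inl (Or.inl fun v hv => hle (h v hv))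
  · exact Or.inl (Or.inr fun v hv => hle (h v hv))

theorem linked_or_small : d.Linked ∨ d.Small := by
  classical
  rcases S3331.result (Subgroup.zpowers (d.πV d.zV)) (by rw [Nat.card_zpowers, d.orderOf_zbar])
      d.self_centralizing with
    ⟨N, hN, -, hcop, hq⟩ | ⟨N, hN, -, hsq, ⟨e⟩⟩ | ⟨e⟩
  · -- the nilpotent case
    set K₀ := N.comap d.πV with hK₀
    have hK₀card : Nat.card K₀ = 4 * Nat.card N := by
      have h1 := Subgroup.card_eq_card_quotient_mul_card_subgroup (d.πV.ker.subgroupOf K₀)
      have hle : d.πV.ker ≤ K₀ := MonoidHom.ker_le_comap _ _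
      let f : K₀ →* N := (d.πV.comp K₀.subtype).codRestrict N fun g => g.2
      have hfs : Function.Surjective f := fun n => by
        obtain ⟨g, hg⟩ := QuotientGroup.mk'_surjective _ (n : d.QV)
        exact ⟨⟨g, show d.πV g ∈ N by rw [show d.πV g = _ from hg]; exact n.2⟩, Subtype.ext hg⟩
      have hfk : f.ker = d.πV.ker.subgroupOf K₀ := by
        ext g
        rw [MonoidHom.mem_ker, Subgroup.mem_subgroupOf, MonoidHom.mem_ker]
        exact ⟨fun h => congrArg Subtype.val h, fun h => Subtype.ext h⟩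
      rw [← hfk, Nat.card_congr (QuotientGroup.quotientKerEquivOfSurjective f hfs).toEquiv, hfk,
        Nat.card_congr (Subgroup.subgroupOfEquivOfLe hle).toEquiv, QuotientGroup.ker_mk', d.card_V4,
        mul_comm] at h1
      exact h1
    have hmax : ∀ M : Subgroup d.CV, M.Normal → ¬ 3 ∣ Nat.card M → M ≤ K₀ := by
      intro M hM hM3
      rw [hK₀, ← Subgroup.map_le_iff_le_comap]
      let p := QuotientGroup.mk' N
      haveI : (M.map d.πV).Normal := hM.map _ (QuotientGroup.mk'_surjective _)
      haveI : ((M.map d.πV).map p).Normal := Subgroup.Normal.map inferInstance p (QuotientGroup.mk'_surjective _)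
      have hdvd : Nat.card ((M.map d.πV).map p) ∣ Nat.card M :=
        (Subgroup.card_map_dvd _ _).trans (Subgroup.card_map_dvd _ _)
      have h3' : ¬ 3 ∣ Nat.card ((M.map d.πV).map p) := fun h => hM3 (h.trans hdvd)
      have htriv : (M.map d.πV).map p = ⊥ := by
        have hq' := Subgroup.card_subgroup_dvd_card ((M.map d.πV).map p)
        rw [Subgroup.eq_bot_iff_card]
        rcases hq with h | he
        · rw [h] at hq'
          rcases (Nat.dvd_prime Nat.prime_three).1 hq' with h' | h'
          · exact h'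
          · exact absurd (h' ▸ dvd_rfl) h3'
        · obtain ⟨e⟩ := he
          rw [Nat.card_congr e.toEquiv, Nat.card_perm, Nat.card_fin] at hq'
          have h12 : Nat.card ((M.map d.πV).map p) = 1 ∨ Nat.card ((M.map d.πV).map p) = 2 := by
            have hc : (Nat.card ((M.map d.πV).map p)).Coprime 3 :=
              (Nat.prime_three.coprime_iff_not_dvd.2 h3').symm
            exact (Nat.dvd_prime Nat.prime_two).1 (hc.dvd_of_dvd_mul_right
              (show _ ∣ 2 * 3 from hq'))
          refine h12.resolve_right fun h2 => ?_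
          obtain ⟨x, hx⟩ := exists_prime_orderOf_dvd_card' (G := ((M.map d.πV).map p)) (p := 2)
            (hp := ⟨Nat.prime_two⟩) (by rw [h2])
          have hall : ∀ y : Perm (Fin 3), y * e (x : d.QV ⧸ N) * y⁻¹ = e (x : d.QV ⧸ N) := by
            intro y
            obtain ⟨q, rfl⟩ := e.surjective y
            rw [← map_mul, ← map_inv, ← map_mul]
            refine congrArg e ?_
            have hm : q * (x : d.QV ⧸ N) * q⁻¹ ∈ (M.map d.πV).map p :=
              Subgroup.Normal.conj_mem inferInstance _ x.2 q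
            by_contra hne
            have hne1 : (x : d.QV ⧸ N) ≠ 1 := fun h => by
              rw [show x = 1 from Subtype.ext h, orderOf_one] at hx
              norm_num at hx
            have hne2 : q * (x : d.QV ⧸ N) * q⁻¹ ≠ 1 := fun h => hne1 (conj_eq_one_iff.1 h)
            have := Fintype.ofFinite ((M.map d.πV).map p)
            have hc3 : ({1, x, ⟨_, hm⟩} : Finset ((M.map d.πV).map p)).card ≤
                Fintype.card ((M.map d.πV).map p) := Finset.card_le_univ _
            rw [Finset.card_insert_of_notMem (by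
                simp only [Finset.mem_insert, Finset.mem_singleton, not_or]
                exact ⟨fun h => hne1 (congrArg Subtype.val h).symm, fun h => hne2 (congrArg Subtype.val h).symm⟩),
              Finset.card_insert_of_notMem (by
                simp only [Finset.mem_singleton]
                exact fun h => hne (congrArg Subtype.val h).symm), Finset.card_singleton,
              ← Nat.card_eq_fintype_card, h2] at hc3
            omega
          have h1 := three_s3 _ hall
          rw [MulEquiv.map_eq_one_iff] at h1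
          rw [show x = 1 from Subtype.ext h1, orderOf_one] at hx
          norm_num at hx
      rwa [Subgroup.map_eq_bot_iff, QuotientGroup.ker_mk'] at htriv
    haveI : K₀.Normal := hN.comap _
    have h3K : ¬ 3 ∣ Nat.card K₀ := by
      rw [hK₀card, Nat.prime_three.dvd_mul]
      exact not_or.2 ⟨by norm_num, Nat.prime_three.coprime_iff_not_dvd.1 hcop.symm⟩
    set K := K₀.map d.CV.subtype with hK
    have hinv : d.Inv K := by
      refine ⟨fun x hx k hk => ?_, fun h => d.c_notMem_CV (Subgroup.map_subtype_le _ h), fun h => ?_⟩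
      · obtain ⟨k, hk', rfl⟩ := hk
        let σ : MulAut d.CV := d.CV.normalizerMonoidHom ⟨d.ψ x, d.nine_le_normalizer ⟨x, hx, rfl⟩⟩
        have hle : K₀.map σ.toMonoidHom ≤ K₀ := by
          refine hmax _ ((inferInstance : K₀.Normal).map _ σ.surjective) ?_
          rw [← Nat.card_congr (K₀.equivMapOfInjective σ.toMonoidHom σ.injective).toEquiv]
          exact h3K
        exact ⟨σ k, hle ⟨k, hk', rfl⟩, rfl⟩
      · rw [hK, Subgroup.card_map_of_injective d.CV.subtype_injective] at h
        exact h3K h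
    rcases hinv.linked_or_four (Subgroup.map_subtype_le _) with h | h
    · exact Or.inl h
    refine Or.inr fun g hg => ?_
    -- modulo the four-group the order divides six
    have hNbot : N = ⊥ := by
      rw [eq_bot_iff]
      intro q hq'
      obtain ⟨k, rfl⟩ := QuotientGroup.mk'_surjective _ q
      exact Subgroup.mem_bot.2 (d.πV_eq_one.2 (h _ ⟨k, hq', rfl⟩))
    have h6 : Nat.card d.QV ∣ 6 := by
      have hcN := Subgroup.card_eq_card_quotient_mul_card_subgroup N
      rw [hNbot, Subgroup.card_bot, mul_one] at hcN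
      rcases hq with h | he
      · rw [hNbot] at h; rw [hcN, h]; norm_num
      · obtain ⟨e⟩ := he
        have h' := Nat.card_congr e.toEquiv
        rw [Nat.card_perm, Nat.card_fin] at h'
        subst hNbot
        rw [hcN, h']
        rfl
    haveI : (Subgroup.zpowers (d.πV d.zV)).Normal := by
      have h1 := (Subgroup.zpowers (d.πV d.zV)).card_mul_index
      rw [Nat.card_zpowers, d.orderOf_zbar] at h1
      have h2 : (Subgroup.zpowers (d.πV d.zV)).index ∣ 2 := by
        rw [← h1] at h6
        exact Nat.dvd_of_mul_dvd_mul_left (by norm_num) h6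
      rcases (Nat.dvd_prime Nat.prime_two).1 h2 with h | h
      · rw [Subgroup.index_eq_one] at h
        rw [h]; infer_instance
      · exact Subgroup.normal_of_index_eq_two h
    have hm : d.πV ⟨g, hg⟩ * d.πV d.zV * (d.πV ⟨g, hg⟩)⁻¹ ∈ Subgroup.zpowers (d.πV d.zV) :=
      Subgroup.Normal.conj_mem inferInstance _ (Subgroup.mem_zpowers _) _
    obtain ⟨k, hk⟩ := hm
    refine d.mem_range g ?_
    have h3k : ∀ r : ℕ, (d.πV ⟨g, hg⟩ * d.πV d.zV * (d.πV ⟨g, hg⟩)⁻¹ = d.πV (d.zV ^ r)) →
        g * d.z * g⁻¹ = d.z ^ r := by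
      intro r hr
      rw [← map_inv, ← map_mul, ← map_mul, eq_comm, ← inv_mul_eq_one, ← map_inv, ← map_mul,
        d.πV_eq_one] at hr
      obtain ⟨v, hv, e⟩ := hr
      simp only [Subgroup.coe_mul, Subgroup.coe_inv, SubmonoidClass.coe_pow, zV,
        inv_mul_eq_iff_eq_mul] at e
      have hvz : Commute (d.z ^ r) (d.ψ v) :=
        (d.commute_iff.2 (four_facts.2.1 v hv).2.2.1).symm.pow_left r
      have hv3 : d.ψ v ^ 3 = d.ψ v := by
        rw [pow_succ, pow_two, ← map_mul, (four_facts.2.1 v hv).2.2.2, map_one, one_mul]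
      have := congrArg (· ^ 3) e
      simp only [conj_pow, d.z_cube, mul_one, mul_inv_cancel, hvz.mul_pow, hv3, ← pow_mul] at this
      rw [mul_comm r 3, pow_mul, d.z_cube, one_pow, one_mul] at this
      rw [e, ← this, mul_one]
    have hz3 : (d.πV d.zV) ^ (3 : ℤ) = 1 := by
      rw [show (3 : ℤ) = ((3 : ℕ) : ℤ) from rfl, zpow_natCast, ← map_pow, d.zV_cube, map_one]
    simp only at hk
    rw [← Int.emod_add_mul_ediv k 3, zpow_add, zpow_mul, hz3, one_zpow, mul_one] at hk
    have h0 := Int.emod_nonneg k (show (3 : ℤ) ≠ 0 by norm_num)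
    have h1 := Int.emod_lt_of_pos k (show (0 : ℤ) < 3 by norm_num)
    interval_cases hh : k % 3
    · have := h3k 0 (by rw [← hk, zpow_zero, pow_zero, map_one])
      rw [pow_zero, conj_eq_one_iff] at this
      exact absurd this (d.map_ne_one (by decide +kernel))
    · exact Or.inl (by rw [h3k 1 (by rw [← hk, zpow_one, pow_one]), pow_one])
    · refine Or.inr ?_
      rw [h3k 2 (by rw [← hk, zpow_two, map_pow, pow_two]), eq_inv_iff_mul_eq_one, ← pow_succ, d.z_cube]
  · -- the case of the alternating group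
    left
    have : Fact (Nat.Prime 2) := ⟨Nat.prime_two⟩
    let θ : d.CV →* alternatingGroup (Fin 5) :=
      (e.toMonoidHom.comp (QuotientGroup.mk' N)).comp d.πV
    have hθ : Function.Surjective θ :=
      (e.surjective.comp (QuotientGroup.mk'_surjective N)).comp (QuotientGroup.mk'_surjective _)
    have hker2 : ∀ g ∈ θ.ker, g ^ 4 = 1 := by
      intro g hg
      have hgN : d.πV g ∈ N := by
        rw [MonoidHom.mem_ker] at hg
        exact (QuotientGroup.eq_one_iff _).1 (e.map_eq_one_iff.1 hg)
      obtain ⟨v, hv, ev⟩ := (d.πV_eq_one (g := g ^ 2)).1 (by rw [map_pow]; exact hsq _ hgN)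
      refine Subtype.ext ?_
      rw [show (4 : ℕ) = 2 * 2 from rfl, pow_mul, SubmonoidClass.coe_pow, ev, pow_two, ← map_mul,
        (four_facts.2.1 v hv).2.2.2, map_one]
      rfl
    have hkerP : IsPGroup 2 θ.ker := fun g => ⟨2, Subtype.ext (hker2 g g.2)⟩
    have hcard : Nat.card d.CV = 60 * Nat.card θ.ker := by
      rw [Subgroup.card_eq_card_quotient_mul_card_subgroup θ.ker,
        Nat.card_congr (QuotientGroup.quotientKerEquivOfSurjective θ hθ).toEquiv]
      congr 1
      rw [nat_card_alternatingGroup, Nat.card_fin]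
      rfl
    obtain ⟨n, hn⟩ := IsPGroup.iff_card.1 hkerP
    have h9 : ¬ 3 * 3 ∣ Nat.card d.CV := by
      rw [hcard, hn, show 60 * 2 ^ n = 3 * (20 * 2 ^ n) by ring]
      intro h
      have := Nat.dvd_of_mul_dvd_mul_left (by norm_num) h
      rcases (Nat.prime_three.dvd_mul).1 this with h' | h'
      · norm_num at h'
      · have := Nat.prime_three.dvd_of_dvd_pow h'
        norm_num at this
    obtain ⟨T₀⟩ : Nonempty (Sylow 2 d.CV) := inferInstance
    have hkT : ∀ T : Sylow 2 d.CV, θ.ker ≤ (T : Subgroup d.CV) := fun T => by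
      have hp := T.isPGroup'.to_sup_of_normal_right hkerP
      exact (T.is_maximal' hp le_sup_left) ▸ le_sup_right
    set S := T₀.mapSurjective hθ with hS
    have hS4 : Nat.card S = 4 := by
      rw [S.card_eq_multiplicity, nat_card_alternatingGroup, Nat.card_fin,
        show (Nat.factorial 5) / 2 = 2 ^ 2 * 15 from rfl,
        Nat.factorization_mul (by norm_num) (by norm_num), Nat.Prime.factorization_pow Nat.prime_two,
        Finsupp.add_apply, Finsupp.single_eq_same,
        Nat.factorization_eq_zero_of_not_dvd (show ¬ 2 ∣ 15 by norm_num)]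
      norm_num
    obtain ⟨a, ha⟩ : ∃ a : S, a ≠ 1 := by
      have : Nontrivial S := Finite.one_lt_card_iff_nontrivial.1 (by rw [hS4]; norm_num)
      exact exists_ne 1
    obtain ⟨b, hb1, hba⟩ : ∃ b : S, b ≠ 1 ∧ b ≠ a := by
      by_contra hne
      push Not at hne
      have := Fintype.ofFinite S
      have hle : Fintype.card S ≤ ({1, a} : Finset S).card := by
        refine Finset.card_le_card fun x _ => ?_
        by_cases hx : x = 1
        · simp [hx]
        · simp [hne x hx]
      rw [← Nat.card_eq_fintype_card, hS4] at hle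
      exact absurd (hle.trans (Finset.card_insert_le _ _)) (by simp)
    have hcomm : a * b = b * a :=
      (IsPGroup.isMulCommutative_of_card_eq_prime_sq (p := 2) (G := S) (by rw [hS4]; rfl)).is_comm.comm a b
    have hp4 : ∀ x : S, x ^ 4 = 1 := fun x => by rw [← hS4]; exact pow_card_eq_one'
    obtain ⟨r, hr1, hr3, hrne, hra, hrb⟩ := five_four (a : alternatingGroup (Fin 5)) (b : alternatingGroup (Fin 5))
      (a : alternatingGroup (Fin 5)).2 (b : alternatingGroup (Fin 5)).2
      (fun h => ha (Subtype.ext (Subtype.ext h))) (fun h => hb1 (Subtype.ext (Subtype.ext h)))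
      (fun h => hba (Subtype.ext (Subtype.ext h.symm)))
      (congrArg (fun x : S => ((x : alternatingGroup (Fin 5)) : Perm (Fin 5))) (hp4 a))
      (congrArg (fun x : S => ((x : alternatingGroup (Fin 5)) : Perm (Fin 5))) (hp4 b))
      (congrArg (fun x : S => ((x : alternatingGroup (Fin 5)) : Perm (Fin 5))) hcomm)
    let r' : alternatingGroup (Fin 5) := ⟨r, mem_alternatingGroup.2 hr1⟩
    have hSab : ∀ x : S, x = 1 ∨ x = a ∨ x = b ∨ x = a * b := by
      intro x
      have := Fintype.ofFinite S
      have hu : ({1, a, b, a * b} : Finset S) = Finset.univ := by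
        refine Finset.eq_univ_of_card _ ?_
        rw [← Nat.card_eq_fintype_card, hS4, Finset.card_insert_of_notMem, Finset.card_insert_of_notMem,
          Finset.card_insert_of_notMem, Finset.card_singleton]
        · simp only [Finset.mem_singleton]
          exact fun h => ha (right_eq_mul.1 h)
        · simp only [Finset.mem_insert, Finset.mem_singleton, not_or]
          exact ⟨Ne.symm hba, fun h => hb1 (left_eq_mul.1 h)⟩
        · simp only [Finset.mem_insert, Finset.mem_singleton, not_or]
          refine ⟨ha.symm, hb1.symm, fun h => hba ?_⟩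
          have haa : a * a = 1 := by
            have hs : ∀ x : Perm (Fin 5), sign x = 1 → x ^ 4 = 1 → x * x = 1 := by decide +kernel
            exact Subtype.ext (Subtype.ext (hs _ (a : alternatingGroup (Fin 5)).2
              (congrArg (fun x : S => ((x : alternatingGroup (Fin 5)) : Perm (Fin 5))) (hp4 a))))
          calc b = a * a * b := by rw [haa, one_mul]
            _ = a * (a * b) := mul_assoc _ _ _
            _ = a := by rw [← h, mul_one]
      have hx := Finset.mem_univ x
      rw [← hu] at hx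
      simpa using hx
    have hnorm : ∀ x ∈ (S : Subgroup (alternatingGroup (Fin 5))), r' * x * r'⁻¹ ∈ (S : Subgroup _) := by
      intro x hx
      have hmem : ∀ y : alternatingGroup (Fin 5),
          ((y : Perm (Fin 5)) ∈ [1, ((a : alternatingGroup (Fin 5)) : Perm (Fin 5)),
            ((b : alternatingGroup (Fin 5)) : Perm (Fin 5)),
            ((a : alternatingGroup (Fin 5)) : Perm (Fin 5)) * ((b : alternatingGroup (Fin 5)) : Perm (Fin 5))]) →
          y ∈ (S : Subgroup _) := by
        intro y hy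
        simp only [List.mem_cons, List.not_mem_nil, or_false] at hy
        rcases hy with h | h | h | h
        · rw [show y = 1 from Subtype.ext h]; exact one_mem _
        · rw [show y = a from Subtype.ext h]; exact a.2
        · rw [show y = b from Subtype.ext h]; exact b.2
        · rw [show y = (a : alternatingGroup (Fin 5)) * b from Subtype.ext h]; exact mul_mem a.2 b.2
      have h1 := hmem (r' * a * r'⁻¹) hra
      have h2 := hmem (r' * b * r'⁻¹) hrb
      rcases hSab ⟨x, hx⟩ with h | h | h | h <;> have h' := congrArg Subtype.val h <;>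
        simp only at h' <;> rw [h']
      · simp
      · exact h1
      · exact h2
      · rw [Subgroup.coe_mul, show r' * ((a : alternatingGroup (Fin 5)) * b) * r'⁻¹ =
          (r' * a * r'⁻¹) * (r' * b * r'⁻¹) by group]
        exact mul_mem h1 h2
    obtain ⟨g, hg⟩ := hθ r'
    have hgN : g ∈ Subgroup.normalizer ((T₀ : Subgroup d.CV) : Set d.CV) := by
      refine Subgroup.mem_normalizer_fintype fun x hx => ?_
      have hm : θ (g * x * g⁻¹) ∈ (S : Subgroup _) := by
        rw [map_mul, map_mul, map_inv, hg]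
        exact hnorm _ ⟨x, hx, rfl⟩
      obtain ⟨y, hy, hye⟩ := hm
      have hk : y⁻¹ * (g * x * g⁻¹) ∈ θ.ker := by
        rw [MonoidHom.mem_ker, map_mul, map_inv, hye, inv_mul_cancel]
      have := (T₀ : Subgroup d.CV).mul_mem hy (hkT T₀ hk)
      rwa [mul_inv_cancel_left] at this
    have h3N : 3 ∣ Nat.card (Subgroup.normalizer ((T₀ : Subgroup d.CV) : Set d.CV)) := by
      refine dvd_trans ?_ (Subgroup.orderOf_dvd_natCard _ hgN)
      have : orderOf r' = 3 := orderOf_eq_prime (Subtype.ext hr3) fun h => hrne (congrArg Subtype.val h)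
      rw [← this, ← hg]
      exact orderOf_map_dvd θ g
    have h3 : ¬ 3 ∣ Nat.card (Sylow 2 d.CV) := by
      rw [T₀.card_eq_index_normalizer]
      intro h
      refine h9 ?_
      rw [← (Subgroup.normalizer ((T₀ : Subgroup d.CV) : Set d.CV)).card_mul_index]
      exact Nat.mul_dvd_mul h3N h
    obtain ⟨T, hT⟩ := d.exists_inv_sylow (p := 2) (by norm_num) h3
    refine (hT.linked_or_four (Subgroup.map_subtype_le _)).resolve_right fun h => ?_
    have hTV : (T : Subgroup d.CV) ≤ d.V4 := fun x hx => h _ ⟨x, hx, rfl⟩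
    have hle := Subgroup.card_dvd_of_le hTV
    have h8 : 2 ^ 3 ∣ Nat.card T := by
      refine T.pow_dvd_card_of_pow_dvd_card ?_
      have h4 : 4 ∣ Nat.card θ.ker * 1 := by
        have hV : d.V4 ≤ θ.ker := fun x hx => by
          rw [MonoidHom.mem_ker]
          simp only [θ, MonoidHom.comp_apply]
          rw [show d.πV x = 1 from d.πV_eq_one.2 hx, map_one, map_one]
        rw [mul_one, ← d.card_V4]
        exact Subgroup.card_dvd_of_le hV
      rw [hcard]
      exact dvd_trans (show 2 ^ 3 ∣ 60 * 4 by norm_num) (Nat.mul_dvd_mul (dvd_refl 60) (by rwa [mul_one] at h4))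
    have := h8.trans hle
    rw [d.card_V4] at this
    norm_num at this
  · -- the case of order 168
    exfalso
    have : Fact (Nat.Prime 7) := ⟨by norm_num⟩
    have hcard : Nat.card d.CV = 672 := by
      obtain ⟨e⟩ := e
      rw [Subgroup.card_eq_card_quotient_mul_card_subgroup d.V4, d.card_V4, Nat.card_congr e.toEquiv,
        GLOrder.card_PSL_two, Nat.card_zmod]
      norm_num
    obtain ⟨T₀⟩ : Nonempty (Sylow 7 d.CV) := inferInstance
    have hT7 : ∀ T : Sylow 7 d.CV, Nat.card T = 7 := fun T => by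
      rw [T.card_eq_multiplicity, hcard, show (672 : ℕ) = 7 ^ 1 * 96 from rfl,
        Nat.factorization_mul (by norm_num) (by norm_num), Nat.Prime.factorization_pow (by norm_num),
        Finsupp.add_apply, Finsupp.single_eq_same,
        Nat.factorization_eq_zero_of_not_dvd (show ¬ 7 ∣ 96 by norm_num)]
      norm_num
    have h3 : ¬ 3 ∣ Nat.card (Sylow 7 d.CV) := by
      have hmod : Nat.card (Sylow 7 d.CV) ≡ 1 [MOD 7] := card_sylow_modEq_one 7 d.CV
      have hdvd : Nat.card (Sylow 7 d.CV) ∣ 96 := by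
        have h1 := T₀.card_dvd_index
        have h2 := (T₀ : Subgroup d.CV).card_mul_index
        rw [hT7 T₀, hcard] at h2
        rwa [show (T₀ : Subgroup d.CV).index = 96 by omega] at h1
      intro h
      have hle : Nat.card (Sylow 7 d.CV) < 97 := Nat.lt_succ_of_le (Nat.le_of_dvd (by norm_num) hdvd)
      have key : ∀ n < 97, n ∣ 96 → n % 7 = 1 → n % 3 ≠ 0 := by decide +kernel
      exact key _ hle hdvd hmod (Nat.mod_eq_zero_of_dvd h)
    obtain ⟨T, hT⟩ := d.exists_inv_sylow (p := 7) (by norm_num) h3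
    have h7 : ∀ k ∈ (T : Subgroup d.CV).map d.CV.subtype, k ^ 7 = 1 := by
      rintro _ ⟨x, hx, rfl⟩
      have := pow_card_eq_one' (x := (⟨x, hx⟩ : (T : Subgroup d.CV)))
      rw [hT7] at this
      exact congrArg (fun q : (T : Subgroup d.CV) => ((q : d.CV) : G)) this
    have hpow : ∀ v : PP, v * v = 1 → (d.ψ v) ^ 7 = 1 → v = 1 := fun v hv h => d.inj (by
      rw [map_one, ← h, pow_succ, show (6 : ℕ) = 2 * 3 from rfl, pow_mul, pow_two, ← map_mul, hv, map_one,
        one_pow, one_mul])
    have hone : ∀ k ∈ (T : Subgroup d.CV).map d.CV.subtype, k = 1 := by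
      rcases hT.linked_or_four (Subgroup.map_subtype_le _) with - | h
      · intro k hk
        have hle := hT.le (W := (⊥ : Subgroup G))
          (fun k hk hkz => by
            obtain ⟨x, rfl⟩ := d.mem_of_commute hkz
            rcases hT.cent_z_mem hk (d.commute_iff.1 hkz) with hx | hx
            · rw [hpow x (four_orbit.2.2.2 x (List.mem_append_left _ hx)).2 (h7 _ hk), map_one]
              exact one_mem _
            · rw [hpow x (four_orbit.2.2.2 x (List.mem_append_right _ hx)).2 (h7 _ hk), map_one]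
              exact one_mem _)
          (fun k hk hkw => by
            rcases hT.cent_w with h | ⟨h, -⟩ | ⟨h, -⟩
            · rw [h k hk hkw]; exact one_mem _
            all_goals
              obtain ⟨v, hv, rfl⟩ := h k hk hkw
              have hv2 := (four_orbit.2.2.2 v (by
                first
                | exact List.mem_append_left _ hv
                | exact List.mem_append_right _ hv)).2
              have e7 := h7 _ hk
              rw [← d.j_conj_pow] at e7
              have : d.ψ v ^ 7 = 1 := by rw [← d.j_cancel (d.ψ v ^ 7), e7, mul_one, d.j_sq]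
              rw [hpow v hv2 this, map_one, mul_one, d.j_sq]
              exact one_mem _)
        exact Subgroup.mem_bot.1 (hle hk)
      · intro k hk
        obtain ⟨v, hv, rfl⟩ := h k hk
        rw [hpow v (four_facts.2.1 v hv).2.2.2 (h7 _ hk), map_one]
    have hbot : (T : Subgroup d.CV) = ⊥ := (Subgroup.eq_bot_iff_forall _).2 fun x hx =>
      Subtype.ext (hone _ ⟨x, hx, rfl⟩)
    have := hT7 T
    rw [hbot, Subgroup.card_bot] at this
    norm_num at this

end Pre

end Cfsg.Agent.SymEightThree
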