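/-
The exchange property and the centralizer of `⟨(0 1), (2 3)⟩` in the case with two alternating
groups of degree five.
-/
import Cfsg.Agent.Lib.SymEightThree.Four
import Cfsg.Agent.Lib.SymEightThree.CentA
import Mathlib.GroupTheory.SpecificGroups.Alternating.Simple

set_option autoImplicit false
set_option maxRecDepth 100000
set_option synthInstance.maxSize 4000
set_option synthInstance.maxHeartbeats 400000
set_option linter.unusedSectionVars false

namespace Cfsg.Agent.SymEightThree

open Equiv Equiv.Perm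

/-- The even permutations of the five points. -/
def evenFive : alternatingGroup (Fin 5) →* PP :=
  (MonoidHom.inr (Perm (Fin 3)) (Perm (Fin 5))).comp (alternatingGroup (Fin 5)).subtype

theorem evenFive_apply (x : alternatingGroup (Fin 5)) : evenFive x = (1, (x : Perm (Fin 5))) := rfl

theorem exists_evenFive {x : PP} (h1 : x.1 = 1) (h2 : sign x.2 = 1) : ∃ e, evenFive e = x :=
  ⟨⟨x.2, mem_alternatingGroup.2 h2⟩, Prod.ext h1.symm rfl⟩

/-- The products of four factors alternating between `fourA` and `fourB`. -/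
theorem five_gen : ∀ y : Perm (Fin 5), sign y = 1 →
    ∃ a ∈ fourA, ∃ b ∈ fourB, ∃ a' ∈ fourA, ∃ b' ∈ fourB, y = (a * b * a' * b').2 := by
  decide +kernel

theorem four_fst : ∀ v ∈ fourA ++ fourB, v.1 = 1 ∧ sign v.2 = 1 := by decide +kernel

theorem four_maps :
    (∀ v ∈ fourA, cP * v * cP ∈ fourB) ∧ (∀ v ∈ fourB, cP * v * cP ∈ fourA) ∧
    (∀ v ∈ fourA, aP * cP * v * (aP * cP) ∈ fourB) ∧ (∀ v ∈ fourB, aP * cP * v * (aP * cP) ∈ fourA) ∧
    (∀ v ∈ fourA, bP * v * bP = v) ∧ cP * cP = 1 ∧ bP * bP = 1 ∧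
    (∀ v ∈ fourA, aP * cP * (aP * cP * v * (aP * cP)) * (aP * cP) = v) ∧
    (∀ v ∈ fourB, aP * cP * (aP * cP * v * (aP * cP)) * (aP * cP) = v) ∧
    (∀ v ∈ fourA ++ fourB, cP * (cP * v * cP) * cP = v) := by
  decide +kernel

theorem w_facts : (∀ x : PP, x * zP = zP * x → x * aP = aP * x → x * sP = sP * x → x ^ 3 = 1 →
      x ∈ [1, zP, zP * zP]) ∧
    (∀ x : PP, x * uP = uP * x → x * aP = aP * x → x * tP = tP * x → x ^ 3 = 1 → x ∈ [1, zP, zP * zP]) ∧
    (∀ v ∈ [pP * wP * pP, pP * wP⁻¹ * pP], v * sP ≠ sP * v) ∧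
    uP * aP * uP = sP ∧ uP * sP * uP = aP ∧ uP * uP = 1 ∧ aP * tP = sP ∧ aP * sP = tP ∧
    zP * aP = aP * zP ∧ zP * sP = sP * zP ∧ zP * uP = uP * zP ∧ sP * sP = 1 ∧ sP ≠ aP ∧ sP ≠ 1 ∧
    sP * aP = aP * sP := by
  decide +kernel

theorem injective_of_ne_one {A B : Type*} [Group A] [Group B] (hA : IsSimpleGroup A) (q : A →* B)
    {a : A} (ha : q a ≠ 1) : Function.Injective q := by
  rw [← MonoidHom.ker_eq_bot_iff]
  exact (hA.eq_bot_or_eq_top_of_normal _ inferInstance).resolve_right fun htop =>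
    ha (q.mem_ker.1 (htop ▸ Subgroup.mem_top a))

namespace Cfg

variable {G : Type*} [Group G] [Finite G] (d : Cfg G)

/-- The two alternating groups of degree five commute. -/
def Exch : Prop := ∀ x y : alternatingGroup (Fin 5),
  Commute (d.j * d.ψ (evenFive x) * d.j) (d.ψ (evenFive y))

variable {d} (hb : d.j * d.a * d.j = d.ψ (bP * cP))
include hb

theorem j_bc : d.j * d.ψ (bP * cP) * d.j = d.a := by rw [← hb, d.j_cancel]

theorem jb : d.j * d.b * d.j = d.ψ (aP * cP) := by
  have h := j_bc hb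
  rw [map_mul, d.j_mul, show d.j * d.ψ cP * d.j = d.c from d.j_c] at h
  have hcc : d.c * d.c = 1 := by rw [← map_mul, four_maps.2.2.2.2.2.1, map_one]
  rw [map_mul]
  calc d.j * d.b * d.j = d.j * d.b * d.j * (d.c * d.c) := by rw [hcc, mul_one]
    _ = d.a * d.c := by rw [← mul_assoc, h]

theorem jac : d.j * d.ψ (aP * cP) * d.j = d.b := by rw [← jb hb, d.j_cancel]

theorem exch_of_linked (h : d.Linked) : d.Exch := by
  obtain ⟨cA, cB, mA, mB, bA, c2, b2, mmA, mmB, ccAB⟩ := four_maps
  let P : List PP → List PP → Prop := fun L M =>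
    ∀ x ∈ L, ∀ y ∈ M, Commute (d.j * d.ψ x * d.j) (d.ψ y)
  have hcinv : d.c⁻¹ = d.c := inv_eq_of_mul_eq_one_right (by rw [← map_mul, c2, map_one])
  have hbinv : d.b⁻¹ = d.b := inv_eq_of_mul_eq_one_right (by rw [← map_mul, b2, map_one])
  have hC : ∀ x y : PP, Commute (d.j * d.ψ x * d.j) (d.ψ y) →
      Commute (d.j * d.ψ (cP * x * cP) * d.j) (d.ψ (cP * y * cP)) := by
    intro x y hxy
    have h' := commute_conj hxy d.c
    rw [hcinv] at h'
    rw [map_mul, map_mul, map_mul, map_mul, d.j_mul, d.j_mul, show d.j * d.ψ cP * d.j = d.c from d.j_c]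
    exact h'
  have hB : ∀ x y : PP, Commute (d.j * d.ψ x * d.j) (d.ψ y) →
      Commute (d.j * d.ψ (aP * cP * x * (aP * cP)) * d.j) (d.ψ (bP * y * bP)) := by
    intro x y hxy
    have h' := commute_conj hxy d.b
    rw [hbinv] at h'
    rw [map_mul, map_mul (f := d.ψ) (aP * cP) x, map_mul d.ψ (bP * y) bP, map_mul d.ψ bP y,
      d.j_mul, d.j_mul, jac hb]
    exact h'
  have hbase : P fourA fourA ∨ P fourB fourA := by
    have hall : ∀ L : List PP, (∀ v ∈ L, d.j * d.ψ v * d.j ∈ d.CV) → P L fourA := fun L hL x hx y hy =>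
      Pre.four_central hy (hL x hx)
    exact h.imp (hall _) (hall _)
  have hAA : P fourA fourA ∧ P fourB fourA := by
    rcases hbase with h' | h'
    · refine ⟨h', fun x hx y hy => ?_⟩
      have := hB _ _ (h' _ (mB x hx) y hy)
      rwa [mmB x hx, bA y hy] at this
    · refine ⟨fun x hx y hy => ?_, h'⟩
      have := hB _ _ (h' _ (mA x hx) y hy)
      rwa [mmA x hx, bA y hy] at this
  have hall : P (fourA ++ fourB) (fourA ++ fourB) := by
    intro x hx y hy
    have hy0 := hy
    rcases List.mem_append.1 hy with hy | hy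
    · rcases List.mem_append.1 hx with hx | hx
      exacts [hAA.1 x hx y hy, hAA.2 x hx y hy]
    · have e : Commute (d.j * d.ψ (cP * x * cP) * d.j) (d.ψ (cP * y * cP)) := by
        rcases List.mem_append.1 hx with hx | hx
        exacts [hAA.2 _ (cA x hx) _ (cB y hy), hAA.1 _ (cB x hx) _ (cB y hy)]
      have := hC _ _ e
      rwa [ccAB x hx, ccAB y hy0] at this
  have hexp : ∀ e : alternatingGroup (Fin 5), ∃ a ∈ fourA ++ fourB, ∃ b ∈ fourA ++ fourB,
      ∃ a' ∈ fourA ++ fourB, ∃ b' ∈ fourA ++ fourB, evenFive e = a * b * a' * b' := by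
    intro e
    obtain ⟨a, ha, b, hb', a', ha', b', hb'', he⟩ := five_gen e (mem_alternatingGroup.1 e.2)
    have m1 := List.mem_append_left fourB ha
    have m2 := List.mem_append_right fourA hb'
    have m3 := List.mem_append_left fourB ha'
    have m4 := List.mem_append_right fourA hb''
    refine ⟨a, m1, b, m2, a', m3, b', m4, Prod.ext ?_ he⟩
    simp [evenFive_apply, (four_fst a m1).1, (four_fst b m2).1, (four_fst a' m3).1, (four_fst b' m4).1]
  intro x y
  obtain ⟨a, ha, b, hb', a', ha', b', hb'', ex⟩ := hexp x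
  obtain ⟨c₁, hc₁, c₂, hc₂, c₃, hc₃, c₄, hc₄, ey⟩ := hexp y
  have one : ∀ v ∈ fourA ++ fourB, Commute (d.j * d.ψ v * d.j) (d.ψ (evenFive y)) := fun v hv => by
    rw [ey, map_mul, map_mul, map_mul]
    exact (((hall v hv _ hc₁).mul_right (hall v hv _ hc₂)).mul_right (hall v hv _ hc₃)).mul_right
      (hall v hv _ hc₄)
  rw [ex, map_mul, map_mul, map_mul, d.j_mul, d.j_mul, d.j_mul]
  exact (((one a ha).mul_left (one b hb')).mul_left (one a' ha')).mul_left (one b' hb'')

/-- With commuting alternating groups the centralizer of the four-group splits. -/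
theorem cv_split (h : d.Exch) : ∀ g ∈ d.CV, ∃ v ∈ fourA, ∃ x : alternatingGroup (Fin 5),
    g = d.ψ v * (d.j * d.ψ (evenFive x) * d.j) := by
  classical
  have hfour : ∀ v ∈ fourA, ∃ e, evenFive e = v := fun v hv =>
    exists_evenFive (four_fst v (List.mem_append_left _ hv)).1 (four_fst v (List.mem_append_left _ hv)).2
  let f : alternatingGroup (Fin 5) →* d.CV :=
    { toFun := fun x => ⟨d.j * d.ψ (evenFive x) * d.j, Pre.mem_CV.2 ⟨by
        obtain ⟨e, he⟩ := hfour tP (by decide +kernel)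
        rw [show d.t = d.ψ (evenFive e) by rw [he]]
        exact h x e, by
        obtain ⟨e, he⟩ := hfour uP (by decide +kernel)
        rw [show d.u = d.ψ (evenFive e) by rw [he]]
        exact h x e⟩⟩
      map_one' := Subtype.ext (by simp [d.j_sq])
      map_mul' := fun x y => Subtype.ext (by simp [map_mul, ← d.j_mul]) }
  have hsimple : IsSimpleGroup (alternatingGroup (Fin 5)) := alternatingGroup.isSimpleGroup (by simp)
  let w5 : alternatingGroup (Fin 5) := ⟨wP.2, mem_alternatingGroup.2 (by decide +kernel)⟩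
  have hw5 : f w5 = d.zV := Subtype.ext (by
    show d.j * d.ψ (evenFive w5) * d.j = d.z
    rw [show evenFive w5 = wP from Prod.ext (by decide +kernel) rfl]
    exact d.j_w)
  let g₀ : alternatingGroup (Fin 5) →* d.QV := d.πV.comp f
  have h60 : Nat.card (alternatingGroup (Fin 5)) = 60 := by
    rw [nat_card_alternatingGroup, Nat.card_fin]; rfl
  have hz3 := d.orderOf_zbar
  rcases S3331.result (Subgroup.zpowers (d.πV d.zV)) (by rw [Nat.card_zpowers, hz3])
      d.self_centralizing with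
    ⟨N, hN, -, hcop, hq⟩ | ⟨N, hN, -, hsq, ⟨e⟩⟩ | he
  · exfalso
    have hzN : QuotientGroup.mk' N (d.πV d.zV) ≠ 1 := fun hz => by
      have := Subgroup.orderOf_dvd_natCard N ((QuotientGroup.eq_one_iff _).1 hz)
      rw [hz3] at this
      exact Nat.prime_three.coprime_iff_not_dvd.1 hcop.symm this
    have hle := Nat.card_le_card_of_injective _ (injective_of_ne_one hsimple
      ((QuotientGroup.mk' N).comp g₀) (a := w5) (by
        rw [MonoidHom.comp_apply, MonoidHom.comp_apply, hw5]; exact hzN))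
    rw [h60] at hle
    rcases hq with h' | h'
    · omega
    · obtain ⟨e⟩ := h'
      rw [Nat.card_congr e.toEquiv, Nat.card_perm, Nat.card_fin] at hle
      exact absurd hle (by decide)
  · let θ : d.CV →* alternatingGroup (Fin 5) :=
      (e.toMonoidHom.comp (QuotientGroup.mk' N)).comp d.πV
    have hθ0 : θ d.zV ≠ 1 := fun hz => by
      have := e.map_eq_one_iff.1 hz
      have h2 := hsq _ ((QuotientGroup.eq_one_iff _).1 this)
      have := orderOf_dvd_of_pow_eq_one h2
      rw [hz3] at this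
      norm_num at this
    have hbij : Function.Bijective (θ.comp f) := by
      have hi : Function.Injective (θ.comp f) := injective_of_ne_one hsimple _ (a := w5) (by
        rw [MonoidHom.comp_apply, hw5]; exact hθ0)
      exact hi.bijective_of_nat_card_le le_rfl
    have hdecomp : ∀ g : d.CV, ∃ x, θ ((f x)⁻¹ * g) = 1 := fun g => by
      obtain ⟨x, hx⟩ := hbij.2 (θ g)
      exact ⟨x, by rw [map_mul, map_inv, ← hx]; exact inv_mul_cancel _⟩
    have hker4 : ∀ g ∈ θ.ker, g ^ 4 = 1 := by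
      intro g hg
      have hgN : d.πV g ∈ N := by
        rw [MonoidHom.mem_ker] at hg
        exact (QuotientGroup.eq_one_iff _).1 (e.map_eq_one_iff.1 hg)
      obtain ⟨v, hv, ev⟩ := (d.πV_eq_one (g := g ^ 2)).1 (by rw [map_pow]; exact hsq _ hgN)
      refine Subtype.ext ?_
      rw [show (4 : ℕ) = 2 * 2 from rfl, pow_mul, SubmonoidClass.coe_pow, ev, pow_two, ← map_mul,
        (four_facts.2.1 v hv).2.2.2, map_one]
      rfl
    set K := θ.ker.map d.CV.subtype with hK
    have hinv : d.Inv K := by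
      refine ⟨fun x hx k hk => ?_, fun h => d.c_notMem_CV (Subgroup.map_subtype_le _ h), fun h3 => ?_⟩
      · obtain ⟨k, hk', rfl⟩ := hk
        obtain ⟨i, -, l, -, rfl⟩ := nine_swap x hx
        let σ : MulAut d.CV := d.CV.normalizerMonoidHom ⟨d.ψ (zP ^ i * wP ^ l), d.nine_le_normalizer ⟨_, hx, rfl⟩⟩
        have hwfix : ∀ y : alternatingGroup (Fin 5), Commute (d.ψ (wP ^ l)) ((f y : d.CV) : G) := fun y => by
          have hc : Commute d.z (d.ψ (evenFive y)) := d.commute_iff.2 (by
            rw [evenFive_apply]; exact Prod.ext (by simp [zP]) (by simp [zP]))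
          have := d.j_commute hc
          rw [show d.j * d.ψ zP * d.j = d.w from d.j_z] at this
          rw [map_pow]
          exact this.pow_left l
        have hσ : ∀ y, σ (f y) = d.zV ^ i * f y * (d.zV ^ i)⁻¹ := fun y => Subtype.ext (by
          show d.ψ (zP ^ i * wP ^ l) * ((f y : d.CV) : G) * (d.ψ (zP ^ i * wP ^ l))⁻¹ = _
          rw [map_mul, Subgroup.coe_mul, Subgroup.coe_mul, Subgroup.coe_inv, SubmonoidClass.coe_pow,
            map_pow d.ψ zP i]
          have := (hwfix y).eq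
          calc d.ψ zP ^ i * d.ψ (wP ^ l) * ((f y : d.CV) : G) * (d.ψ zP ^ i * d.ψ (wP ^ l))⁻¹
              = d.ψ zP ^ i * (d.ψ (wP ^ l) * ((f y : d.CV) : G) * (d.ψ (wP ^ l))⁻¹) * (d.ψ zP ^ i)⁻¹ := by group
            _ = _ := by rw [(hwfix y).eq, mul_inv_cancel_right]; rfl)
        refine ⟨σ k, ?_, rfl⟩
        -- the image of the kernel is normal of two-power exponent
        obtain ⟨y, hy⟩ := hbij.2 (θ (σ k))
        rw [SetLike.mem_coe, MonoidHom.mem_ker, ← hy]
        have hy4 : y ^ 4 = 1 := hbij.1 (by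
          rw [map_pow, map_one, hy, ← map_pow, ← map_pow, hker4 k hk', map_one, map_one])
        let τ : alternatingGroup (Fin 5) →* alternatingGroup (Fin 5) :=
          (θ.comp σ.toMonoidHom).comp f
        have hτ : ∀ q, τ q = θ (d.zV ^ i) * (θ.comp f) q * (θ (d.zV ^ i))⁻¹ := fun q => by
          show θ (σ (f q)) = _
          rw [hσ, map_mul, map_mul, map_inv]; rfl
        have hnorm : ∀ q : alternatingGroup (Fin 5), ∃ k' ∈ θ.ker, θ (σ k') = q * θ (σ k) * q⁻¹ := by
          intro q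
          obtain ⟨q', hq'⟩ := hbij.2 ((θ (d.zV ^ i))⁻¹ * q * θ (d.zV ^ i))
          refine ⟨f q' * k * (f q')⁻¹, θ.normal_ker.conj_mem _ hk' _, ?_⟩
          rw [map_mul, map_mul, map_inv, map_mul, map_mul, map_inv, show θ (σ (f q')) = τ q' from rfl,
            hτ, hq']
          group
        let N' : Subgroup (alternatingGroup (Fin 5)) := (θ.ker.map σ.toMonoidHom).map θ
        have hN' : N'.Normal := ⟨by
          rintro _ ⟨_, ⟨k₁, hk₁, rfl⟩, rfl⟩ q
          obtain ⟨q', hq'⟩ := hbij.2 ((θ (d.zV ^ i))⁻¹ * q * θ (d.zV ^ i))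
          refine ⟨σ (f q' * k₁ * (f q')⁻¹), ⟨_, θ.normal_ker.conj_mem _ hk₁ _, rfl⟩, ?_⟩
          show θ (σ (f q' * k₁ * (f q')⁻¹)) = q * θ (σ k₁) * q⁻¹
          rw [map_mul, map_mul, map_inv, map_mul, map_mul, map_inv, show θ (σ (f q')) = τ q' from rfl,
            hτ, hq']
          group⟩
        rcases hsimple.eq_bot_or_eq_top_of_normal N' hN' with h' | h'
        · have : θ (σ k) ∈ N' := ⟨σ k, ⟨k, hk', rfl⟩, rfl⟩
          rw [h', Subgroup.mem_bot] at this
          rw [hy]; exact this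
        · exfalso
          obtain ⟨_, ⟨k₁, hk₁, rfl⟩, hk₂⟩ : w5 ∈ N' := h' ▸ Subgroup.mem_top _
          have : w5 ^ 4 = 1 := by
            rw [← hk₂, ← map_pow]
            show θ ((σ k₁) ^ 4) = 1
            rw [← map_pow, hker4 k₁ hk₁, map_one, map_one]
          exact absurd (congrArg Subtype.val this) (by decide +kernel)
      · obtain ⟨x, hx⟩ := exists_prime_orderOf_dvd_card' (G := K) 3 (hp := ⟨Nat.prime_three⟩) h3
        obtain ⟨k, hk, hkx⟩ := x.2
        have : orderOf x ∣ 4 := orderOf_dvd_of_pow_eq_one (Subtype.ext (by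
          rw [SubmonoidClass.coe_pow, ← hkx, ← map_pow, hker4 k hk, map_one]; rfl))
        rw [hx] at this
        norm_num at this
    have hone : ∀ k ∈ K, Commute k d.w → k = 1 := by
      intro k hk hkw
      have hin : ∀ v : PP, v ∈ fourA ++ fourB → k = d.j * d.ψ v * d.j → k = 1 := by
        intro v hv e'
        obtain ⟨q, hq⟩ := exists_evenFive (four_fst v hv).1 (four_fst v hv).2
        obtain ⟨k', hk', rfl⟩ := hk
        have : k' = f q := Subtype.ext (by
          show (k' : G) = d.j * d.ψ (evenFive q) * d.j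
          rw [hq]; exact e')
        have h1 : q = 1 := hbij.1 (by
          rw [map_one]
          show θ (f q) = 1
          rw [← this]; exact hk')
        rw [this, h1, map_one, map_one]
      rcases hinv.cent_w with h' | ⟨h', -⟩ | ⟨h', -⟩
      · exact h' k hk hkw
      · obtain ⟨v, hv, e'⟩ := h' k hk hkw
        exact hin v (List.mem_append_left _ hv) e'
      · obtain ⟨v, hv, e'⟩ := h' k hk hkw
        exact hin v (List.mem_append_right _ hv) e'
    have hfour' := hinv.le_four (Subgroup.map_subtype_le _) hone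
    intro g hg
    obtain ⟨x, hx⟩ := hdecomp ⟨g, hg⟩
    obtain ⟨v, hv, ev⟩ := hfour' _ ⟨(f x)⁻¹ * ⟨g, hg⟩, hx, rfl⟩
    refine ⟨v, hv, x, ?_⟩
    have e2 : g = (f x : G) * d.ψ v := by
      rw [← ev]; simp
    rw [e2, (Pre.four_central hv (f x).2).eq]
    rfl
  · exfalso
    obtain ⟨e⟩ := he
    have hle := Nat.card_congr (MonoidHom.ofInjective (injective_of_ne_one hsimple g₀ (a := w5) (by
      rw [MonoidHom.comp_apply, hw5]
      intro h'
      rw [h', orderOf_one] at hz3; norm_num at hz3))).toEquiv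
    have hdvd := Subgroup.card_subgroup_dvd_card g₀.range
    rw [← hle, h60, Nat.card_congr e.toEquiv] at hdvd
    have : Fact (Nat.Prime 7) := ⟨by norm_num⟩
    rw [GLOrder.card_PSL_two, Nat.card_zmod] at hdvd
    norm_num at hdvd

/-- The elements of order three centralizing the four-group and `(0 1)`. -/
theorem three_of_exch (h : d.Exch) {k : G} (ha : Commute k d.a) (hk : k ∈ d.CV) (h3 : k ^ 3 = 1) :
    k ∈ d.ψ.range := by
  obtain ⟨v, hv, x, rfl⟩ := cv_split hb h k hk
  set e1 := d.j * d.ψ (evenFive x) * d.j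
  have hve : Commute (d.ψ v) e1 := by
    obtain ⟨q, hq⟩ := exists_evenFive (four_fst v (List.mem_append_left _ hv)).1
      (four_fst v (List.mem_append_left _ hv)).2
    exact hq ▸ (h x q).symm
  have hv3 : d.ψ v ^ 3 = d.ψ v := by
    rw [pow_succ, pow_two, ← map_mul, (four_facts.2.1 v hv).2.2.2, map_one, one_mul]
  have he3 : e1 ^ 3 = d.j * d.ψ (evenFive (x ^ 3)) * d.j := by
    rw [map_pow, map_pow, d.j_conj_pow]
  rw [hve.mul_pow, hv3, he3] at h3
  have hv1 : v = 1 := by
    have hc : Commute (d.ψ v) (d.ψ v) := Commute.refl _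
    have hcen : ∀ q : alternatingGroup (Fin 5), Commute (d.ψ v) (d.ψ (evenFive q)) := fun q => by
      have e : d.ψ v = (d.j * d.ψ (evenFive (x ^ 3)) * d.j)⁻¹ := eq_inv_of_mul_eq_one_left h3
      rw [e]
      exact (h (x ^ 3) q).inv_left
    have key : ∀ v ∈ fourA, (∀ q : Perm (Fin 5), sign q = 1 → v * (1, q) = ((1, q) : PP) * v) → v = 1 := by
      decide +kernel
    refine key v hv fun q hq => ?_
    exact d.commute_iff.1 (hcen ⟨q, mem_alternatingGroup.2 hq⟩)
  subst hv1
  rw [map_one, one_mul] at h3 ha ⊢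
  have hx3 : evenFive (x ^ 3) = 1 := d.inj (by
    rw [map_one, ← d.j_cancel (d.ψ (evenFive (x ^ 3))), h3, mul_one, d.j_sq])
  have hxc : Commute (d.ψ (evenFive x)) (d.ψ (bP * cP)) := by
    have := d.j_commute ha
    rwa [d.j_cancel, hb] at this
  have key : ∀ y : Perm (Fin 5), sign y = 1 → y ^ 3 = 1 →
      ((1, y) : PP) * (bP * cP) = bP * cP * (1, y) → ((1, y) : PP) ∈ [1, wP, wP * wP] := by
    decide +kernel
  have := key x (mem_alternatingGroup.1 x.2) (congrArg Prod.snd hx3) (d.commute_iff.1 hxc)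
  simp only [List.mem_cons, List.not_mem_nil, or_false] at this
  have e1eq : e1 = d.j * d.ψ ((1, (x : Perm (Fin 5))) : PP) * d.j := rfl
  rcases this with e | e | e <;> rw [e1eq, e]
  · exact ⟨1, by rw [map_one, mul_one, d.j_sq]⟩
  · exact ⟨zP, d.j_w.symm⟩
  · exact ⟨zP * zP, by rw [map_mul, map_mul, d.j_mul, d.j_w]⟩

set_option maxHeartbeats 1000000 in
/-- The alternative `S₆` is excluded. -/
theorem cent_a_near (hsmall : d.Exch ∨ d.Small) :
    ∀ g : G, Commute g d.a → d.Near (d.ψ pP * g * d.ψ pP) := by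
  refine d.cent_a.resolve_right ?_
  rintro ⟨π, hπ, hker⟩
  obtain ⟨wz, wt, -, uau, usu, uu, hat, has, za, zs, zu, ss, sa, s1, sac⟩ := w_facts
  let C := Subgroup.centralizer ({d.a} : Set G)
  have haC : ∀ {g : G}, g ∈ C ↔ Commute g d.a := Subgroup.mem_centralizer_singleton_iff
  have haa : d.a * d.a = 1 := by rw [← map_mul, show aP * aP = 1 by decide +kernel, map_one]
  let Z : C := ⟨d.z, haC.2 (d.commute_iff.2 za)⟩
  let S : C := ⟨d.ψ sP, haC.2 (d.commute_iff.2 sac)⟩
  have lift_eq : ∀ x y : C, (x : G) ^ 3 = 1 → (y : G) ^ 3 = 1 → π x = π y → (y : G) = x := by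
    intro x y hx hy h
    rcases π_eq hker h with e | e
    · exact e
    exfalso
    rw [e, (haC.1 x.2).mul_pow, hx, one_mul, pow_succ, pow_two, haa, one_mul] at hy
    exact d.map_ne_one (by decide +kernel : aP ≠ 1) hy
  have liftR : ∀ r : Perm (Fin 6), r ^ 3 = 1 → ∃ x : C, π x = r ∧ (x : G) ^ 3 = 1 := by
    intro r hr
    obtain ⟨x, rfl⟩ := hπ r
    refine ⟨x ^ 4, by rw [map_pow, pow_succ, hr, one_mul], ?_⟩
    rw [← map_pow] at hr
    rcases (hker _).1 hr with e | e <;> rw [SubmonoidClass.coe_pow] at e ⊢ <;>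
      rw [← pow_mul, mul_comm, pow_mul, e]
    · rw [one_pow]
    · rw [show (4 : ℕ) = 2 * 2 from rfl, pow_mul, pow_two d.a, haa, one_pow]
  have commS : ∀ x : C, (x : G) ^ 3 = 1 → Commute (π x) (π S) → Commute (x : G) (d.ψ sP) := by
    intro x hx h
    have e : π (S * x * S) = π x := by
      rw [map_mul, map_mul, ← h.eq, mul_assoc, ← map_mul, show S * S = 1 from Subtype.ext (by
        show d.ψ sP * d.ψ sP = 1
        rw [← map_mul, ss, map_one]), map_one, mul_one]
    have hs : (d.ψ sP) * d.ψ sP = 1 := by rw [← map_mul, ss, map_one]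
    have hsinv : (d.ψ sP)⁻¹ = d.ψ sP := inv_eq_of_mul_eq_one_right hs
    have := lift_eq x (S * x * S) hx (by
      show (d.ψ sP * (x : G) * d.ψ sP) ^ 3 = 1
      nth_rewrite 2 [← hsinv]
      rw [conj_pow, hx, mul_one, mul_inv_cancel]) e.symm
    have this : d.ψ sP * (x : G) * d.ψ sP = x := this
    show _ * _ = _ * _
    calc (x : G) * d.ψ sP = d.ψ sP * (x : G) * d.ψ sP * d.ψ sP := by rw [this]
      _ = d.ψ sP * (x : G) := by rw [mul_assoc, hs, mul_one]
  have notz : ∀ x : C, (x : G) ^ 3 = 1 → π x ≠ 1 → π x ≠ π Z → π x ≠ π Z * π Z →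
      Commute (x : G) (d.ψ sP) → ¬ Commute (x : G) d.z := by
    intro x hx h1 h2 h3 hs hz
    obtain ⟨q, hq⟩ := d.mem_of_commute hz
    rw [← hq] at hs hz hx
    have hqa : Commute (d.ψ q) d.a := hq ▸ haC.1 x.2
    have hm := wz q (d.commute_iff.1 hz) (d.commute_iff.1 hqa) (d.commute_iff.1 hs)
      (d.inj (by rw [map_pow, hx, map_one]))
    simp only [List.mem_cons, List.not_mem_nil, or_false] at hm
    rcases hm with rfl | rfl | rfl
    · exact h1 (by rw [show x = 1 from Subtype.ext (by rw [← hq, map_one]; rfl), map_one])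
    · exact h2 (congrArg π (Subtype.ext hq.symm))
    · exact h3 (by rw [← map_mul]; exact congrArg π (Subtype.ext (by rw [← hq, map_mul]; rfl)))
  have huu : d.u * d.u = 1 := by rw [← map_mul, uu, map_one]
  have huinv : d.u⁻¹ = d.u := inv_eq_of_mul_eq_one_right huu
  let θ : G →* G := (MulAut.conj d.u).toMonoidHom
  have hθ : ∀ g, θ g = d.u * g * d.u := fun g => by
    show MulAut.conj d.u g = _; rw [MulAut.conj_apply, huinv]
  have hθθ : ∀ g, θ (θ g) = g := fun g => by
    rw [hθ, hθ]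
    calc _ = (d.u * d.u) * g * (d.u * d.u) := by group
      _ = g := by rw [huu, one_mul, mul_one]
  have hθz : θ d.z = d.z := by
    rw [hθ, ← map_mul, ← map_mul, ← zu, mul_assoc, uu, mul_one]
  have hθa : θ d.a = d.ψ sP := by rw [hθ, ← map_mul, ← map_mul, uau]
  have hθs : θ (d.ψ sP) = d.a := by rw [hθ, ← map_mul, ← map_mul, usu]
  obtain ⟨⟨r₀, hr₀, hr₀1, hr₀s, hr₀z, hr₀z', hzr₀⟩, htrans⟩ := Six.three (e := π S) (z := π Z)
    ⟨by rw [← map_mul, ← map_one π]; exact congrArg π (Subtype.ext (by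
        show d.ψ sP * d.ψ sP = 1; rw [← map_mul, ss, map_one])),
      π_ne_one hker (d.map_ne_one s1) fun e => sa (d.inj e)⟩
    ⟨by rw [← map_pow, ← map_one π]; exact congrArg π (Subtype.ext d.z_cube),
      π_ne_one hker (d.map_ne_one (by decide +kernel))
        fun e => absurd (d.inj e) (by decide +kernel : zP ≠ aP)⟩
    (Commute.map (show Commute Z S from Subtype.ext (d.commute_iff.2 zs).eq) π)
  -- `u` fixes or inverts every such element
  have hfix : ∀ x : C, (x : G) ^ 3 = 1 → π x ≠ 1 → π x ≠ π Z → π x ≠ π Z * π Z →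
      Commute (x : G) (d.ψ sP) → θ x = x ∨ θ x = (x : G)⁻¹ := by
    intro x hx h1 h2 h3 hs
    have hya : Commute (θ x) d.a := by have := hs.map θ; rwa [hθs] at this
    have hys : Commute (θ x) (d.ψ sP) := by have := (haC.1 x.2).map θ; rwa [hθa] at this
    let y : C := ⟨θ x, haC.2 hya⟩
    have hy3 : (y : G) ^ 3 = 1 := by show θ x ^ 3 = 1; rw [← map_pow, hx, map_one]
    have hyS : Commute (π y) (π S) := Commute.map (show Commute y S from Subtype.ext hys.eq) π
    have hxS : Commute (π x) (π S) := Commute.map (show Commute x S from Subtype.ext hs.eq) π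
    have hne : ∀ m : C, (m : G) ^ 3 = 1 → θ m = m → π y = π m → π x = π m := by
      intro m hm hfix he
      have e := lift_eq m y hm hy3 he.symm
      have e : θ x = m := e
      exact congrArg π (Subtype.ext (by rw [← hθθ x, e, hfix]))
    have hpy : π x ^ 3 = 1 ∧ π y ^ 3 = 1 := by
      constructor <;> rw [← map_pow, ← map_one π] <;> exact congrArg π (Subtype.ext ‹_›)
    obtain ⟨i, hi, hcase⟩ := htrans (π x) (π y) hpy.1 h1 hxS h2 h3 hpy.2
      (fun e => h1 ((hne 1 (one_pow 3) (map_one θ) (e.trans (map_one π).symm)).trans (map_one π))) hyS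
      (fun e => h2 (hne Z d.z_cube hθz e))
      (fun e => h3 ((hne (Z * Z) (by
        show (d.z * d.z) ^ 3 = 1
        rw [(Commute.refl d.z).mul_pow, d.z_cube, mul_one]) (by
        show θ (d.z * d.z) = d.z * d.z
        rw [map_mul, hθz]) (e.trans (map_mul π Z Z).symm)).trans (map_mul π Z Z)))
    have hcube : ∀ (g : G) (m : C), (m : G) ^ 3 = 1 → ((Z ^ i * m * (Z ^ i)⁻¹ : C) : G) ^ 3 = 1 := by
      intro g m hm
      simp only [Subgroup.coe_mul, Subgroup.coe_inv]
      rw [conj_pow, hm, mul_one, mul_inv_cancel]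
    have main : ∀ m : C, ((m : G) = x ∨ (m : G) = (x : G)⁻¹) → π y * π Z ^ i = π Z ^ i * π m →
        θ x = x ∨ θ x = (x : G)⁻¹ := by
      intro m hm he
      have hm3 : (m : G) ^ 3 = 1 := by
        rcases hm with e | e <;> rw [e]
        exacts [hx, by rw [inv_pow, hx, inv_one]]
      have he' : π y = π (Z ^ i * m * (Z ^ i)⁻¹) := by
        rw [map_mul, map_mul, map_inv, map_pow, ← he, mul_inv_cancel_right]
      have e := lift_eq _ y (hcube 1 m hm3) hy3 he'.symm
      simp only [Subgroup.coe_mul, Subgroup.coe_inv, SubmonoidClass.coe_pow] at e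
      have e : θ x = d.z ^ i * (m : G) * (d.z ^ i)⁻¹ := e
      have hi0 : i = 0 := by
        by_contra hne0
        have h2i : Commute (d.z ^ (i + i)) (x : G) := by
          have h' := hθθ (x : G)
          rw [e, map_mul, map_mul, map_inv, map_pow, hθz] at h'
          have hm' : θ m = d.z ^ i * (x : G) * (d.z ^ i)⁻¹ := by
            rcases hm with e' | e'
            · rw [e', e, e']
            · rw [e', map_inv, e, e']; group
          rw [hm'] at h'
          show _ * _ = _ * _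
          calc d.z ^ (i + i) * (x : G)
              = d.z ^ i * (d.z ^ i * (x : G) * (d.z ^ i)⁻¹) * (d.z ^ i)⁻¹ * d.z ^ (i + i) := by
                rw [pow_add]; group
            _ = (x : G) * d.z ^ (i + i) := by rw [h']
        refine notz x hx h1 h2 h3 hs ?_
        have hpow : d.z ^ ((i + i) * (i + i)) = d.z := by
          rw [← Nat.mod_add_div ((i + i) * (i + i)) 3, pow_add, pow_mul, d.z_cube, one_pow, mul_one,
            show (i + i) * (i + i) % 3 = 1 by interval_cases i <;> simp_all, pow_one]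
        have := (h2i.pow_left (i + i)).symm
        rwa [← pow_mul, hpow] at this
      rw [hi0, pow_zero, one_mul, inv_one, mul_one] at e
      rw [e]
      exact hm
    rcases hcase with hc | hc
    · exact main x (Or.inl rfl) hc
    · exact main x⁻¹ (Or.inr rfl) (by rw [hc, map_inv])
  have found : ∀ x : C, (x : G) ^ 3 = 1 → π x ≠ 1 → π x ≠ π Z → π x ≠ π Z * π Z →
      Commute (x : G) (d.ψ sP) → θ x = x → False := by
    intro x hx h1 h2 h3 hs he
    have hxu : Commute (x : G) d.u := by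
      show _ * _ = _ * _
      calc (x : G) * d.u = θ x * d.u := by rw [he]
        _ = d.u * (x : G) * (d.u * d.u) := by rw [hθ]; group
        _ = d.u * (x : G) := by rw [huu, mul_one]
    have hxt : Commute (x : G) d.t := by
      rw [show d.t = d.a * d.ψ sP by rw [← map_mul, has]]
      exact (haC.1 x.2).mul_right hs
    have hxCV : (x : G) ∈ d.CV := Pre.mem_CV.2 ⟨hxt, hxu⟩
    obtain ⟨q, hq⟩ : (x : G) ∈ d.ψ.range := by
      rcases hsmall with h | h
      · exact three_of_exch hb h (haC.1 x.2) hxCV hx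
      · exact h _ hxCV
    rw [← hq] at hx hxu hxt
    have hqa : Commute (d.ψ q) d.a := hq ▸ haC.1 x.2
    have hm := wt q (d.commute_iff.1 hxu) (d.commute_iff.1 hqa) (d.commute_iff.1 hxt)
      (d.inj (by rw [map_pow, hx, map_one]))
    refine notz x (by rw [← hq, hx]) h1 h2 h3 hs ?_
    rw [← hq]
    refine d.commute_iff.2 ?_
    simp only [List.mem_cons, List.not_mem_nil, or_false] at hm
    rcases hm with rfl | rfl | rfl <;> decide +kernel
  obtain ⟨x, hxr, hx3⟩ := liftR r₀ hr₀
  subst hxr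
  have hxs := commS x hx3 hr₀s
  rcases hfix x hx3 hr₀1 hr₀z hr₀z' hxs with he | he
  · exact found x hx3 hr₀1 hr₀z hr₀z' hxs he
  obtain ⟨m, hm, hm3⟩ := liftR (π Z * π x) hzr₀
  have hm1 : π m ≠ 1 := fun e => by
    rw [hm, mul_eq_one_iff_eq_inv'] at e
    refine hr₀z' (e.trans ?_)
    rw [eq_comm, eq_inv_iff_mul_eq_one, ← pow_two, ← pow_succ, ← map_pow, ← map_one π]
    exact congrArg π (Subtype.ext d.z_cube)
  have hm2 : π m ≠ π Z := fun e => hr₀1 (by rw [hm, mul_eq_left] at e; exact e)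
  have hm2' : π m ≠ π Z * π Z := fun e => hr₀z (by rw [hm, mul_left_cancel_iff] at e; exact e)
  have hms := commS m hm3 (by
    rw [hm]; exact (Commute.map (show Commute Z S from Subtype.ext (d.commute_iff.2 zs).eq) π).mul_left hr₀s)
  rcases hfix m hm3 hm1 hm2 hm2' hms with he' | he'
  · exact found m hm3 hm1 hm2 hm2' hms he'
  -- both inverted
  have hdiff : (m : G) = d.z * (x : G) ∨ (m : G) = d.z * (x : G) * d.a := by
    have e : π (Z * x) = π m := by rw [map_mul, hm]
    exact π_eq hker e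
  have hinv3 : (x : G) * d.z * (x : G)⁻¹ = d.z⁻¹ := by
    have hxs' : Commute (x : G) (d.ψ sP) := hxs
    have hxa : Commute (x : G) d.a := haC.1 x.2
    have hza : Commute d.z d.a := d.commute_iff.2 za
    have hzs : Commute d.z (d.ψ sP) := d.commute_iff.2 zs
    have hsaC : Commute (d.ψ sP) d.a := d.commute_iff.2 sac
    have hcube : ((x : G) * d.z * (x : G)⁻¹) ^ 3 = 1 := by rw [conj_pow, d.z_cube, mul_one, mul_inv_cancel]
    rcases hdiff with e | e <;> rw [e] at he'
    · rw [map_mul, hθz, he, mul_inv_rev] at he'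
      calc (x : G) * d.z * (x : G)⁻¹ = (x : G) * (d.z * (x : G)⁻¹) := by group
        _ = (x : G) * ((x : G)⁻¹ * d.z⁻¹) := by rw [he']
        _ = d.z⁻¹ := by group
    · rw [map_mul, map_mul, hθz, he, hθa] at he'
      have hainv : d.a⁻¹ = d.a := inv_eq_of_mul_eq_one_right haa
      have hss : d.ψ sP * d.ψ sP = 1 := by rw [← map_mul, ss, map_one]
      have e1 : (x : G) * d.z * (x : G)⁻¹ = d.z⁻¹ * (d.a * d.ψ sP) := by
        have h' : d.z * (x : G)⁻¹ * d.ψ sP = d.a * ((x : G)⁻¹ * d.z⁻¹) := by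
          rw [he', mul_inv_rev, mul_inv_rev, hainv]
        calc (x : G) * d.z * (x : G)⁻¹ = (x : G) * (d.z * (x : G)⁻¹ * d.ψ sP) * (d.ψ sP)⁻¹ := by group
          _ = (x : G) * (d.a * ((x : G)⁻¹ * d.z⁻¹)) * (d.ψ sP)⁻¹ := by rw [h']
          _ = d.a * d.z⁻¹ * d.ψ sP := by
              rw [← mul_assoc (x : G), hxa.eq, inv_eq_of_mul_eq_one_right hss]; group
          _ = d.z⁻¹ * (d.a * d.ψ sP) := by rw [← hza.inv_left.eq, mul_assoc]
      have hc : Commute d.z⁻¹ (d.a * d.ψ sP) := (hza.mul_right hzs).inv_left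
      have hw : d.a * d.ψ sP = d.t := by rw [← map_mul, has]
      rw [e1, hc.mul_pow, inv_pow, d.z_cube, inv_one, one_mul, hw] at hcube
      rw [e1, hw]
      have ht : d.t = 1 := by
        have ht2 : d.t * d.t = 1 := by rw [← map_mul, show tP * tP = 1 by decide +kernel, map_one]
        rw [← hcube, pow_succ, pow_two, ht2, one_mul]
      rw [ht, mul_one]
  have h1 : (x : G) ^ 2 * d.z * ((x : G) ^ 2)⁻¹ = d.z := by
    calc _ = (x : G) * ((x : G) * d.z * (x : G)⁻¹) * (x : G)⁻¹ := by rw [pow_two]; group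
      _ = (x : G) * d.z⁻¹ * (x : G)⁻¹ := by rw [hinv3]
      _ = ((x : G) * d.z * (x : G)⁻¹)⁻¹ := by group
      _ = d.z := by rw [hinv3, inv_inv]
  have hx2 : (x : G) ^ 2 = (x : G)⁻¹ := eq_inv_of_mul_eq_one_left (by rw [← pow_succ, hx3])
  rw [hx2, inv_inv] at h1
  have h2 : (x : G) * d.z * (x : G)⁻¹ = d.z := by
    calc (x : G) * d.z * (x : G)⁻¹ = (x : G) * ((x : G)⁻¹ * d.z * (x : G)) * (x : G)⁻¹ := by rw [h1]
      _ = d.z := by group
  rw [hinv3] at h2
  have := orderOf_dvd_of_pow_eq_one (show d.z ^ 2 = 1 by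
    rw [pow_two]; nth_rewrite 1 [← h2]; rw [inv_mul_cancel])
  rw [d.orderOf_z] at this
  norm_num at this

/-- The centralizer of `⟨(0 1), (2 3)⟩`. -/
theorem cent_W (hsmall : d.Exch ∨ d.Small) {g : G} (ha : Commute g d.a) (hs : Commute g (d.ψ sP)) :
    g ∈ d.ψ.range := by
  obtain ⟨-, h2, h3⟩ := d.p_conj
  obtain ⟨-, -, hnc, -, -, -, -, -, -, zs, -⟩ := w_facts
  set p := d.ψ pP with hp
  have hpinv : p⁻¹ = p := inv_eq_of_mul_eq_one_right h3
  have hpz : p * d.z * p = d.z := by
    rw [hp, ← map_mul, ← map_mul]; exact congrArg d.ψ (by decide +kernel)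
  rcases cent_a_near hb hsmall g ha with ⟨x, hx⟩ | ⟨x, hx⟩
  · exact ⟨pP * x * pP, by
      rw [map_mul, map_mul, hx, ← hp]
      calc p * (p * g * p) * p = (p * p) * g * (p * p) := by group
        _ = g := by rw [h3, one_mul, mul_one]⟩
  · exfalso
    have e : g * d.z * g⁻¹ = p * (d.j * d.ψ (x * zP * x⁻¹) * d.j) * p := by
      have hg : g = p * d.j * d.ψ x * p := by
        rw [hx, ← hp]
        calc g = (p * p) * g * (p * p) := by rw [h3, one_mul, mul_one]
          _ = p * (d.j * d.j) * (p * g * p) * p := by rw [d.j_sq]; group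
          _ = _ := by group
      rw [hg, ← d.map_conj]
      simp only [mul_inv_rev, d.j_inv, hpinv]
      calc p * d.j * d.ψ x * p * d.z * (p * ((d.ψ x)⁻¹ * (d.j * p)))
          = p * (d.j * (d.ψ x * (p * d.z * p) * (d.ψ x)⁻¹) * d.j) * p := by group
        _ = _ := by rw [hpz]
    have hc : Commute (g * d.z * g⁻¹) (d.ψ sP) :=
      (hs.mul_left (d.commute_iff.2 zs)).mul_left hs.inv_left
    rw [e, hp] at hc
    rcases conj_zP x with e' | e' <;> rw [e'] at hc
    · rw [show d.j * d.ψ zP * d.j = d.w from d.j_z, ← map_mul, ← map_mul] at hc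
      exact hnc _ (by simp) (d.commute_iff.1 hc)
    · rw [map_inv, d.j_conj_inv, show d.j * d.ψ zP * d.j = d.w from d.j_z, ← map_inv, ← map_mul,
        ← map_mul] at hc
      exact hnc _ (by simp) (d.commute_iff.1 hc)

end Cfg

end Cfsg.Agent.SymEightThree
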