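/-
The centralizer of the four-group is not small: the two alternating groups commute.
-/
import Cfsg.Agent.Lib.SymEightThree.Exchange

set_option autoImplicit false
set_option maxRecDepth 100000
set_option synthInstance.maxSize 4000
set_option synthInstance.maxHeartbeats 400000
set_option linter.unusedSectionVars false

namespace Cfsg.Agent.SymEightThree

open Equiv Equiv.Perm

theorem hard_facts :
    gP * (aP * cP) * gP⁻¹ = tP ∧ gP * bP * gP⁻¹ = bP ∧ gP * wP * gP⁻¹ * 1 = gP * wP * gP⁻¹ ∧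
    gP * zP * gP⁻¹ = zP ∧ gP * (bP * cP) * gP⁻¹ = bP * sP ∧ gP * cP * gP⁻¹ = sP ∧
    pP * bP = bP * pP ∧ pP * (aP * cP) = aP * cP * pP ∧ pP * aP * pP = cP ∧ pP * pP = 1 ∧
    aP = sP * tP ∧ bP * sP * tP = bP * aP ∧ uP * bP = bP * uP ∧ uP * tP = tP * uP ∧
    sP = aP * tP ∧ tP * tP = 1 ∧ tP * aP = aP * tP ∧ uP * aP * uP = sP ∧
    zP * (uP * aP) = uP * aP * zP ∧ bP * (uP * aP) = uP * aP * bP ∧ (uP * aP) ^ 4 = 1 ∧
    uP * aP * tP = (uP * aP)⁻¹ ∧ uP * aP * (uP * aP) = tP ∧ (wP * pP) ^ 5 = 1 ∧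
    tP = pP * wP * (aP * cP) * pP ∧ uP = pP * wP * wP * pP * wP * pP ∧ tP ≠ 1 ∧ bP * bP = 1 := by
  decide +kernel

theorem lift_u : ∀ q : PP, q * bP = bP * q → q * tP = tP * q → q * aP * q = sP → q * q = 1 →
    q ∈ [uP, uP * tP, bP * uP, bP * uP * tP] := by
  decide +kernel

theorem no_swap : ∀ k : PP, k * aP * k⁻¹ ≠ bP * aP := by decide +kernel

theorem four_element : ∀ q : PP, q * wP = wP * q → q * tP = tP * q → q * uP = uP * q → q ^ 4 = 1 →
    q * q = 1 := by
  decide +kernel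

namespace Cfg

variable {G : Type*} [Group G] [Finite G] {d : Cfg G} (hb : d.j * d.a * d.j = d.ψ (bP * cP))
include hb

set_option maxHeartbeats 1000000 in
theorem exch : d.Exch := by
  rcases d.linked_or_small with h | hsm
  · exact exch_of_linked hb h
  exfalso
  obtain ⟨gac, gb, -, gz, gbc, gc, pb, pac, pap, pp, ast, bst, ub, ut, sat, tt, ta, uau, zf, bf, f4,
    finv, fsq, wp5, tw, uw, t1, bb⟩ := hard_facts
  set g := d.ψ gP * d.j with hg
  let Ad : G →* G := (MulAut.conj g).toMonoidHom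
  have hAd : ∀ y : PP, Ad (d.ψ y) = d.ψ gP * (d.j * d.ψ y * d.j) * (d.ψ gP)⁻¹ := fun y => by
    show MulAut.conj g (d.ψ y) = _
    rw [MulAut.conj_apply, hg, mul_inv_rev, d.j_inv]; group
  have Ab : Ad d.b = d.t := by rw [hAd, jb hb, d.map_conj, gac]
  have Aac : Ad (d.ψ (aP * cP)) = d.b := by rw [hAd, jac hb, d.map_conj, gb]
  have Aw : Ad d.w = d.z := by rw [hAd, d.j_w, d.map_conj, gz]
  have Aa : Ad d.a = d.ψ (bP * sP) := by rw [hAd, hb, d.map_conj, gbc]
  have Ac : Ad d.c = d.ψ sP := by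
    rw [hAd, show d.j * d.ψ cP * d.j = d.c from d.j_c, d.map_conj, gc]
  set x := Ad (d.ψ pP) with hx
  have hxx : x * x = 1 := by rw [hx, ← map_mul, ← map_mul, pp, map_one, map_one]
  have hxinv : x⁻¹ = x := inv_eq_of_mul_eq_one_right hxx
  have hxt : Commute x d.t := by rw [← Ab]; exact (d.commute_iff.2 pb).map Ad
  have hxb : Commute x d.b := by rw [← Aac]; exact (d.commute_iff.2 pac).map Ad
  have hcancel : ∀ y : G, x * (x * y * x) * x = y := fun y => by
    calc _ = (x * x) * y * (x * x) := by group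
      _ = y := by rw [hxx, one_mul, mul_one]
  have hbs : x * d.ψ (bP * sP) * x = d.ψ sP := by
    rw [← Aa, ← Ac, hx, ← map_mul, ← map_mul]
    exact congrArg Ad (by rw [← map_mul, ← map_mul, pap])
  have hs : x * d.ψ sP * x = d.ψ (bP * sP) := by rw [← hbs, hcancel]
  have hmul : ∀ y y' : G, x * (y * y') * x = (x * y * x) * (x * y' * x) := fun y y' => by
    calc x * (y * y') * x = x * y * 1 * y' * x := by group
      _ = _ := by rw [← hxx]; group
  have hfix : ∀ y : G, Commute x y → x * y * x = y := fun y h => by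
    rw [h.eq, mul_assoc, hxx, mul_one]
  have hxa : x * d.a * x = d.b * d.a := by
    rw [show d.a = d.ψ sP * d.t by rw [← map_mul, ← ast], hmul, hs, hfix _ hxt,
      ← map_mul, ← map_mul, ← map_mul, ← ast, bst]
  have hCW : ∀ k : G, Commute k d.a → Commute k d.t → k ∈ d.ψ.range := fun k h1 h2 =>
    cent_W hb (Or.inr hsm) h1 (by rw [sat, map_mul]; exact h1.mul_right h2)
  have hCA : ∀ k : G, Commute k d.t → k * d.a * k⁻¹ = d.ψ sP → k ∈ d.ψ.range := by
    intro k hkt hk
    have hu : Commute (d.u * k) d.a := by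
      show _ * _ = _ * _
      rw [← mul_inv_eq_iff_eq_mul]
      calc d.u * k * d.a * (d.u * k)⁻¹ = d.u * (k * d.a * k⁻¹) * d.u⁻¹ := by group
        _ = d.a := by
          rw [hk, d.map_conj]
          exact congrArg d.ψ (by decide +kernel)
    obtain ⟨q, hq⟩ := hCW _ hu ((d.commute_iff.2 ut).mul_left hkt)
    exact ⟨uP⁻¹ * q, by rw [map_mul, map_inv, hq, inv_mul_cancel_left]⟩
  set u' := x * d.u * x with hu'
  have huu : d.u * d.u = 1 := by rw [← map_mul, show uP * uP = 1 by decide +kernel, map_one]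
  have hu'2 : u' * u' = 1 := by rw [hu', ← hmul, huu, mul_one, hxx]
  have hu't : Commute u' d.t := by
    rw [hu']; exact (hxt.mul_left (d.commute_iff.2 ut)).mul_left hxt
  have hu'b : Commute u' d.b := by
    rw [hu']; exact (hxb.mul_left (d.commute_iff.2 ub)).mul_left hxb
  have hu'a : u' * d.a * u'⁻¹ = d.ψ sP := by
    rw [inv_eq_of_mul_eq_one_right hu'2]
    have hba : d.b * d.a = x * d.a * x := hxa.symm
    have h1 : u' * (d.b * d.a) * u' = d.b * d.ψ sP := by
      rw [hba, hu', ← hmul, ← hmul, ← map_mul, ← map_mul, uau, hs, map_mul]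
    have hbb : d.b * d.b = 1 := by rw [← map_mul, bb, map_one]
    calc u' * d.a * u' = d.b * d.b * (u' * d.a * u') := by rw [hbb, one_mul]
      _ = d.b * (d.b * u' * d.a * u') := by group
      _ = d.b * (u' * (d.b * d.a) * u') := by rw [← hu'b.eq]; group
      _ = d.ψ sP := by rw [h1, ← mul_assoc, hbb, one_mul]
  obtain ⟨q, hq⟩ := hCA u' hu't hu'a
  have hqm : q ∈ [uP, uP * tP, bP * uP, bP * uP * tP] := by
    refine lift_u q (d.commute_iff.1 (hq ▸ hu'b)) (d.commute_iff.1 (hq ▸ hu't))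
      (d.inj ?_) (d.inj (by rw [map_mul, hq, map_one, hu'2]))
    rw [map_mul, map_mul, hq]
    rwa [inv_eq_of_mul_eq_one_right hu'2] at hu'a
  set f := d.ψ (uP * aP) with hf
  have hxf : x * f * x = f ∨ x * f * x = f⁻¹ := by
    have hcase : ∀ e : PP, (e = 1 ∨ e = tP) → u' = d.ψ (bP * uP * e) → x * f * x = f ∨ x * f * x = f⁻¹ := by
      intro e he hue
      have h1 : x * f * x = d.ψ (bP * uP * e * (bP * aP)) := by
        rw [hf, map_mul d.ψ uP aP, hmul, ← hu', hue, hxa, ← map_mul, ← map_mul]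
      rw [h1, hf, ← map_inv]
      rcases he with rfl | rfl
      · exact Or.inl (congrArg d.ψ (by decide +kernel))
      · exact Or.inr (congrArg d.ψ (by decide +kernel))
    have hrange : u' = d.u ∨ u' = d.u * d.t → False := by
      intro hc
      obtain ⟨k, hk⟩ : x ∈ d.ψ.range := by
        rcases hc with hc | hc
        · refine hsm x (Pre.mem_CV.2 ⟨hxt, ?_⟩)
          show _ * _ = _ * _
          calc x * d.u = x * d.u * x * x := by rw [mul_assoc (x * d.u), hxx, mul_one]
            _ = d.u * x := by rw [← hu', hc]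
        · have hax : d.a * x ∈ d.CV := by
            refine Pre.mem_CV.2 ⟨(d.commute_iff.2 ta.symm).mul_left hxt, ?_⟩
            show _ * _ = _ * _
            have haut : d.a * (d.u * d.t) = d.u * d.a := by
              rw [← map_mul, ← map_mul, ← map_mul]; exact congrArg d.ψ (by decide +kernel)
            calc d.a * x * d.u = d.a * (x * d.u * x) * x := by
                  rw [mul_assoc d.a (x * d.u * x), mul_assoc (x * d.u), hxx, mul_one, mul_assoc]
              _ = d.u * (d.a * x) := by rw [← hu', hc, haut, mul_assoc]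
          obtain ⟨k, hk⟩ := hsm _ hax
          exact ⟨aP⁻¹ * k, by rw [map_mul, map_inv, hk, inv_mul_cancel_left]⟩
      refine no_swap k (d.inj ?_)
      rw [← d.map_conj, hk, hxinv, hxa, map_mul]
    simp only [List.mem_cons, List.not_mem_nil, or_false] at hqm
    rcases hqm with rfl | rfl | rfl | rfl
    · exact (hrange (Or.inl hq.symm)).elim
    · exact (hrange (Or.inr (by rw [← hq, map_mul]))).elim
    · exact hcase 1 (Or.inl rfl) (by rw [mul_one, hq])
    · exact hcase tP (Or.inr rfl) hq.symm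
  have hff : f * f = d.t := by rw [hf, ← map_mul, fsq]
  have hfne : f ≠ f⁻¹ := fun e => d.map_ne_one t1 (by
    show d.t = 1
    rw [← hff]; nth_rewrite 1 [e]; rw [inv_mul_cancel])
  have hfx : Commute x f := by
    rcases hxf with h | h
    · show _ * _ = _ * _
      calc x * f = x * f * x * x := by rw [mul_assoc (x * f), hxx, mul_one]
        _ = f * x := by rw [h]
    exfalso
    set y := d.z * x with hy
    have hy5 : y ^ 5 = 1 := by
      rw [hy, ← Aw, hx, ← map_mul, ← map_mul, ← map_pow, ← map_pow, wp5, map_one, map_one]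
    have hzfz : d.z * f⁻¹ * d.z⁻¹ = f⁻¹ := by
      rw [(d.commute_iff.2 zf).inv_right.eq, mul_inv_cancel_right]
    have hflip : y * f * y⁻¹ = f⁻¹ := by
      rw [hy, mul_inv_rev, hxinv]
      calc d.z * x * f * (x * d.z⁻¹) = d.z * (x * f * x) * d.z⁻¹ := by group
        _ = f⁻¹ := by rw [h, hzfz]
    have h2 : y ^ 2 * f * (y ^ 2)⁻¹ = f := by
      rw [pow_two, show y * y * f * (y * y)⁻¹ = y * (y * f * y⁻¹) * y⁻¹ by group, hflip, ← conj_inv,
        hflip, inv_inv]
    have h4 : y ^ 4 * f * (y ^ 4)⁻¹ = f := by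
      rw [show (4 : ℕ) = 2 + 2 from rfl, pow_add,
        show y ^ 2 * y ^ 2 * f * (y ^ 2 * y ^ 2)⁻¹ = y ^ 2 * (y ^ 2 * f * (y ^ 2)⁻¹) * (y ^ 2)⁻¹ by group,
        h2, h2]
    refine hfne ?_
    calc f = y ^ 5 * f * (y ^ 5)⁻¹ := by rw [hy5, one_mul, inv_one, mul_one]
      _ = y * (y ^ 4 * f * (y ^ 4)⁻¹) * y⁻¹ := by rw [pow_succ' y 4]; group
      _ = f⁻¹ := by rw [h4, hflip]
  -- pull back by `g`
  set φ := g⁻¹ * f * g with hφ
  have hpull : ∀ {y Y : G}, Ad y = Y → Commute f Y → Commute φ y := by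
    intro y Y hy hc
    have h' := commute_conj hc g⁻¹
    rw [inv_inv, ← hy] at h'
    rwa [show g⁻¹ * Ad y * g = y by
      show g⁻¹ * MulAut.conj g y * g = y
      rw [MulAut.conj_apply]; group] at h'
  have hφw : Commute φ d.w := hpull Aw (d.commute_iff.2 zf).symm
  have hφac : Commute φ (d.ψ (aP * cP)) := hpull Aac (d.commute_iff.2 bf).symm
  have hφp : Commute φ (d.ψ pP) := hpull rfl hfx.symm
  have hφt : Commute φ d.t := by
    show Commute φ (d.ψ tP)
    rw [tw, map_mul, map_mul, map_mul]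
    exact ((hφp.mul_right hφw).mul_right hφac).mul_right hφp
  have hφu : Commute φ d.u := by
    show Commute φ (d.ψ uP)
    rw [uw, map_mul, map_mul, map_mul, map_mul, map_mul]
    exact ((((hφp.mul_right hφw).mul_right hφw).mul_right hφp).mul_right hφw).mul_right hφp
  obtain ⟨k, hk⟩ := hsm φ (Pre.mem_CV.2 ⟨hφt, hφu⟩)
  have hk4 : k ^ 4 = 1 := d.inj (by
    rw [map_pow, hk, map_one, hφ, show g⁻¹ * f * g = g⁻¹ * f * (g⁻¹)⁻¹ by rw [inv_inv], conj_pow, hf,
      ← map_pow, f4, map_one, mul_one, mul_inv_cancel])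
  have hkk := four_element k (d.commute_iff.1 (hk ▸ hφw)) (d.commute_iff.1 (hk ▸ hφt))
    (d.commute_iff.1 (hk ▸ hφu)) hk4
  refine d.map_ne_one t1 ?_
  have hφ2 : φ * φ = 1 := by rw [← hk, ← map_mul, hkk, map_one]
  calc d.t = g * (φ * φ) * g⁻¹ := by
        rw [hφ, show g * (g⁻¹ * f * g * (g⁻¹ * f * g)) * g⁻¹ = f * f by group, hff]
    _ = 1 := by rw [hφ2, mul_one, mul_inv_cancel]

end Cfg

end Cfsg.Agent.SymEightThree
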