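/-
The model `(A₅ × A₅).4` inside a group with the configuration.
-/
import Cfsg.Agent.Lib.SymEightThree.Hard
import Cfsg.Agent.Lib.SymRecog.Coxeter

set_option autoImplicit false
set_option maxRecDepth 100000
set_option synthInstance.maxSize 4000
set_option synthInstance.maxHeartbeats 400000
set_option linter.unusedSectionVars false

namespace Cfsg.Agent.SymEightThree

open Equiv Equiv.Perm

/-- Pairs of permutations of five points. -/
abbrev Q5 : Type := Perm (Fin 5) × Perm (Fin 5)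

/-- The pairs with equal signs. -/
def MM : Subgroup Q5 where
  carrier := {q | sign q.1 = sign q.2}
  one_mem' := rfl
  mul_mem' := fun {p q} hp hq => by
    show sign (p.1 * q.1) = sign (p.2 * q.2)
    rw [Perm.sign_mul, Perm.sign_mul, show sign p.1 = sign p.2 from hp, show sign q.1 = sign q.2 from hq]
  inv_mem' := fun {p} hp => by
    show sign p.1⁻¹ = sign p.2⁻¹
    rw [Perm.sign_inv, Perm.sign_inv]; exact hp

theorem mem_MM {q : Q5} : q ∈ MM ↔ sign q.1 = sign q.2 := Iff.rfl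

instance : DecidablePred (· ∈ MM) := fun q => decidable_of_iff _ mem_MM.symm

/-- The transposition `(3 4)`. -/
def c5 : Perm (Fin 5) := swap 3 4
/-- The double transposition `(0 1)(2 3)`. -/
def t5 : Perm (Fin 5) := swap 0 1 * swap 2 3
/-- The double transposition `(0 1)(3 4)`. -/
def b5 : Perm (Fin 5) := swap 0 1 * swap 3 4

/-- The power of `(3 4)` with a given sign. -/
def sgn5 (τ : Perm (Fin 5)) : Perm (Fin 5) := if sign τ = 1 then 1 else c5

theorem c5_sq : c5 * c5 = 1 := Equiv.swap_mul_self 3 4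

theorem sign_c5 : sign c5 = -1 := by decide +kernel

theorem sgn5_mul (a b : Perm (Fin 5)) : sgn5 (a * b) = sgn5 a * sgn5 b := by
  simp only [sgn5, Perm.sign_mul]
  rcases Int.units_eq_one_or (sign a) with ha | ha <;> rcases Int.units_eq_one_or (sign b) with hb | hb <;>
    simp [ha, hb, c5_sq]

theorem sgn5_sq (a : Perm (Fin 5)) : sgn5 a * sgn5 a = 1 := by
  simp only [sgn5]; split <;> simp [c5_sq]

theorem sign_sgn5 (a : Perm (Fin 5)) : sign (sgn5 a) = sign a := by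
  simp only [sgn5]
  rcases Int.units_eq_one_or (sign a) with ha | ha <;> simp [ha, sign_c5]

/-- The permutations of three points as even permutations of five points. -/
def rho (x : Perm (Fin 3)) : Perm (Fin 5) :=
  (finSumFinEquiv (m := 3) (n := 2)).permCongr (Equiv.sumCongr x (if sign x = 1 then 1 else swap 0 1))

theorem rho_mul : ∀ x y : Perm (Fin 3), rho (x * y) = rho x * rho y := by decide +kernel

theorem rho_facts : ∀ x : Perm (Fin 3), sign (rho x) = 1 ∧ rho x * c5 = c5 * rho x := by decide +kernel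

/-- The pairs of `S₃ × S₅` in the model. -/
def eta : PP →* MM where
  toFun x := ⟨(rho x.1 * sgn5 x.2, x.2), by
    rw [mem_MM, Perm.sign_mul, (rho_facts x.1).1, one_mul, sign_sgn5]⟩
  map_one' := by decide +kernel
  map_mul' x y := by
    refine Subtype.ext (Prod.ext ?_ rfl)
    show rho (x.1 * y.1) * sgn5 (x.2 * y.2) = rho x.1 * sgn5 x.2 * (rho y.1 * sgn5 y.2)
    rw [rho_mul, sgn5_mul]
    have hc : Commute (sgn5 x.2) (rho y.1) := by
      simp only [sgn5]; split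
      · exact Commute.one_left _
      · exact (rho_facts y.1).2.symm
    rw [mul_assoc, mul_assoc, ← mul_assoc (rho y.1), ← hc.eq, mul_assoc]

theorem inr_even {x : Perm (Fin 5)} (h : sign x = 1) :
    ∃ e, evenFive e = ((1, x) : PP) :=
  exists_evenFive rfl h

namespace Cfg

variable {G : Type*} [Group G] [Finite G] {d : Cfg G} (hb : d.j * d.a * d.j = d.ψ (bP * cP))
include hb

theorem e1_commute {x y : Perm (Fin 5)} (hx : sign x = 1) (hy : sign y = 1) :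
    Commute (d.j * d.ψ (1, x) * d.j) (d.ψ (1, y)) := by
  obtain ⟨e, he⟩ := inr_even hx
  obtain ⟨e', he'⟩ := inr_even hy
  rw [← he, ← he']
  exact exch hb e e'

theorem e1_move {x τ : Perm (Fin 5)} (hx : sign x = 1) :
    d.ψ (1, τ) * (d.j * d.ψ (1, x) * d.j) = d.j * d.ψ (1, sgn5 τ * x * sgn5 τ) * d.j * d.ψ (1, τ) := by
  have hσ : sign (sgn5 τ * x * sgn5 τ) = 1 := by
    rw [Perm.sign_mul, Perm.sign_mul, hx, mul_one, Int.units_mul_self]
  have he : sign (τ * sgn5 τ) = 1 := by rw [Perm.sign_mul, sign_sgn5, Int.units_mul_self]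
  have hτ : d.ψ (1, τ) = d.ψ (1, τ * sgn5 τ) * d.ψ (1, sgn5 τ) := by
    rw [← map_mul, Prod.mk_mul_mk, one_mul, mul_assoc, sgn5_sq, mul_one]
  have hs : d.j * d.ψ (1, sgn5 τ) * d.j = d.ψ (1, sgn5 τ) := by
    simp only [sgn5]; split
    · rw [show ((1, 1) : PP) = 1 from rfl, map_one, mul_one, d.j_sq]
    · exact d.j_c
  have hs2 : d.ψ (1, sgn5 τ) * d.ψ (1, sgn5 τ) = 1 := by
    rw [← map_mul, Prod.mk_mul_mk, one_mul, sgn5_sq, show ((1, 1) : PP) = 1 from rfl, map_one]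
  have hconj : d.ψ (1, sgn5 τ) * (d.j * d.ψ (1, x) * d.j) * d.ψ (1, sgn5 τ) =
      d.j * d.ψ (1, sgn5 τ * x * sgn5 τ) * d.j := by
    rw [show ((1, sgn5 τ * x * sgn5 τ) : PP) = (1, sgn5 τ) * (1, x) * (1, sgn5 τ) by simp,
      map_mul, map_mul, d.j_mul, d.j_mul, hs]
  calc d.ψ (1, τ) * (d.j * d.ψ (1, x) * d.j)
      = d.ψ (1, τ * sgn5 τ) * (d.ψ (1, sgn5 τ) * (d.j * d.ψ (1, x) * d.j) * d.ψ (1, sgn5 τ)) *
          d.ψ (1, sgn5 τ) := by rw [hτ, mul_assoc _ _ (d.ψ (1, sgn5 τ)), mul_assoc _ (d.ψ (1, sgn5 τ)) (d.ψ (1, sgn5 τ)), hs2, mul_one]; group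
    _ = d.ψ (1, τ * sgn5 τ) * (d.j * d.ψ (1, sgn5 τ * x * sgn5 τ) * d.j) * d.ψ (1, sgn5 τ) := by
        rw [hconj]
    _ = d.j * d.ψ (1, sgn5 τ * x * sgn5 τ) * d.j * d.ψ (1, τ) := by
        rw [← (e1_commute hb hσ he).eq, mul_assoc, ← hτ]

/-- The embedding of the model. -/
def Φ : MM →* G where
  toFun q := d.j * d.ψ (1, q.1.1 * sgn5 q.1.2) * d.j * d.ψ (1, q.1.2)
  map_one' := by
    show d.j * d.ψ (1, 1 * sgn5 1) * d.j * d.ψ (1, 1) = 1
    rw [show sgn5 1 = 1 by simp [sgn5], mul_one, show ((1, 1) : PP) = 1 from rfl, map_one, mul_one,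
      mul_one, d.j_sq]
  map_mul' p q := by
    have hs : ∀ r : MM, sign (r.1.1 * sgn5 r.1.2) = 1 := fun r => by
      rw [Perm.sign_mul, sign_sgn5, mem_MM.1 r.2, Int.units_mul_self]
    show d.j * d.ψ (1, (p.1.1 * q.1.1) * sgn5 (p.1.2 * q.1.2)) * d.j * d.ψ (1, p.1.2 * q.1.2) = _
    have e : (p.1.1 * q.1.1) * sgn5 (p.1.2 * q.1.2) =
        (p.1.1 * sgn5 p.1.2) * (sgn5 p.1.2 * (q.1.1 * sgn5 q.1.2) * sgn5 p.1.2) := by
      have hcm : sgn5 q.1.2 * sgn5 p.1.2 = sgn5 p.1.2 * sgn5 q.1.2 := by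
        simp only [sgn5]; split <;> split <;> simp
      calc (p.1.1 * q.1.1) * sgn5 (p.1.2 * q.1.2)
          = p.1.1 * (sgn5 p.1.2 * sgn5 p.1.2) * q.1.1 * (sgn5 q.1.2 * sgn5 p.1.2) := by
            rw [sgn5_sq, mul_one, sgn5_mul, hcm]
        _ = _ := by group
    rw [e, show ((1, p.1.1 * sgn5 p.1.2 * (sgn5 p.1.2 * (q.1.1 * sgn5 q.1.2) * sgn5 p.1.2)) : PP) =
        (1, p.1.1 * sgn5 p.1.2) * (1, sgn5 p.1.2 * (q.1.1 * sgn5 q.1.2) * sgn5 p.1.2) by simp,
      show ((1, p.1.2 * q.1.2) : PP) = (1, p.1.2) * (1, q.1.2) by simp, map_mul, map_mul, d.j_mul]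
    simp only [mul_assoc (d.j * d.ψ (1, p.1.1 * sgn5 p.1.2) * d.j)]
    rw [← mul_assoc _ (d.ψ (1, p.1.2)) (d.ψ (1, q.1.2)), ← e1_move hb (hs q)]
    group

theorem Φ_apply (q : MM) :
    Φ hb q = d.j * d.ψ (1, q.1.1 * sgn5 q.1.2) * d.j * d.ψ (1, q.1.2) := rfl

theorem Φ_injective : Function.Injective (Φ hb) := by
  rw [injective_iff_map_eq_one]
  rintro ⟨⟨σ, τ⟩, hq⟩ h
  rw [Φ_apply] at h
  have hσ : sign (σ * sgn5 τ) = 1 := by rw [Perm.sign_mul, sign_sgn5, mem_MM.1 hq, Int.units_mul_self]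
  have e : d.ψ (1, τ) = (d.j * d.ψ (1, σ * sgn5 τ) * d.j)⁻¹ := eq_inv_of_mul_eq_one_right h
  have hcen : ∀ y : Perm (Fin 5), sign y = 1 → τ * y = y * τ := fun y hy => by
    have hc : Commute (d.ψ (1, τ)) (d.ψ (1, y)) := e ▸ (e1_commute hb hσ hy).inv_left
    exact congrArg Prod.snd (d.commute_iff.1 hc)
  have key : ∀ τ : Perm (Fin 5), τ * swap 0 1 * swap 2 3 = swap 0 1 * swap 2 3 * τ →
      τ * (swap 0 2 * swap 0 1) = swap 0 2 * swap 0 1 * τ →
      τ * (swap 0 4 * swap 1 3) = swap 0 4 * swap 1 3 * τ → τ = 1 := by decide +kernel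
  have hτ : τ = 1 := key τ (by rw [mul_assoc]; exact hcen _ (by decide +kernel))
    (hcen _ (by decide +kernel)) (hcen _ (by decide +kernel))
  subst hτ
  rw [show sgn5 1 = 1 by simp [sgn5], mul_one, show ((1, 1) : PP) = 1 from rfl, map_one, mul_one] at h
  have h' : d.ψ (1, σ) = 1 := by rw [← d.j_cancel (d.ψ (1, σ)), h, mul_one, d.j_sq]
  have := congrArg Prod.snd (d.inj (h'.trans (map_one d.ψ).symm))
  exact Subtype.ext (Prod.ext this rfl)

theorem Φ_eta : ∀ x : PP, Φ hb (eta x) = d.ψ x := by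
  have hR : ∀ τ : Perm (Fin 5), Φ hb (eta (1, τ)) = d.ψ (1, τ) := fun τ => by
    rw [Φ_apply]
    show d.j * d.ψ (1, rho 1 * sgn5 τ * sgn5 τ) * d.j * d.ψ (1, τ) = _
    rw [show rho 1 = 1 by decide +kernel, one_mul, sgn5_sq, show ((1, 1) : PP) = 1 from rfl, map_one,
      mul_one, d.j_sq, one_mul]
  have hzb : Φ hb (eta bP) = d.b ∧ Φ hb (eta zP) = d.z := by
    constructor <;> rw [Φ_apply]
    · show d.j * d.ψ (1, rho (swap 0 1) * sgn5 1 * sgn5 1) * d.j * d.ψ (1, 1) = _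
      rw [show ((1, rho (swap 0 1) * sgn5 1 * sgn5 1) : PP) = aP * cP by decide +kernel, jac hb,
        show ((1, 1) : PP) = 1 from rfl, map_one, mul_one]
    · show d.j * d.ψ (1, rho (swap 0 2 * swap 0 1) * sgn5 1 * sgn5 1) * d.j * d.ψ (1, 1) = _
      rw [show ((1, rho (swap 0 2 * swap 0 1) * sgn5 1 * sgn5 1) : PP) = wP by decide +kernel,
        show d.j * d.ψ wP * d.j = d.z from d.j_w, show ((1, 1) : PP) = 1 from rfl, map_one, mul_one]
  intro x
  have hL : (((Φ hb).comp eta).comp (MonoidHom.inl (Perm (Fin 3)) (Perm (Fin 5)))) =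
      d.ψ.comp (MonoidHom.inl _ _) := by
    refine MonoidHom.eq_of_eqOn_dense (s := {swap (0 : Fin 3) 1, swap 0 2 * swap 0 1}) ?_ ?_
    · refine eq_top_iff.2 fun p _ => ?_
      set H := Subgroup.closure ({swap (0 : Fin 3) 1, swap 0 2 * swap 0 1} : Set (Perm (Fin 3)))
      have hb' : swap (0 : Fin 3) 1 ∈ H := Subgroup.subset_closure (Set.mem_insert _ _)
      have hz' : swap (0 : Fin 3) 2 * swap 0 1 ∈ H :=
        Subgroup.subset_closure (Set.mem_insert_of_mem _ rfl)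
      have key : ∀ p : Perm (Fin 3), ∃ i < 3, ∃ k < 2,
          p = (swap (0 : Fin 3) 2 * swap 0 1) ^ i * swap 0 1 ^ k := by decide +kernel
      obtain ⟨i, -, k, -, rfl⟩ := key p
      exact H.mul_mem (H.pow_mem hz' i) (H.pow_mem hb' k)
    · rintro _ (rfl | rfl)
      · exact hzb.1
      · exact hzb.2
  rw [show x = MonoidHom.inl _ _ x.1 * MonoidHom.inr _ _ x.2 by simp, map_mul, map_mul, map_mul]
  exact congrArg₂ (· * ·) (DFunLike.congr_fun hL x.1) (hR x.2)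

/-- The exchange of the two coordinates. -/
theorem j_Φ (q : MM) : d.j * Φ hb q * d.j = Φ hb ⟨(q.1.2, q.1.1), mem_MM.2 (mem_MM.1 q.2).symm⟩ := by
  have hsq : sgn5 q.1.1 = sgn5 q.1.2 := by simp only [sgn5, mem_MM.1 q.2]
  have hσ : sign (q.1.1 * sgn5 q.1.2) = 1 := by
    rw [Perm.sign_mul, sign_sgn5, mem_MM.1 q.2, Int.units_mul_self]
  have hτ : sign (q.1.2 * sgn5 q.1.1) = 1 := by
    rw [Perm.sign_mul, sign_sgn5, mem_MM.1 q.2, Int.units_mul_self]
  rw [Φ_apply, Φ_apply]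
  show d.j * (d.j * d.ψ (1, q.1.1 * sgn5 q.1.2) * d.j * d.ψ (1, q.1.2)) * d.j =
    d.j * d.ψ (1, q.1.2 * sgn5 q.1.1) * d.j * d.ψ (1, q.1.1)
  rw [d.j_mul, d.j_cancel]
  have hs : d.j * d.ψ (1, sgn5 q.1.1) * d.j = d.ψ (1, sgn5 q.1.1) := by
    simp only [sgn5]; split
    · rw [show ((1, 1) : PP) = 1 from rfl, map_one, mul_one, d.j_sq]
    · exact d.j_c
  rw [show ((1, q.1.2) : PP) = (1, q.1.2 * sgn5 q.1.1) * (1, sgn5 q.1.1) by
      simp [mul_assoc, sgn5_sq],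
    map_mul, d.j_mul, hs, ← mul_assoc, ← (e1_commute hb hτ hσ).eq, mul_assoc]
  rw [← map_mul, hsq]
  exact congrArg (fun v => d.j * d.ψ (1, q.1.2 * sgn5 q.1.2) * d.j * d.ψ v)
    (by simp [mul_assoc, sgn5_sq])

end Cfg

end Cfsg.Agent.SymEightThree
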