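/-
The subgroup `(A₅ × A₅).4` and its classes of involutions.
-/
import Cfsg.Agent.Lib.SymEightThree.Model

set_option autoImplicit false
set_option maxRecDepth 100000
set_option synthInstance.maxSize 4000
set_option synthInstance.maxHeartbeats 400000
set_option linter.unusedSectionVars false

namespace Cfsg.Agent.SymEightThree

open Equiv Equiv.Perm

/-- The element `(1, (0 1)(2 3))`. -/
def tM : MM := ⟨(1, t5), by decide +kernel⟩
/-- The element `((0 1)(3 4), 1)`. -/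
def bM : MM := ⟨(b5, 1), by decide +kernel⟩
/-- The element `((3 4), (0 1))`. -/
def aM : MM := ⟨(c5, swap 0 1), by decide +kernel⟩
/-- The element `((3 4), (3 4))`. -/
def cM : MM := ⟨(c5, c5), by decide +kernel⟩
/-- The element `(1, (0 2)(1 3))`. -/
def uM : MM := ⟨(1, swap 0 2 * swap 1 3), by decide +kernel⟩
/-- The element `((0 1 2), 1)`. -/
def zM : MM := ⟨(swap 0 2 * swap 0 1, 1), by decide +kernel⟩
/-- The element `(1, (2 3))` times `((3 4), 1)`. -/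
def sM : MM := ⟨(c5, swap 2 3), by decide +kernel⟩

theorem eta_facts : eta tP = tM ∧ eta uP = uM ∧ eta bP = bM ∧ eta aP = aM ∧ eta cP = cM ∧
    eta zP = zM ∧ eta sP = sM := by
  decide +kernel

theorem five_classes : (∀ σ : Perm (Fin 5), σ * σ = 1 → σ ≠ 1 → sign σ = 1 →
      ∃ g : Perm (Fin 5), sign g = 1 ∧ g * t5 * g⁻¹ = σ) ∧
    (∀ σ : Perm (Fin 5), σ * σ = 1 → sign σ = -1 →
      ∃ g : Perm (Fin 5), sign g = 1 ∧ g * c5 * g⁻¹ = σ) ∧
    (∃ g : Perm (Fin 5), sign g = 1 ∧ g * t5 * g⁻¹ = b5) ∧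
    (∃ g : Perm (Fin 5), sign g = 1 ∧ g * c5 * g⁻¹ = swap 0 1) := by
  decide +kernel

namespace Cfg

variable {G : Type*} [Group G] [Finite G] {d : Cfg G} (hb : d.j * d.a * d.j = d.ψ (bP * cP))
include hb

theorem Φ_t : Φ hb tM = d.t := by rw [← eta_facts.1, Φ_eta]
theorem Φ_u : Φ hb uM = d.u := by rw [← eta_facts.2.1, Φ_eta]
theorem Φ_b : Φ hb bM = d.b := by rw [← eta_facts.2.2.1, Φ_eta]
theorem Φ_a : Φ hb aM = d.a := by rw [← eta_facts.2.2.2.1, Φ_eta]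
theorem Φ_c : Φ hb cM = d.c := by rw [← eta_facts.2.2.2.2.1, Φ_eta]
theorem Φ_z : Φ hb zM = d.z := by rw [← eta_facts.2.2.2.2.2.1, Φ_eta]
theorem Φ_s : Φ hb sM = d.ψ sP := by rw [← eta_facts.2.2.2.2.2.2, Φ_eta]

theorem j_swap {p q : MM} (h : q.1 = (p.1.2, p.1.1)) : d.j * Φ hb p * d.j = Φ hb q := by
  rw [j_Φ]; exact congrArg _ (Subtype.ext h.symm)

theorem mul_j (q : MM) : ∃ q', Φ hb q * d.j = d.j * Φ hb q' := by
  refine ⟨⟨(q.1.2, q.1.1), mem_MM.2 (mem_MM.1 q.2).symm⟩, ?_⟩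
  rw [← j_Φ hb q, mul_assoc d.j (Φ hb q), ← mul_assoc, d.j_sq, one_mul]

/-- The subgroup generated by the model and `j`. -/
def G0 : Subgroup G where
  carrier := {g | ∃ q, g = Φ hb q ∨ g = d.j * Φ hb q}
  one_mem' := ⟨1, Or.inl (map_one _).symm⟩
  mul_mem' := by
    rintro g h ⟨p, hp⟩ ⟨q, hq⟩
    obtain ⟨p', hp'⟩ := mul_j hb p
    rcases hp with rfl | rfl <;> rcases hq with rfl | rfl
    · exact ⟨p * q, Or.inl (map_mul _ _ _).symm⟩
    · exact ⟨p' * q, Or.inr (by rw [← mul_assoc, hp', mul_assoc, map_mul])⟩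
    · exact ⟨p * q, Or.inr (by rw [mul_assoc, map_mul])⟩
    · refine ⟨p' * q, Or.inl ?_⟩
      rw [mul_assoc d.j, ← mul_assoc (Φ hb p), hp', map_mul, ← mul_assoc, ← mul_assoc, d.j_sq, one_mul]
  inv_mem' := by
    rintro g ⟨p, rfl | rfl⟩
    · exact ⟨p⁻¹, Or.inl (map_inv _ _).symm⟩
    · obtain ⟨p', hp'⟩ := mul_j hb p⁻¹
      exact ⟨p', Or.inr (by rw [mul_inv_rev, d.j_inv, ← map_inv, hp'])⟩

theorem Φ_mem (q : MM) : Φ hb q ∈ G0 hb := ⟨q, Or.inl rfl⟩

theorem j_mem : d.j ∈ G0 hb := ⟨1, Or.inr (by rw [map_one, mul_one])⟩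

theorem range_le {g : G} (h : g ∈ d.ψ.range) : g ∈ G0 hb := by
  obtain ⟨x, rfl⟩ := h
  exact ⟨eta x, Or.inl (Φ_eta hb x).symm⟩

theorem near_le {g : G} (h : d.Near g) : g ∈ G0 hb := by
  rcases h with h | h
  · exact range_le hb h
  · have := (G0 hb).mul_mem (j_mem hb) (range_le hb h)
    rwa [← mul_assoc, d.j_sq, one_mul] at this

theorem cent_a_le {g : G} (h : Commute g d.a) : g ∈ G0 hb := by
  have h3 := d.p_conj.2.2
  have := (G0 hb).mul_mem ((G0 hb).mul_mem (range_le hb ⟨pP, rfl⟩)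
    (near_le hb (cent_a_near hb (Or.inl (exch hb)) g h))) (range_le hb ⟨pP, rfl⟩)
  rwa [show d.ψ pP * (d.ψ pP * g * d.ψ pP) * d.ψ pP = g by
    calc _ = (d.ψ pP * d.ψ pP) * g * (d.ψ pP * d.ψ pP) := by group
      _ = g := by rw [h3, one_mul, mul_one]] at this

theorem j_ne (q : MM) : d.j ≠ Φ hb q := by
  intro h
  have h2 : q.1.2 * 1 * q.1.2⁻¹ = swap (0 : Fin 5) 2 * swap 0 1 := by
    have e : d.j * Φ hb zM * d.j = Φ hb (q * zM * q⁻¹) := by
      rw [map_mul, map_mul, map_inv, ← h, d.j_inv]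
    rw [j_Φ] at e
    exact (congrArg (fun r : MM => r.1.2) (Φ_injective hb e)).symm
  rw [mul_one, mul_inv_cancel] at h2
  exact absurd h2 (by decide +kernel)

theorem card_MM : Nat.card MM = 7200 := by
  let f : MM ≃ alternatingGroup (Fin 5) × Perm (Fin 5) :=
    { toFun := fun q => (⟨q.1.1 * sgn5 q.1.2, mem_alternatingGroup.2 (by
        rw [Perm.sign_mul, sign_sgn5, mem_MM.1 q.2, Int.units_mul_self])⟩, q.1.2)
      invFun := fun p => ⟨((p.1 : Perm (Fin 5)) * sgn5 p.2, p.2), mem_MM.2 (by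
        rw [Perm.sign_mul, sign_sgn5, mem_alternatingGroup.1 p.1.2, one_mul])⟩
      left_inv := fun q => Subtype.ext (Prod.ext (by simp [mul_assoc, sgn5_sq]) rfl)
      right_inv := fun p => Prod.ext (Subtype.ext (by simp [mul_assoc, sgn5_sq])) rfl }
  rw [Nat.card_congr f, Nat.card_prod, nat_card_alternatingGroup, Nat.card_perm, Nat.card_fin]
  rfl

theorem card_G0 : Nat.card (G0 hb) = 14400 := by
  let f : Bool × MM → G0 hb := fun p => bif p.1 then ⟨d.j * Φ hb p.2, p.2, Or.inr rfl⟩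
    else ⟨Φ hb p.2, p.2, Or.inl rfl⟩
  have hne : ∀ p q : MM, d.j * Φ hb p ≠ Φ hb q := fun p q h => j_ne hb (q * p⁻¹) (by
    rw [map_mul, map_inv, ← h, mul_inv_cancel_right])
  have hf : Function.Bijective f := by
    constructor
    · rintro ⟨_ | _, p⟩ ⟨_ | _, q⟩ e <;> have e' := congrArg Subtype.val e <;>
        simp only [f, cond_false, cond_true] at e'
      · exact Prod.ext rfl (Φ_injective hb e')
      · exact absurd e'.symm (hne _ _)
      · exact absurd e' (hne _ _)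
      · exact Prod.ext rfl (Φ_injective hb (mul_left_cancel e'))
    · rintro ⟨g, p, hp⟩
      rcases hp with rfl | rfl
      exacts [⟨(false, p), rfl⟩, ⟨(true, p), rfl⟩]
  rw [← Nat.card_eq_of_bijective f hf, Nat.card_prod, Nat.card_eq_fintype_card, Fintype.card_bool,
    card_MM hb]

/-- The classes of involutions of the subgroup. -/
theorem invol_G0 {i : G} (hi : i ∈ G0 hb) (h2 : i * i = 1) (h1 : i ≠ 1) :
    ∃ g ∈ G0 hb, ∃ r ∈ [d.t, d.b * d.t, d.a, d.j, d.j * d.c], g * r * g⁻¹ = i := by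
  obtain ⟨cls, clo, ⟨gb, hgb, hgb'⟩, ⟨ga, hga, hga'⟩⟩ := five_classes
  have pair : ∀ (x y : Perm (Fin 5)) (r : MM), sign x = sign y →
      ∀ q : MM, x * r.1.1 * x⁻¹ = q.1.1 → y * r.1.2 * y⁻¹ = q.1.2 →
        ∃ g ∈ G0 hb, g * Φ hb r * g⁻¹ = Φ hb q := fun x y r hxy q e1 e2 =>
    ⟨Φ hb ⟨(x, y), hxy⟩, Φ_mem hb _, by
      rw [← map_inv, ← map_mul, ← map_mul]
      exact congrArg _ (Subtype.ext (Prod.ext e1 e2))⟩
  obtain ⟨q, rfl | rfl⟩ := hi
  · have hq : q * q = 1 := Φ_injective hb (by rw [map_mul, h2, map_one])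
    have hq1 : q.1.1 * q.1.1 = 1 := congrArg (fun r : MM => r.1.1) hq
    have hq2 : q.1.2 * q.1.2 = 1 := congrArg (fun r : MM => r.1.2) hq
    rcases Int.units_eq_one_or (sign q.1.1) with hs | hs
    · have hs2 : sign q.1.2 = 1 := (mem_MM.1 q.2).symm.trans hs
      by_cases e1 : q.1.1 = 1
      · obtain ⟨y, hy, hy'⟩ := cls q.1.2 hq2 (fun e => h1 (by
          rw [show q = 1 from Subtype.ext (Prod.ext e1 e), map_one])) hs2
        obtain ⟨g, hg, he⟩ := pair 1 y tM (by rw [hy, map_one]) q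
          (by rw [show tM.1.1 = 1 from rfl, e1]; simp) hy'
        exact ⟨g, hg, d.t, by simp, by rw [← Φ_t hb]; exact he⟩
      obtain ⟨x, hx, hx'⟩ := cls q.1.1 hq1 e1 hs
      by_cases e2 : q.1.2 = 1
      · obtain ⟨g, hg, he⟩ := pair x 1 ⟨(t5, 1), by decide +kernel⟩ (by rw [hx, map_one]) q hx'
          (by rw [e2]; simp)
        refine ⟨g * d.j, (G0 hb).mul_mem hg (j_mem hb), d.t, by simp, ?_⟩
        rw [← he, ← j_swap hb (p := tM) (q := ⟨(t5, 1), by decide +kernel⟩) rfl, Φ_t hb, mul_inv_rev, d.j_inv]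
        group
      · obtain ⟨y, hy, hy'⟩ := cls q.1.2 hq2 e2 hs2
        obtain ⟨g, hg, he⟩ := pair (x * gb⁻¹) y (bM * tM) (by
            rw [Perm.sign_mul, Perm.sign_inv, hx, hgb, hy]; rfl) q
          (by rw [show (bM * tM).1.1 = b5 by decide +kernel, ← hgb', ← hx']; group)
          (by rw [show (bM * tM).1.2 = t5 by decide +kernel]; exact hy')
        exact ⟨g, hg, d.b * d.t, by simp, by rw [← Φ_t hb, ← Φ_b hb, ← map_mul]; exact he⟩
    · have hs2 : sign q.1.2 = -1 := (mem_MM.1 q.2).symm.trans hs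
      obtain ⟨x, hx, hx'⟩ := clo q.1.1 hq1 hs
      obtain ⟨y, hy, hy'⟩ := clo q.1.2 hq2 hs2
      obtain ⟨g, hg, he⟩ := pair x (y * ga⁻¹) aM (by
          rw [Perm.sign_mul, Perm.sign_inv, hx, hga, hy]; rfl) q
        hx' (by rw [show aM.1.2 = swap 0 1 from rfl, ← hga', ← hy']; group)
      exact ⟨g, hg, d.a, by simp, by rw [← Φ_a hb]; exact he⟩
  · have e : Φ hb ⟨(q.1.2, q.1.1), mem_MM.2 (mem_MM.1 q.2).symm⟩ * Φ hb q = 1 := by
      rw [← j_Φ, mul_assoc (d.j * Φ hb q), h2]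
    have e' := congrArg (fun r : MM => r.1.1) (Φ_injective hb ((map_mul (Φ hb) _ _).trans (e.trans (map_one (Φ hb)).symm)))
    have hinv : q.1.1 = q.1.2⁻¹ := eq_inv_of_mul_eq_one_right e'
    rcases Int.units_eq_one_or (sign q.1.1) with hs | hs
    · -- conjugate to `j`
      let r : MM := ⟨(q.1.1, 1), mem_MM.2 (by rw [hs, map_one])⟩
      refine ⟨Φ hb r⁻¹, Φ_mem hb _, d.j, by simp, ?_⟩
      have e2 : d.j * Φ hb r⁻¹ * d.j = Φ hb ⟨((1 : Perm (Fin 5)), q.1.1⁻¹), mem_MM.2 (by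
          rw [Perm.sign_inv, hs, map_one])⟩ := j_swap hb (Prod.ext (by simp [r]) (by simp [r]))
      rw [map_inv, inv_inv, ← map_inv]
      calc Φ hb r⁻¹ * d.j * Φ hb r = d.j * (d.j * Φ hb r⁻¹ * d.j) * Φ hb r := by
            rw [← mul_assoc, ← mul_assoc, d.j_sq, one_mul]
        _ = d.j * Φ hb q := by
            rw [e2, mul_assoc, ← map_mul]
            refine congrArg (fun v => d.j * Φ hb v) (Subtype.ext (Prod.ext ?_ ?_))
            · simp [r]
            · show q.1.1⁻¹ * 1 = q.1.2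
              rw [mul_one, hinv, inv_inv]
    · let r : MM := ⟨(c5 * q.1.1, 1), mem_MM.2 (by rw [Perm.sign_mul, sign_c5, hs, map_one]; rfl)⟩
      refine ⟨Φ hb r⁻¹, Φ_mem hb _, d.j * d.c, by simp, ?_⟩
      have e2 : d.j * Φ hb r⁻¹ * d.j = Φ hb ⟨((1 : Perm (Fin 5)), (c5 * q.1.1)⁻¹), mem_MM.2 (by
          rw [Perm.sign_inv, Perm.sign_mul, sign_c5, hs, map_one]; rfl)⟩ :=
        j_swap hb (Prod.ext (by simp [r]) (by simp [r]))
      rw [map_inv, inv_inv, ← map_inv, ← Φ_c hb]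
      calc Φ hb r⁻¹ * (d.j * Φ hb cM) * Φ hb r = d.j * (d.j * Φ hb r⁻¹ * d.j) * Φ hb cM * Φ hb r := by
            rw [← mul_assoc d.j, ← mul_assoc, ← mul_assoc, d.j_sq, one_mul]
        _ = d.j * Φ hb q := by
            rw [e2, mul_assoc, mul_assoc, ← map_mul (Φ hb), ← map_mul (Φ hb)]
            refine congrArg (fun v => d.j * Φ hb v) (Subtype.ext (Prod.ext ?_ ?_))
            · show 1 * (c5 * (c5 * q.1.1)) = q.1.1
              rw [one_mul, ← mul_assoc, c5_sq, one_mul]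
            · show (c5 * q.1.1)⁻¹ * (c5 * 1) = q.1.2
              rw [mul_one, mul_inv_rev, mul_assoc, inv_mul_cancel, mul_one, hinv, inv_inv]

end Cfg

end Cfsg.Agent.SymEightThree
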