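/-
The centralizer of `(0 1)(2 3)`.
-/
import Cfsg.Agent.Lib.SymEightThree.ModelGroup

set_option autoImplicit false
set_option maxRecDepth 100000
set_option synthInstance.maxSize 4000
set_option synthInstance.maxHeartbeats 400000
set_option linter.unusedSectionVars false

namespace Cfsg.Agent.SymEightThree

open Equiv Equiv.Perm

theorem nat_card_cent_conj {H : Type*} [Group H] {x y : H} (h : IsConj x y) :
    Nat.card (Subgroup.centralizer ({x} : Set H)) = Nat.card (Subgroup.centralizer ({y} : Set H)) := by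
  obtain ⟨g, rfl⟩ := isConj_iff.1 h
  refine Nat.card_congr (Equiv.subtypeEquiv (MulAut.conj g).toEquiv fun v => ?_)
  simp only [Subgroup.mem_centralizer_singleton_iff, MulEquiv.toEquiv_eq_coe, EquivLike.coe_coe,
    MulAut.conj_apply]
  constructor
  · intro hv
    exact (commute_conj (show Commute v x from hv) g).eq
  · intro hv
    have := commute_conj (show Commute _ _ from hv) g⁻¹
    simpa [mul_assoc] using this.eq

theorem d8_facts : (∀ σ : Perm (Fin 5), σ * b5 = b5 * σ → σ ^ 4 = 1) ∧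
    (∀ τ : Perm (Fin 5), τ * t5 = t5 * τ → τ ^ 4 = 1) ∧
    (∀ σ : Perm (Fin 5), (∀ y : Perm (Fin 5), y * b5 = b5 * y →
      σ * y * σ⁻¹ * b5 = b5 * (σ * y * σ⁻¹)) → σ * b5 = b5 * σ) ∧
    (∀ τ : Perm (Fin 5), τ * t5 = t5 * τ → τ * τ = 1 → sign τ = 1 →
      τ = 1 ∨ τ = t5 ∨ τ = swap 0 2 * swap 1 3 ∨ τ = swap 0 2 * swap 1 3 * t5) ∧
    (∀ τ : Perm (Fin 5), τ * t5 = t5 * τ →
      τ * (swap 0 2 * swap 1 3) * τ⁻¹ = swap 0 2 * swap 1 3 ∨
        τ * (swap 0 2 * swap 1 3) * τ⁻¹ = swap 0 2 * swap 1 3 * t5) := by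
  decide +kernel

/-- The Sylow two-subgroup of the centralizer of `tM`. -/
def S32 : Subgroup MM where
  carrier := {q | q.1.1 * b5 = b5 * q.1.1 ∧ q.1.2 * t5 = t5 * q.1.2}
  one_mem' := ⟨rfl, rfl⟩
  mul_mem' := fun {p q} hp hq =>
    ⟨(Commute.mul_left (show Commute p.1.1 b5 from hp.1) hq.1).eq,
      (Commute.mul_left (show Commute p.1.2 t5 from hp.2) hq.2).eq⟩
  inv_mem' := fun {p} hp =>
    ⟨(show Commute p.1.1 b5 from hp.1).inv_left.eq, (show Commute p.1.2 t5 from hp.2).inv_left.eq⟩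

theorem mem_S32 {q : MM} : q ∈ S32 ↔ q.1.1 * b5 = b5 * q.1.1 ∧ q.1.2 * t5 = t5 * q.1.2 := Iff.rfl

namespace Cfg

variable {G : Type*} [Group G] [Finite G] {d : Cfg G} (hb : d.j * d.a * d.j = d.ψ (bP * cP))
include hb

theorem commute_Φ {p q : MM} : Commute (Φ hb p) (Φ hb q) ↔ p * q = q * p :=
  ⟨fun h => Φ_injective hb (by rw [map_mul, map_mul]; exact h.eq),
    fun h => Commute.map (show Commute p q from h) (Φ hb)⟩

theorem t_sq : d.t * d.t = 1 := by rw [← map_mul, show tP * tP = 1 by decide +kernel, map_one]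

theorem card_cent_c : Nat.card (Subgroup.centralizer ({d.c} : Set G)) = 144 := by
  have hnear : ∀ g : G, Commute g d.c → d.Near g := fun g hg => by
    have h := cent_a_near hb (Or.inl (exch hb))
    obtain ⟨h1, h2, h3⟩ := d.p_conj
    have hinv : (d.ψ pP)⁻¹ = d.ψ pP := inv_eq_of_mul_eq_one_right h3
    have hc := commute_conj hg (d.ψ pP)
    rw [hinv, h2] at hc
    have := h _ hc
    rwa [show d.ψ pP * (d.ψ pP * g * d.ψ pP) * d.ψ pP = g by
      calc _ = (d.ψ pP * d.ψ pP) * g * (d.ψ pP * d.ψ pP) := by group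
        _ = g := by rw [h3, one_mul, mul_one]] at this
  have h72 : Nat.card {x : PP // x * cP = cP * x} = 72 := by
    rw [Nat.card_eq_fintype_card]; decide +kernel
  let f : Bool × {x : PP // x * cP = cP * x} → Subgroup.centralizer ({d.c} : Set G) := fun p =>
    bif p.1 then ⟨d.j * d.ψ p.2, Subgroup.mem_centralizer_singleton_iff.2
        (d.commute_j_c.mul_left (d.commute_iff.2 p.2.2)).eq⟩
    else ⟨d.ψ p.2, Subgroup.mem_centralizer_singleton_iff.2 (d.commute_iff.2 p.2.2).eq⟩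
  have hne : ∀ x y : PP, d.j * d.ψ x ≠ d.ψ y := fun x y h => d.j_notMem ⟨y * x⁻¹, by
    rw [map_mul, map_inv, ← h, mul_inv_cancel_right]⟩
  have hf : Function.Bijective f := by
    constructor
    · rintro ⟨_ | _, p⟩ ⟨_ | _, q⟩ e <;> have e' := congrArg Subtype.val e <;>
        simp only [f, cond_false, cond_true] at e'
      · exact Prod.ext rfl (Subtype.ext (d.inj e'))
      · exact absurd e'.symm (hne _ _)
      · exact absurd e' (hne _ _)
      · exact Prod.ext rfl (Subtype.ext (d.inj (mul_left_cancel e')))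
    · rintro ⟨g, hg⟩
      have hgc : Commute g d.c := Subgroup.mem_centralizer_singleton_iff.1 hg
      rcases hnear g hgc with ⟨x, hx⟩ | ⟨x, hx⟩
      · exact ⟨(false, ⟨x, d.commute_iff.1 (hx ▸ hgc)⟩), Subtype.ext hx⟩
      · have hx' : Commute (d.ψ x) d.c := hx ▸ d.commute_j_c.mul_left hgc
        exact ⟨(true, ⟨x, d.commute_iff.1 hx'⟩), Subtype.ext (by
          show d.j * d.ψ x = g
          rw [hx, ← mul_assoc, d.j_sq, one_mul])⟩
  rw [← Nat.card_eq_of_bijective f hf, Nat.card_prod, h72, Nat.card_eq_fintype_card, Fintype.card_bool]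

theorem exp4_S32 : ∀ q ∈ S32, q ^ 4 = 1 := fun q hq =>
  Subtype.ext (Prod.ext (d8_facts.1 _ (mem_S32.1 hq).1) (d8_facts.2.1 _ (mem_S32.1 hq).2))

theorem thirtytwo_dvd : 32 ∣ Nat.card S32 := by
  let L : List (Perm (Fin 5)) := [1, b5, swap 0 3 * swap 1 4, swap 0 4 * swap 1 3,
    swap 0 1, swap 3 4, swap 0 3 * swap 0 1 * swap 1 4, swap 0 4 * swap 0 1 * swap 1 3]
  let M : List (Perm (Fin 5)) := [1, t5, swap 0 2 * swap 1 3, swap 0 3 * swap 1 2,
    swap 0 1, swap 2 3, swap 0 2 * swap 0 1 * swap 1 3, swap 0 3 * swap 0 1 * swap 1 2]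
  have e : ∀ q : MM, q ∈ S32 ↔ (q.1.1 * b5 = b5 * q.1.1 ∧ q.1.2 * t5 = t5 * q.1.2) := fun _ => Iff.rfl
  let A := {σ : Perm (Fin 5) // σ * b5 = b5 * σ ∧ sign σ = 1}
  let B := {τ : Perm (Fin 5) // τ * t5 = t5 * τ}
  let f : S32 ≃ A × B :=
    { toFun := fun q => (⟨q.1.1.1 * sgn5 q.1.1.2, by
          have : ∀ k : Perm (Fin 5), sgn5 k * b5 = b5 * sgn5 k := fun k => by
            simp only [sgn5]; split
            · simp
            · decide +kernel
          exact (Commute.mul_left (show Commute q.1.1.1 b5 from q.2.1) (this _)).eq, by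
          rw [Perm.sign_mul, sign_sgn5, mem_MM.1 q.1.2, Int.units_mul_self]⟩, ⟨q.1.1.2, q.2.2⟩)
      invFun := fun p => ⟨⟨((p.1 : Perm (Fin 5)) * sgn5 p.2, p.2), mem_MM.2 (by
          rw [Perm.sign_mul, sign_sgn5, p.1.2.2, one_mul])⟩, by
          have : ∀ k : Perm (Fin 5), sgn5 k * b5 = b5 * sgn5 k := fun k => by
            simp only [sgn5]; split
            · simp
            · decide +kernel
          exact (Commute.mul_left (show Commute (p.1 : Perm (Fin 5)) b5 from p.1.2.1) (this _)).eq, p.2.2⟩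
      left_inv := fun q => Subtype.ext (Subtype.ext (Prod.ext (by simp [mul_assoc, sgn5_sq]) rfl))
      right_inv := fun p => Prod.ext (Subtype.ext (by simp [mul_assoc, sgn5_sq])) rfl }
  rw [Nat.card_congr f, Nat.card_prod,
    show Nat.card A = 4 by rw [Nat.card_eq_fintype_card]; decide +kernel,
    show Nat.card B = 8 by rw [Nat.card_eq_fintype_card]; decide +kernel]

theorem not_isConj_a_x : ¬ IsConj d.a (d.b * d.t) := by
  intro h
  have h144 := card_cent_c hb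
  rw [nat_card_cent_conj (d.isConj_c_a.trans h)] at h144
  have hle : S32.map (Φ hb) ≤ Subgroup.centralizer ({d.b * d.t} : Set G) := by
    rintro _ ⟨q, hq, rfl⟩
    refine Subgroup.mem_centralizer_singleton_iff.2 ?_
    rw [← Φ_b hb, ← Φ_t hb, ← map_mul]
    refine ((commute_Φ hb).2 (Subtype.ext (Prod.ext ?_ ?_))).eq
    · show q.1.1 * (b5 * 1) = b5 * 1 * q.1.1
      rw [mul_one]; exact (mem_S32.1 hq).1
    · show q.1.2 * (1 * t5) = 1 * t5 * q.1.2
      rw [one_mul]; exact (mem_S32.1 hq).2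
  have hdvd := Subgroup.card_dvd_of_le hle
  rw [Nat.card_congr (S32.equivMapOfInjective _ (Φ_injective hb)).toEquiv.symm, h144] at hdvd
  have := (thirtytwo_dvd hb).trans hdvd
  norm_num at this

/-- Conjugates of `(0 1)` in the model are conjugate to it there. -/
theorem conj_a_G0 {i : G} (hi : i ∈ G0 hb) (h : IsConj d.a i) : ∃ g ∈ G0 hb, g * d.a * g⁻¹ = i := by
  obtain ⟨k, hk⟩ := isConj_iff.1 h
  have haa : d.a * d.a = 1 := by rw [← map_mul, show aP * aP = 1 by decide +kernel, map_one]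
  have h2 : i * i = 1 := by
    rw [← hk]
    calc k * d.a * k⁻¹ * (k * d.a * k⁻¹) = k * (d.a * d.a) * k⁻¹ := by group
      _ = 1 := by rw [haa, mul_one, mul_inv_cancel]
  have h1 : i ≠ 1 := fun e => d.map_ne_one (by decide +kernel : aP ≠ 1) (conj_eq_one_iff.1 (hk.trans e))
  obtain ⟨g, hg, r, hr, he⟩ := invol_G0 hb hi h2 h1
  have hc : IsConj d.a r := h.trans (isConj_iff.2 ⟨g, he⟩).symm
  simp only [List.mem_cons, List.not_mem_nil, or_false] at hr
  rcases hr with rfl | rfl | rfl | rfl | rfl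
  · exact absurd hc.symm d.not_isConj_t_a
  · exact absurd hc (not_isConj_a_x hb)
  · exact ⟨g, hg, he⟩
  · exact absurd (d.isConj_c_a.trans hc) d.not_isConj_c_j
  · exact absurd (d.isConj_c_a.trans hc) d.not_isConj_c_jc

theorem mem_ct {g : G} (hg : g ∈ G0 hb) (ht : Commute g d.t) :
    ∃ q, g = Φ hb q ∧ q.1.2 * t5 = t5 * q.1.2 := by
  obtain ⟨q, rfl | rfl⟩ := hg
  · rw [← Φ_t hb, commute_Φ hb] at ht
    exact ⟨q, rfl, congrArg (fun r : MM => r.1.2) ht⟩
  · exfalso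
    have e : d.j * Φ hb (q * tM * q⁻¹) * d.j = Φ hb tM := by
      rw [map_mul, map_mul, map_inv, Φ_t hb]
      calc d.j * (Φ hb q * d.t * (Φ hb q)⁻¹) * d.j
          = d.j * Φ hb q * d.t * (d.j * Φ hb q)⁻¹ := by rw [mul_inv_rev, d.j_inv]; group
        _ = d.t := by rw [ht.eq, mul_inv_cancel_right]
    rw [j_Φ] at e
    have h2 := congrArg (fun r : MM => r.1.2) (Φ_injective hb e)
    change q.1.1 * 1 * q.1.1⁻¹ = t5 at h2
    rw [mul_one, mul_inv_cancel] at h2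
    exact absurd h2 (by decide +kernel)

theorem four_conj_t : IsConj d.t d.u ∧ IsConj d.t (d.u * d.t) := by
  refine ⟨d.isConj_of_PP (1, swap 1 2) (by decide +kernel), ?_⟩
  rw [← map_mul]
  exact d.isConj_of_PP (1, swap 1 3) (by decide +kernel)

/-- The stabilizer of the image of `u`. -/
theorem fix_u {g : G} (ht : Commute g d.t) (hu : g * d.u * g⁻¹ = d.u ∨ g * d.u * g⁻¹ = d.u * d.t) :
    g ∈ G0 hb := by
  have hcv : ∀ k ∈ d.CV, k ∈ G0 hb := fun k hk => by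
    obtain ⟨v, -, x, rfl⟩ := cv_split hb (exch hb) k hk
    exact (G0 hb).mul_mem (range_le hb ⟨v, rfl⟩)
      ((G0 hb).mul_mem ((G0 hb).mul_mem (j_mem hb) (range_le hb ⟨_, rfl⟩)) (j_mem hb))
  rcases hu with hu | hu
  · exact hcv g (Pre.mem_CV.2 ⟨ht, mul_inv_eq_iff_eq_mul.1 hu⟩)
  · have hag : d.a * g ∈ d.CV := by
      refine Pre.mem_CV.2 ⟨(d.commute_iff.2 (show aP * tP = tP * aP by decide +kernel)).mul_left ht,
        mul_inv_eq_iff_eq_mul.1 ?_⟩
      rw [show d.a * g * d.u * (d.a * g)⁻¹ = d.a * (g * d.u * g⁻¹) * d.a⁻¹ by group, hu, ← map_mul,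
        d.map_conj]
      exact congrArg d.ψ (by decide +kernel)
    have := (G0 hb).mul_mem ((G0 hb).inv_mem (range_le hb ⟨aP, rfl⟩)) (hcv _ hag)
    rwa [inv_mul_cancel_left] at this

theorem fix_a {g : G} (ht : Commute g d.t) (ha : g * d.a * g⁻¹ = d.a ∨ g * d.a * g⁻¹ = d.a * d.t) :
    g ∈ G0 hb := by
  rcases ha with ha | ha
  · exact cent_a_le hb (mul_inv_eq_iff_eq_mul.1 ha)
  · have hu : Commute (d.u * g) d.a := by
      refine mul_inv_eq_iff_eq_mul.1 ?_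
      rw [show d.u * g * d.a * (d.u * g)⁻¹ = d.u * (g * d.a * g⁻¹) * d.u⁻¹ by group, ha, ← map_mul,
        d.map_conj]
      exact congrArg d.ψ (by decide +kernel)
    have := (G0 hb).mul_mem ((G0 hb).inv_mem (range_le hb ⟨uP, rfl⟩)) (cent_a_le hb hu)
    rwa [inv_mul_cancel_left] at this

/-- The normalizer of the two-subgroup inside the centralizer of `t`. -/
theorem norm_S {n : G} (ht : Commute n d.t) (hn : ∀ s ∈ S32.map (Φ hb), n * s * n⁻¹ ∈ S32.map (Φ hb)) :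
    n ∈ S32.map (Φ hb) := by
  have haS : d.a ∈ S32.map (Φ hb) := ⟨aM, mem_S32.2 (by decide +kernel), Φ_a hb⟩
  obtain ⟨qa, hqa, hqae⟩ := hn _ haS
  obtain ⟨g, hg, hge⟩ := conj_a_G0 hb (i := Φ hb qa) (Φ_mem hb qa) (isConj_iff.2 ⟨n, hqae.symm⟩)
  have hc : Commute (g⁻¹ * n) d.a := by
    refine mul_inv_eq_iff_eq_mul.1 ?_
    rw [show g⁻¹ * n * d.a * (g⁻¹ * n)⁻¹ = g⁻¹ * (n * d.a * n⁻¹) * g by group, ← hqae, ← hge]
    group
  have hn0 : n ∈ G0 hb := by
    have := (G0 hb).mul_mem hg (cent_a_le hb hc)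
    rwa [mul_inv_cancel_left] at this
  obtain ⟨q, rfl, hq2⟩ := mem_ct hb hn0 ht
  refine ⟨q, mem_S32.2 ⟨d8_facts.2.2.1 _ fun y hy => ?_, hq2⟩, rfl⟩
  have hex : ∃ τ : Perm (Fin 5), τ * t5 = t5 * τ ∧ sign τ = sign y := by
    rcases Int.units_eq_one_or (sign y) with e | e
    · exact ⟨1, rfl, by rw [e, map_one]⟩
    · exact ⟨swap 0 1, by decide +kernel, by rw [e]; decide +kernel⟩
  obtain ⟨τ, hτ, hsign⟩ := hex
  obtain ⟨r, hr, hre⟩ := hn _ ⟨⟨(y, τ), mem_MM.2 hsign.symm⟩, mem_S32.2 ⟨hy, hτ⟩, rfl⟩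
  rw [← map_inv, ← map_mul, ← map_mul] at hre
  have := (mem_S32.1 hr).1
  rw [Φ_injective hb hre] at this
  exact this

/-- The centralizer of `t`. -/
abbrev CT (_ : d.j * d.a * d.j = d.ψ (bP * cP)) : Subgroup G :=
  Subgroup.centralizer ({d.t} : Set G)

omit [Finite G] in
theorem mem_CT {g : G} : g ∈ CT hb ↔ Commute g d.t := Subgroup.mem_centralizer_singleton_iff

theorem S_le : S32.map (Φ hb) ≤ CT hb := by
  rintro _ ⟨q, hq, rfl⟩
  rw [mem_CT, ← Φ_t hb, commute_Φ hb]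
  exact Subtype.ext (Prod.ext (by show q.1.1 * 1 = 1 * q.1.1; simp) (mem_S32.1 hq).2)

theorem exists_sylow : ∃ T : Sylow 2 (CT hb), (T : Subgroup (CT hb)) = (S32.map (Φ hb)).subgroupOf (CT hb) := by
  have : Fact (Nat.Prime 2) := ⟨Nat.prime_two⟩
  set S := (S32.map (Φ hb)).subgroupOf (CT hb) with hS
  have hp : IsPGroup 2 S := by
    intro g
    obtain ⟨q, hq, hqe⟩ := Subgroup.mem_subgroupOf.1 g.2
    refine ⟨2, Subtype.ext (Subtype.ext ?_)⟩
    simp only [SubmonoidClass.coe_pow, OneMemClass.coe_one, ← hqe, ← map_pow]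
    rw [show (2 : ℕ) ^ 2 = 4 from rfl, exp4_S32 hb q hq, map_one]
  obtain ⟨T, hT⟩ := hp.exists_le_sylow
  refine ⟨T, ?_⟩
  by_contra hne
  haveI := T.isPGroup'.isNilpotent
  have hlt := Group.normalizerCondition_of_isNilpotent (S.subgroupOf T) (by
    rw [lt_top_iff_ne_top, Ne, Subgroup.subgroupOf_eq_top]
    exact fun h => hne (le_antisymm h hT))
  obtain ⟨n, hn, hnS⟩ := SetLike.exists_of_lt hlt
  apply hnS
  rw [Subgroup.mem_subgroupOf, hS, Subgroup.mem_subgroupOf]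
  refine norm_S hb ((mem_CT hb).1 (n : CT hb).2) fun s hs => ?_
  have := (Subgroup.mem_normalizer_iff.1 hn ⟨⟨s, S_le hb hs⟩, hT (Subgroup.mem_subgroupOf.2 hs)⟩).1
    (Subgroup.mem_subgroupOf.2 (Subgroup.mem_subgroupOf.2 hs))
  rw [Subgroup.mem_subgroupOf, hS, Subgroup.mem_subgroupOf] at this
  simpa only [Subgroup.coe_mul, Subgroup.coe_inv] using this

/-- Only conjugates `u` and `u t` of `u` in `C(t)` normalize `{u, u t}`. -/
theorem u_unique {k : G} (hk : Commute k d.t)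
    (hv : k * d.u * k⁻¹ * d.u * (k * d.u * k⁻¹)⁻¹ = d.u ∨
      k * d.u * k⁻¹ * d.u * (k * d.u * k⁻¹)⁻¹ = d.u * d.t) :
    k * d.u * k⁻¹ = d.u ∨ k * d.u * k⁻¹ = d.u * d.t := by
  classical
  have : Fact (Nat.Prime 2) := ⟨Nat.prime_two⟩
  have htu : Commute d.u d.t := d.commute_iff.2 (by decide +kernel)
  have huu : d.u * d.u = 1 := by rw [← map_mul, show uP * uP = 1 by decide +kernel, map_one]
  set v := k * d.u * k⁻¹ with hvdef
  have hvt : Commute v d.t := (hk.mul_left htu).mul_left hk.inv_left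
  obtain ⟨q, hq, hq2⟩ := mem_ct hb (fix_u hb hvt hv) hvt
  have hq0 : q * q = 1 := Φ_injective hb (by
    rw [map_mul, map_one, ← hq, hvdef]
    calc k * d.u * k⁻¹ * (k * d.u * k⁻¹) = k * (d.u * d.u) * k⁻¹ := by group
      _ = 1 := by rw [huu, mul_one, mul_inv_cancel])
  have hqs : sign q.1.1 = 1 := by
    rcases Int.units_eq_one_or (sign q.1.1) with e | e
    · exact e
    exfalso
    have hs2 : sign q.1.2 = -1 := (mem_MM.1 q.2).symm.trans e
    obtain ⟨-, clo, -, ⟨ga, hga, hga'⟩⟩ := five_classes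
    obtain ⟨x, hx, hx'⟩ := clo _ (congrArg (fun r : MM => r.1.1) hq0) e
    obtain ⟨y, hy, hy'⟩ := clo _ (congrArg (fun r : MM => r.1.2) hq0) hs2
    let h : MM := ⟨(x, y * ga⁻¹), mem_MM.2 (by rw [Perm.sign_mul, Perm.sign_inv, hx, hga, hy]; rfl)⟩
    have e2 : h * aM * h⁻¹ = q := Subtype.ext (Prod.ext hx' (by
      show y * ga⁻¹ * swap 0 1 * (y * ga⁻¹)⁻¹ = q.1.2
      rw [← hy', ← hga']; group))
    refine d.not_isConj_t_a ((four_conj_t hb).1.trans ?_)
    refine (isConj_iff.2 ⟨k, hvdef.symm⟩).trans (isConj_iff.2 ⟨(Φ hb h)⁻¹, ?_⟩)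
    rw [hq, ← e2, inv_inv, map_mul, map_mul, map_inv, Φ_a hb]; group
  have hs2 : sign q.1.2 = 1 := (mem_MM.1 q.2).symm.trans hqs
  have h2cases := d8_facts.2.2.2.1 _ hq2 (congrArg (fun r : MM => r.1.2) hq0) hs2
  by_cases h1 : q.1.1 = 1
  · rcases h2cases with e | e | e | e
    · exfalso
      rw [show q = 1 from Subtype.ext (Prod.ext h1 e), map_one, hvdef, conj_eq_one_iff] at hq
      exact d.map_ne_one (by decide +kernel : uP ≠ 1) hq
    · exfalso
      have hvt' : k * d.u * k⁻¹ = d.t := by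
        rw [← hvdef, hq, show q = tM from Subtype.ext (Prod.ext h1 e), Φ_t hb]
      have : d.u = d.t := by
        calc d.u = k⁻¹ * (k * d.u * k⁻¹) * k := by group
          _ = k⁻¹ * d.t * k := by rw [hvt']
          _ = d.t := by rw [mul_assoc, hk.symm.eq, inv_mul_cancel_left]
      exact absurd (d.inj this) (by decide +kernel)
    · exact Or.inl (by rw [hq, show q = uM from Subtype.ext (Prod.ext h1 e), Φ_u hb])
    · refine Or.inr ?_
      rw [hq, show q = uM * tM from Subtype.ext (Prod.ext (by rw [h1]; rfl) e), map_mul, Φ_u hb, Φ_t hb]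
  exfalso
  obtain ⟨cls, -, ⟨gb, hgb, hgb'⟩, -⟩ := five_classes
  obtain ⟨x, hx, hx'⟩ := cls _ (congrArg (fun r : MM => r.1.1) hq0) h1 hqs
  let e : MM := ⟨(gb * x⁻¹, 1), mem_MM.2 (by rw [Perm.sign_mul, Perm.sign_inv, hgb, hx, map_one]; rfl)⟩
  let q' : MM := ⟨(b5, q.1.2), mem_MM.2 (by rw [hs2]; exact (by decide +kernel : sign b5 = 1))⟩
  have heq : e * q * e⁻¹ = q' := Subtype.ext (Prod.ext (by
    show gb * x⁻¹ * q.1.1 * (gb * x⁻¹)⁻¹ = b5
    rw [← hx', ← hgb']; group) (by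
    show 1 * q.1.2 * 1⁻¹ = q.1.2
    simp))
  have het : Commute (Φ hb e) d.t := by
    rw [← Φ_t hb, commute_Φ hb]
    exact Subtype.ext (Prod.ext (by show gb * x⁻¹ * 1 = 1 * (gb * x⁻¹); simp) (by show 1 * t5 = t5 * 1; simp))
  set k' := Φ hb e * k with hk'
  have hk't : Commute k' d.t := het.mul_left hk
  have hk'u : k' * d.u * k'⁻¹ = Φ hb q' := by
    rw [← heq, map_mul, map_mul, map_inv, ← hq, hk', hvdef]; group
  -- Sylow subgroups of the stabilizer
  obtain ⟨T, hT⟩ := exists_sylow hb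
  have hTmem : ∀ g : CT hb, g ∈ (T : Subgroup (CT hb)) ↔ (g : G) ∈ S32.map (Φ hb) := fun g => by
    rw [hT, Subgroup.mem_subgroupOf]
  let F : G → Prop := fun g => g * Φ hb q' * g⁻¹ = Φ hb q' ∨ g * Φ hb q' * g⁻¹ = Φ hb q' * d.t
  have hFmul : ∀ g h : G, Commute g d.t → F g → F h → F (g * h) := by
    intro g h hgt hg hh
    show g * h * Φ hb q' * (g * h)⁻¹ = _ ∨ g * h * Φ hb q' * (g * h)⁻¹ = _
    rw [show g * h * Φ hb q' * (g * h)⁻¹ = g * (h * Φ hb q' * h⁻¹) * g⁻¹ by group]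
    rcases hh with e | e <;> rw [e]
    · exact hg
    rw [show g * (Φ hb q' * d.t) * g⁻¹ = g * Φ hb q' * g⁻¹ * (g * d.t * g⁻¹) by group,
      hgt.eq, mul_inv_cancel_right]
    rcases hg with e' | e' <;> rw [e']
    · exact Or.inr rfl
    · exact Or.inl (by rw [mul_assoc, t_sq hb, mul_one])
  let K : Subgroup (CT hb) :=
    { carrier := {g | F g}
      one_mem' := Or.inl (by simp)
      mul_mem' := fun {g h} hg hh => hFmul g h ((mem_CT hb).1 g.2) hg hh
      inv_mem' := fun {g} hg => by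
        show (g : G)⁻¹ * Φ hb q' * (g : G)⁻¹⁻¹ = _ ∨ (g : G)⁻¹ * Φ hb q' * (g : G)⁻¹⁻¹ = _
        have hgt := (mem_CT hb).1 g.2
        rcases hg with e | e
        · refine Or.inl ?_
          conv_lhs => rw [← e]
          group
        · refine Or.inr ?_
          have e2 : Φ hb q' = (g : G) * Φ hb q' * (g : G)⁻¹ * d.t := by
            rw [e, mul_assoc, t_sq hb, mul_one]
          calc (g : G)⁻¹ * Φ hb q' * (g : G)⁻¹⁻¹
              = (g : G)⁻¹ * ((g : G) * Φ hb q' * (g : G)⁻¹ * d.t) * (g : G) := by rw [← e2, inv_inv]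
            _ = Φ hb q' * ((g : G)⁻¹ * d.t * (g : G)) := by group
            _ = Φ hb q' * d.t := by rw [mul_assoc (g : G)⁻¹, hgt.symm.eq, inv_mul_cancel_left] }
  have hSu : ∀ r ∈ S32, Φ hb r * d.u * (Φ hb r)⁻¹ = d.u ∨ Φ hb r * d.u * (Φ hb r)⁻¹ = d.u * d.t := by
    intro r hr
    rw [← Φ_u hb, ← Φ_t hb, ← map_inv, ← map_mul, ← map_mul, ← map_mul]
    refine (d8_facts.2.2.2.2 _ (mem_S32.1 hr).2).imp ?_ ?_ <;> intro h <;>
      refine congrArg _ (Subtype.ext (Prod.ext ?_ h))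
    · show r.1.1 * 1 * r.1.1⁻¹ = 1; simp
    · show r.1.1 * 1 * r.1.1⁻¹ = 1 * 1; simp
  have hSK : (T : Subgroup (CT hb)) ≤ K := by
    intro g hg
    obtain ⟨r, hr, hre⟩ := (hTmem g).1 hg
    show F g
    have hb2 : r.1.1 * b5 * r.1.1⁻¹ = b5 := by rw [(mem_S32.1 hr).1, mul_inv_cancel_right]
    have hq'2 : ∀ a : Perm (Fin 5), (a = 1 ∨ a = t5 ∨ a = swap 0 2 * swap 1 3 ∨ a = swap 0 2 * swap 1 3 * t5) →
        r.1.2 * a * r.1.2⁻¹ = a ∨ r.1.2 * a * r.1.2⁻¹ = a * t5 := by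
      have key : ∀ τ : Perm (Fin 5), τ * t5 = t5 * τ →
          ∀ a ∈ [1, t5, swap (0 : Fin 5) 2 * swap 1 3, swap 0 2 * swap 1 3 * t5],
            τ * a * τ⁻¹ = a ∨ τ * a * τ⁻¹ = a * t5 := by decide +kernel
      intro a ha
      exact key _ (mem_S32.1 hr).2 a (by rcases ha with rfl | rfl | rfl | rfl <;> simp)
    show (g : G) * Φ hb q' * (g : G)⁻¹ = _ ∨ (g : G) * Φ hb q' * (g : G)⁻¹ = _
    rw [← hre, ← Φ_t hb, ← map_inv, ← map_mul, ← map_mul, ← map_mul]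
    refine (hq'2 q.1.2 h2cases).imp ?_ ?_ <;> intro h <;>
      refine congrArg _ (Subtype.ext (Prod.ext ?_ h))
    · exact hb2
    · show r.1.1 * b5 * r.1.1⁻¹ = b5 * 1
      rw [mul_one]; exact hb2
  let kc : CT hb := ⟨k', (mem_CT hb).2 hk't⟩
  have hSK' : ((kc • T : Sylow 2 (CT hb)) : Subgroup (CT hb)) ≤ K := by
    intro g hg
    rw [Sylow.coe_subgroup_smul] at hg
    obtain ⟨s, hs, rfl⟩ := hg
    show F ((MulAut.conj kc s : CT hb) : G)
    obtain ⟨r, hr, hre⟩ := (hTmem s).1 hs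
    have hs' := hre ▸ hSu r hr
    show (k' * (s : G) * k'⁻¹) * Φ hb q' * (k' * (s : G) * k'⁻¹)⁻¹ = _ ∨
      (k' * (s : G) * k'⁻¹) * Φ hb q' * (k' * (s : G) * k'⁻¹)⁻¹ = _
    rw [← hk'u, show k' * (s : G) * k'⁻¹ * (k' * d.u * k'⁻¹) * (k' * (s : G) * k'⁻¹)⁻¹
      = k' * ((s : G) * d.u * (s : G)⁻¹) * k'⁻¹ by group]
    rcases hs' with e | e <;> rw [e]
    · exact Or.inl rfl
    · refine Or.inr ?_
      calc k' * (d.u * d.t) * k'⁻¹ = k' * d.u * k'⁻¹ * (k' * d.t * k'⁻¹) := by group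
        _ = _ := by rw [hk't.eq, mul_inv_cancel_right]
  obtain ⟨m, hm⟩ := MulAction.exists_smul_eq K ((kc • T).subtype hSK') (T.subtype hSK)
  let n : CT hb := (m : CT hb) * kc
  have hTT : ((m : CT hb) • (kc • T) : Sylow 2 (CT hb)) = T := by
    refine Sylow.ext ?_
    have h := congrArg (fun P : Sylow 2 K => (P : Subgroup K).map K.subtype) hm
    simp only [Sylow.coe_subgroup_smul, Sylow.coe_subtype] at h
    rw [Subgroup.map_subgroupOf_eq_of_le hSK] at h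
    rw [Sylow.coe_subgroup_smul, ← h]
    ext y
    constructor
    · rintro ⟨s, hs, rfl⟩
      exact ⟨MulAut.conj m ⟨s, hSK' hs⟩, ⟨⟨s, hSK' hs⟩, hs, rfl⟩, rfl⟩
    · rintro ⟨_, ⟨s, hs, rfl⟩, rfl⟩
      exact ⟨s, hs, rfl⟩
  have hnS : (n : G) ∈ S32.map (Φ hb) := by
    refine norm_S hb ((mem_CT hb).1 n.2) fun s hs => ?_
    have hsT : (⟨s, S_le hb hs⟩ : CT hb) ∈ (T : Subgroup (CT hb)) := (hTmem _).2 hs
    have : n * ⟨s, S_le hb hs⟩ * n⁻¹ ∈ ((n • T : Sylow 2 (CT hb)) : Subgroup (CT hb)) := by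
      rw [Sylow.coe_subgroup_smul]; exact ⟨_, hsT, rfl⟩
    rw [show n • T = T by rw [mul_smul, hTT]] at this
    exact (hTmem _).1 this
  obtain ⟨r, hr, hre⟩ := hnS
  have hFm : (m : G) * Φ hb q' * (m : G)⁻¹ = Φ hb q' ∨ (m : G) * Φ hb q' * (m : G)⁻¹ = Φ hb q' * d.t := m.2
  have hne : ∀ w : G, (w = d.u ∨ w = d.u * d.t) → w ≠ Φ hb q' ∧ w ≠ Φ hb q' * d.t := by
    intro w hw
    have hfst : ∀ p : MM, p.1.1 = b5 → w ≠ Φ hb p := by
      intro p hp e
      have h' : ∃ p₀ : MM, p₀.1.1 = 1 ∧ w = Φ hb p₀ := by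
        rcases hw with rfl | rfl
        · exact ⟨uM, rfl, (Φ_u hb).symm⟩
        · exact ⟨uM * tM, by show (1 : Perm (Fin 5)) * 1 = 1; simp, by rw [map_mul, Φ_u hb, Φ_t hb]⟩
      obtain ⟨p₀, hp₀, e₀⟩ := h'
      rw [← Φ_injective hb (e₀.symm.trans e), hp₀] at hp
      exact absurd hp (by decide +kernel)
    refine ⟨hfst q' rfl, ?_⟩
    rw [← Φ_t hb, ← map_mul]
    exact hfst _ (by show b5 * 1 = b5; simp)
  obtain ⟨h1', h2'⟩ := hne _ (hre ▸ hSu r hr)
  rcases hFm with e | e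
  · refine h1' ?_
    show (m : G) * k' * d.u * ((m : G) * k')⁻¹ = _
    rw [show (m : G) * k' * d.u * ((m : G) * k')⁻¹ = (m : G) * (k' * d.u * k'⁻¹) * (m : G)⁻¹ by group, hk'u, e]
  · refine h2' ?_
    show (m : G) * k' * d.u * ((m : G) * k')⁻¹ = _
    rw [show (m : G) * k' * d.u * ((m : G) * k')⁻¹ = (m : G) * (k' * d.u * k'⁻¹) * (m : G)⁻¹ by group, hk'u, e]

end Cfg

end Cfsg.Agent.SymEightThree
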