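/-
The centralizer of `(0 1)(2 3)` lies in the model.
-/
import Cfsg.Agent.Lib.SymEightThree.CentT

set_option autoImplicit false
set_option maxRecDepth 100000
set_option synthInstance.maxSize 4000
set_option synthInstance.maxHeartbeats 400000
set_option linter.unusedSectionVars false

namespace Cfsg.Agent.SymEightThree

open Equiv Equiv.Perm

theorem eq_or_of_mem_zpowers {H : Type*} [Group H] {x g : H} (hx : x * x = 1)
    (h : g ∈ Subgroup.zpowers x) : g = 1 ∨ g = x := by
  obtain ⟨k, rfl⟩ := Subgroup.mem_zpowers_iff.1 h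
  have h2 : x ^ (2 : ℤ) = 1 := by rw [zpow_two, hx]
  rw [← Int.emod_add_mul_ediv k 2, zpow_add, zpow_mul, h2, one_zpow, mul_one]
  rcases Int.emod_two_eq k with e | e <;> rw [e]
  · exact Or.inl (zpow_zero x)
  · exact Or.inr (zpow_one x)

theorem zpowers_normal_of_central {H : Type*} [Group H] {x : H} (hx : ∀ g, Commute g x) :
    (Subgroup.zpowers x).Normal := by
  refine ⟨fun n hn g => ?_⟩
  obtain ⟨k, rfl⟩ := hn
  show g * x ^ k * g⁻¹ ∈ _
  rw [((hx g).zpow_right k).eq, mul_inv_cancel_right]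
  exact ⟨k, rfl⟩

namespace Cfg

variable {G : Type*} [Group G] [Finite G] {d : Cfg G} (hb : d.j * d.a * d.j = d.ψ (bP * cP))
include hb

set_option maxHeartbeats 1000000 in
theorem cent_t_le {g₀ : G} (hg₀ : Commute g₀ d.t) : g₀ ∈ G0 hb := by
  classical
  have htt := t_sq hb
  let tC : CT hb := ⟨d.t, (mem_CT hb).2 (Commute.refl _)⟩
  have hnorm := zpowers_normal_of_central (x := tC) fun g => Subtype.ext ((mem_CT hb).1 g.2)
  let π := QuotientGroup.mk' (Subgroup.zpowers tC)
  have hπs : Function.Surjective π := QuotientGroup.mk'_surjective _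
  have hπeq : ∀ x y : CT hb, π x = π y ↔ (x : G) = y ∨ (x : G) = y * d.t := by
    intro x y
    rw [← inv_mul_eq_one (a := π x), ← map_inv, ← map_mul, QuotientGroup.mk'_apply, QuotientGroup.eq_one_iff]
    constructor
    · intro h
      rcases eq_or_of_mem_zpowers (Subtype.ext htt : tC * tC = 1) h with h | h
      · exact Or.inl (congrArg Subtype.val (inv_mul_eq_one.1 h))
      · refine Or.inr ?_
        have h' : y = x * tC := inv_mul_eq_iff_eq_mul.1 h
        rw [h', Subgroup.coe_mul, mul_assoc]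
        exact (by rw [show (tC : G) = d.t from rfl, htt, mul_one])
    · rintro (h | h)
      · rw [show x = y from Subtype.ext h, inv_mul_cancel]; exact one_mem _
      · refine (show x⁻¹ * y = tC from ?_) ▸ Subgroup.mem_zpowers tC
        refine inv_mul_eq_iff_eq_mul.2 (Subtype.ext ?_)
        rw [Subgroup.coe_mul, h, mul_assoc, show (tC : G) = d.t from rfl, htt, mul_one]
  have hut : Commute d.u d.t := d.commute_iff.2 (by decide +kernel)
  have hat : Commute d.a d.t := d.commute_iff.2 (by decide +kernel)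
  have huu : d.u * d.u = 1 := by rw [← map_mul, show uP * uP = 1 by decide +kernel, map_one]
  have haa : d.a * d.a = 1 := by rw [← map_mul, show aP * aP = 1 by decide +kernel, map_one]
  let uC : CT hb := ⟨d.u, (mem_CT hb).2 hut⟩
  let aC : CT hb := ⟨d.a, (mem_CT hb).2 hat⟩
  set ub := π uC with hub
  set ab := π aC with hab
  have hub2 : ub * ub = 1 := by
    rw [hub, ← map_mul, ← map_one π]; exact congrArg π (Subtype.ext huu)
  have hub1 : ub ≠ 1 := by
    rw [hub, ← map_one π]
    intro h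
    rcases (hπeq _ _).1 h with h | h
    · exact d.map_ne_one (by decide +kernel : uP ≠ 1) h
    · rw [show ((1 : CT hb) : G) = 1 from rfl, one_mul] at h
      exact absurd (d.inj h) (by decide +kernel)
  have hconj : ∀ k x : CT hb, π k * π x * (π k)⁻¹ = π x ↔
      (k : G) * x * (k : G)⁻¹ = x ∨ (k : G) * x * (k : G)⁻¹ = x * d.t := by
    intro k x
    rw [← map_inv, ← map_mul, ← map_mul, hπeq]
    simp only [Subgroup.coe_mul, Subgroup.coe_inv]
  have hiso : Cfsg.IsIsolated ub := by
    intro g hg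
    obtain ⟨k, rfl⟩ := hπs g
    have he : π k * ub * (π k)⁻¹ = π (k * uC * k⁻¹) := by rw [map_mul, map_mul, map_inv]
    rw [he] at hg ⊢
    have h1 : π (k * uC * k⁻¹) * ub * (π (k * uC * k⁻¹))⁻¹ = ub := by
      rw [← hg.eq, mul_inv_cancel_right]
    have h2 := (hconj _ _).1 h1
    simp only [Subgroup.coe_mul, Subgroup.coe_inv] at h2
    refine (hπeq _ _).2 ?_
    simp only [Subgroup.coe_mul, Subgroup.coe_inv]
    exact u_unique hb ((mem_CT hb).1 k.2) h2
  set O := core (CT hb ⧸ Subgroup.zpowers tC) with hO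
  haveI : O.Normal := Cores.pPrimeCore_normal 2 _
  -- the alternating group of the first coordinate
  let ι : alternatingGroup (Fin 5) →* MM :=
    { toFun := fun x => ⟨((x : Perm (Fin 5)), 1), mem_MM.2 (by
        rw [mem_alternatingGroup.1 x.2, map_one])⟩
      map_one' := rfl
      map_mul' := fun x y => Subtype.ext (Prod.ext rfl (one_mul _).symm) }
  let f : alternatingGroup (Fin 5) →* CT hb := ((Φ hb).comp ι).codRestrict _ fun x => by
    rw [mem_CT, ← Φ_t hb]
    exact (commute_Φ hb).2 (Subtype.ext (Prod.ext (by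
      show (x : Perm (Fin 5)) * 1 = 1 * x
      simp) (by show 1 * t5 = t5 * 1; simp)))
  have hf : ∀ x, ((f x : CT hb) : G) = Φ hb (ι x) := fun _ => rfl
  have hsimple : IsSimpleGroup (alternatingGroup (Fin 5)) := alternatingGroup.isSimpleGroup (by simp)
  have hN1 : O.comap (π.comp f) = ⊥ := by
    refine (hsimple.eq_bot_or_eq_top_of_normal _ inferInstance).resolve_right fun htop => ?_
    let b : alternatingGroup (Fin 5) := ⟨b5, mem_alternatingGroup.2 (by decide +kernel)⟩
    have hm : b ∈ O.comap (π.comp f) := htop ▸ Subgroup.mem_top _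
    have hb2 : b ^ 2 ^ 1 = 1 := by
      rw [pow_one, pow_two]; exact Subtype.ext (show b5 * b5 = 1 by decide +kernel)
    have h := core_pow_eq_one (Subgroup.mem_comap.1 hm) (n := 1) (by rw [← map_pow, hb2, map_one])
    rw [MonoidHom.comp_apply, ← map_one π] at h
    rcases (hπeq _ _).1 h with h | h
    · rw [hf, OneMemClass.coe_one, ← map_one (Φ hb)] at h
      exact absurd (congrArg (fun r : MM => r.1.1) (Φ_injective hb h)) (by decide +kernel)
    · rw [hf, OneMemClass.coe_one, one_mul, ← Φ_t hb] at h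
      exact absurd (congrArg (fun r : MM => r.1.1) (Φ_injective hb h)) (by decide +kernel)
  have core_trivial : ∀ k : CT hb, π k ∈ O → (k : G) ∈ G0 hb → π k = 1 := by
    intro k hk hk0
    obtain ⟨q, hq, hq2⟩ := mem_ct hb hk0 ((mem_CT hb).1 k.2)
    refine core_pow_eq_one hk (n := 2) ?_
    have h4 : q.1.2 ^ 4 = 1 := d8_facts.2.1 _ hq2
    have hs : sign (q ^ 4).1.1 = 1 := by
      rw [mem_MM.1 (q ^ 4).2, show (q ^ 4).1.2 = q.1.2 ^ 4 from rfl, h4, map_one]
    let x : alternatingGroup (Fin 5) := ⟨(q ^ 4).1.1, mem_alternatingGroup.2 hs⟩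
    have hfx : f x = k ^ 4 := Subtype.ext (by
      rw [hf, SubmonoidClass.coe_pow, hq, ← map_pow]
      exact congrArg _ (Subtype.ext (Prod.ext rfl h4.symm)))
    have hm : x ∈ O.comap (π.comp f) := by
      rw [Subgroup.mem_comap, MonoidHom.comp_apply, hfx, map_pow]
      exact O.pow_mem hk 4
    rw [hN1, Subgroup.mem_bot] at hm
    rw [show (2 : ℕ) ^ 2 = 4 from rfl, ← map_pow, ← hfx, hm, map_one, map_one]
  have hfix : ∀ (x : CT hb), (∀ k : CT hb, (k : G) * x * (k : G)⁻¹ = x ∨ (k : G) * x * (k : G)⁻¹ = x * d.t →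
      (k : G) ∈ G0 hb) → ∀ o ∈ O, Commute o (π x) → o = 1 := by
    intro x hx o ho hc
    obtain ⟨k, rfl⟩ := hπs o
    exact core_trivial k ho (hx k ((hconj k x).1 (by rw [hc.eq, mul_inv_cancel_right])))
  have hu_inv : ∀ o ∈ O, ub * o * ub⁻¹ = o⁻¹ := fun o ho => core_inverted hub2
    (hfix uC fun k hk => fix_u hb ((mem_CT hb).1 k.2) hk) ho
  have ha_inv : ∀ o ∈ O, ab * o * ab⁻¹ = o⁻¹ := fun o ho => core_inverted
    (by rw [← map_mul, ← map_one π]; exact congrArg π (Subtype.ext haa))
    (hfix aC fun k hk => fix_a hb ((mem_CT hb).1 k.2) hk) ho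
  let N2 : Subgroup (alternatingGroup (Fin 5)) :=
    (Subgroup.centralizer (O : Set (CT hb ⧸ Subgroup.zpowers tC))).comap (π.comp f)
  have hN2 : N2 = ⊤ := by
    refine (hsimple.eq_bot_or_eq_top_of_normal N2 inferInstance).resolve_left fun hbot => ?_
    let e : alternatingGroup (Fin 5) :=
      ⟨swap 2 4 * swap 2 3, mem_alternatingGroup.2 (by decide +kernel)⟩
    let y : alternatingGroup (Fin 5) :=
      ⟨c5 * (e : Perm (Fin 5)) * c5 * (e : Perm (Fin 5))⁻¹, mem_alternatingGroup.2 (by decide +kernel)⟩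
    have hy : y ∈ N2 := by
      rw [Subgroup.mem_comap, Subgroup.mem_centralizer_iff]
      intro o ho
      set E := π (f e)
      have hEy : π.comp f y = ab * (E * ab⁻¹ * E⁻¹) := by
        rw [MonoidHom.comp_apply, hab, ← map_inv, ← map_inv, ← map_mul, ← map_mul, ← map_mul]
        refine congrArg π (Subtype.ext ?_)
        simp only [Subgroup.coe_mul, Subgroup.coe_inv, hf]
        rw [show (aC : G) = Φ hb aM from (Φ_a hb).symm, ← map_inv, ← map_inv, ← map_mul, ← map_mul,
          ← map_mul]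
        exact congrArg _ (Subtype.ext (by decide +kernel))
      rw [hEy]
      have hai : ∀ o ∈ O, ab⁻¹ * o * ab = o⁻¹ := fun o ho => by
        have := ha_inv o⁻¹ (O.inv_mem ho)
        rw [inv_inv] at this
        calc ab⁻¹ * o * ab = ab⁻¹ * (ab * o⁻¹ * ab⁻¹) * ab := by rw [this]
          _ = o⁻¹ := by group
      have hEo : E⁻¹ * o * E ∈ O := by
        simpa using Subgroup.Normal.conj_mem inferInstance o ho E⁻¹
      have hcc : ab * (E * ab⁻¹ * E⁻¹) * o * (ab * (E * ab⁻¹ * E⁻¹))⁻¹ = o := by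
        calc _ = ab * (E * (ab⁻¹ * (E⁻¹ * o * E) * ab) * E⁻¹) * ab⁻¹ := by group
          _ = ab * o⁻¹ * ab⁻¹ := by rw [hai _ hEo]; group
          _ = o := by rw [ha_inv _ (O.inv_mem ho), inv_inv]
      exact (mul_inv_eq_iff_eq_mul.1 hcc).symm
    rw [hbot, Subgroup.mem_bot] at hy
    exact absurd (congrArg Subtype.val hy) (by decide +kernel)
  have hO1 : ∀ o ∈ O, o = 1 := by
    intro o ho
    obtain ⟨k, rfl⟩ := hπs o
    let w5 : alternatingGroup (Fin 5) :=
      ⟨swap 0 2 * swap 0 1, mem_alternatingGroup.2 (by decide +kernel)⟩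
    have hw : w5 ∈ N2 := hN2 ▸ Subgroup.mem_top _
    have hc : π k * π (f w5) * (π k)⁻¹ = π (f w5) := by
      exact mul_inv_eq_iff_eq_mul.2 (hw (π k) ho)
    have hzw : ((f w5 : CT hb) : G) = d.z := by rw [hf, ← Φ_z hb]; rfl
    have hh := (hconj k (f w5)).1 hc
    rw [hzw] at hh
    refine core_trivial k ho (range_le hb (d.mem_range _ (Or.inl ?_)))
    rcases hh with h | h
    · exact h
    exfalso
    have h3 := congrArg (· ^ 3) h
    have hzt : Commute d.z d.t := d.commute_iff.2 (by decide +kernel)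
    simp only [conj_pow, hzt.mul_pow, d.z_cube, mul_one, one_mul, mul_inv_cancel] at h3
    rw [pow_succ, pow_two, htt, one_mul] at h3
    exact d.map_ne_one (by decide +kernel : tP ≠ 1) h3.symm
  obtain ⟨o, ho, y, hy, hg⟩ := exists_factor (orderOf_eq_prime (by rw [pow_two, hub2]) hub1) hiso
    (π ⟨g₀, (mem_CT hb).2 hg₀⟩)
  have hc : π ⟨g₀, (mem_CT hb).2 hg₀⟩ * ub * (π ⟨g₀, (mem_CT hb).2 hg₀⟩)⁻¹ = ub := by
    rw [hg, hO1 o ho, one_mul, hy.eq, mul_inv_cancel_right]
  exact fix_u hb hg₀ ((hconj _ uC).1 hc)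

end Cfg

end Cfsg.Agent.SymEightThree
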