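/-
The centralizer of `(0 1)(2 3)(5 6)` lies in the model.
-/
import Cfsg.Agent.Lib.SymEightThree.CentTCore

set_option autoImplicit false
set_option maxRecDepth 100000
set_option synthInstance.maxSize 4000
set_option synthInstance.maxHeartbeats 400000
set_option linter.unusedSectionVars false

namespace Cfsg.Agent.SymEightThree

open Equiv Equiv.Perm

/-- The element `((3 4), (0 2 1 3))`, whose square is `tM`. -/
def rM : MM := ⟨(c5, swap 0 2 * swap 1 3 * swap 0 1), by decide +kernel⟩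

/-- The element whose product with `j` exchanges `bM` and `tM`. -/
def gM : MM := ⟨(gP.2⁻¹, gP.2), by decide +kernel⟩

theorem x_facts : rM * rM = tM ∧ rM * (bM * tM) = bM * tM * rM ∧ rM * tM = tM * rM ∧
    gM * ⟨(1, b5), by decide +kernel⟩ * gM⁻¹ = tM ∧ gM * ⟨(t5, 1), by decide +kernel⟩ * gM⁻¹ = bM ∧
    (∀ τ : Perm (Fin 5), τ * t5 = t5 * τ → τ * τ = 1 ∨ τ * τ = t5) ∧ bM * tM = tM * bM ∧
    aM * tM = sM ∧ uM * aM * uM⁻¹ = sM ∧ uM * (bM * tM) = bM * tM * uM ∧ aM * (bM * tM) = bM * tM * aM := by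
  decide +kernel

namespace Cfg

variable {G : Type*} [Group G] [Finite G] {d : Cfg G} (hb : d.j * d.a * d.j = d.ψ (bP * cP))
include hb

theorem Φ_x : Φ hb (bM * tM) = d.b * d.t := by rw [map_mul, Φ_b, Φ_t]

/-- The element exchanging `b` and `t`. -/
theorem exists_J : ∃ J ∈ G0 hb, J * d.b * J⁻¹ = d.t ∧ J * d.t * J⁻¹ = d.b := by
  obtain ⟨-, -, -, h1, h2, -⟩ := x_facts
  refine ⟨Φ hb gM * d.j, (G0 hb).mul_mem (Φ_mem hb _) (j_mem hb), ?_, ?_⟩
  · rw [← Φ_b hb, ← Φ_t hb, mul_inv_rev, d.j_inv, ← h1, map_mul, map_mul, map_inv,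
      ← j_swap hb (p := bM) (q := ⟨(1, b5), by decide +kernel⟩) rfl]
    group
  · rw [← Φ_b hb, ← Φ_t hb, mul_inv_rev, d.j_inv, ← h2, map_mul, map_mul, map_inv,
      ← j_swap hb (p := tM) (q := ⟨(t5, 1), by decide +kernel⟩) rfl]
    group

theorem not_isConj_t_x : ¬ IsConj d.t (d.b * d.t) := by
  intro hconj
  obtain ⟨h, hh⟩ := isConj_iff.1 hconj.symm
  obtain ⟨J, -, hJb, hJt⟩ := exists_J hb
  obtain ⟨r1, r2, r3, -, -, sq, bt, -⟩ := x_facts
  have htt := t_sq hb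
  have hbt : Commute d.b d.t := by rw [← Φ_b hb, ← Φ_t hb]; exact (commute_Φ hb).2 bt
  set y := h * d.t * h⁻¹ with hy
  set k := h * J * h⁻¹ with hk
  have hxt : Commute (d.b * d.t) d.t := hbt.mul_left (Commute.refl _)
  have hyt : Commute y d.t := by
    have := commute_conj hxt.symm h
    rwa [hh] at this
  have hJx : Commute J (d.b * d.t) := by
    refine mul_inv_eq_iff_eq_mul.1 ?_
    rw [show J * (d.b * d.t) * J⁻¹ = J * d.b * J⁻¹ * (J * d.t * J⁻¹) by group, hJb, hJt, hbt.eq]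
  have hkt : Commute k d.t := by rw [hk, ← hh]; exact commute_conj hJx h
  set w := h * Φ hb rM * h⁻¹ with hw
  have hwt : Commute w d.t := by
    rw [hw, ← hh, ← Φ_x hb]; exact commute_conj ((commute_Φ hb).2 r2) h
  have hwy : w * w = y := by
    rw [hw, hy, ← Φ_t hb, ← r1, map_mul]; group
  have hky : k * y * k⁻¹ = y * d.t := by
    have hb' : d.b = d.t * (d.b * d.t) := by rw [← mul_assoc, ← hbt.eq, mul_assoc, htt, mul_one]
    calc k * y * k⁻¹ = h * (J * d.t * J⁻¹) * h⁻¹ := by rw [hk, hy]; group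
      _ = h * d.t * h⁻¹ * (h * (d.b * d.t) * h⁻¹) := by rw [hJt]; nth_rewrite 1 [hb']; group
      _ = y * d.t := by rw [hh]
  obtain ⟨q, hq, -⟩ := mem_ct hb (cent_t_le hb hwt) hwt
  obtain ⟨p, hp, hp2⟩ := mem_ct hb (cent_t_le hb hkt) hkt
  have hq2 : q.1.2 * t5 = t5 * q.1.2 := by
    rw [hq, ← Φ_t hb, commute_Φ hb] at hwt
    exact congrArg (fun r : MM => r.1.2) hwt
  rw [← hwy, hq, hp, ← Φ_t hb, ← map_inv, ← map_mul, ← map_mul, ← map_mul, ← map_mul] at hky
  have e : p.1.2 * (q.1.2 * q.1.2) * p.1.2⁻¹ = q.1.2 * q.1.2 * t5 :=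
    congrArg (fun r : MM => r.1.2) (Φ_injective hb hky)
  rcases sq _ hq2 with e' | e' <;> rw [e'] at e
  · rw [mul_one, mul_inv_cancel, one_mul] at e
    exact absurd e (by decide +kernel)
  · rw [hp2, mul_inv_cancel_right] at e
    exact absurd e (by decide +kernel)

/-- Conjugates of `t` in the model. -/
theorem conj_t_G0 {i : G} (hi : i ∈ G0 hb) (h : IsConj d.t i) :
    ∃ q, i = Φ hb q ∧ (q.1.1 = 1 ∧ sign q.1.2 = 1 ∨ q.1.2 = 1 ∧ sign q.1.1 = 1) := by
  obtain ⟨k, hk⟩ := isConj_iff.1 h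
  have h2 : i * i = 1 := by
    rw [← hk]
    calc k * d.t * k⁻¹ * (k * d.t * k⁻¹) = k * (d.t * d.t) * k⁻¹ := by group
      _ = 1 := by rw [t_sq hb, mul_one, mul_inv_cancel]
  have h1 : i ≠ 1 := fun e => d.map_ne_one (by decide +kernel : tP ≠ 1) (conj_eq_one_iff.1 (hk.trans e))
  obtain ⟨g, hg, r, hr, he⟩ := invol_G0 hb hi h2 h1
  have hc : IsConj d.t r := h.trans (isConj_iff.2 ⟨g, he⟩).symm
  simp only [List.mem_cons, List.not_mem_nil, or_false] at hr
  rcases hr with rfl | rfl | rfl | rfl | rfl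
  · have ht1 : sign (tM : MM).1.2 = 1 := by decide +kernel
    obtain ⟨p, rfl | rfl⟩ := hg
    · refine ⟨p * tM * p⁻¹, by rw [map_mul, map_mul, map_inv, Φ_t hb, he], Or.inl ⟨?_, ?_⟩⟩
      · show p.1.1 * 1 * p.1.1⁻¹ = 1
        rw [mul_one, mul_inv_cancel]
      · show sign (p.1.2 * t5 * p.1.2⁻¹) = 1
        simp [Perm.sign_mul, show sign t5 = 1 from ht1]
    · refine ⟨⟨((p * tM * p⁻¹).1.2, (p * tM * p⁻¹).1.1), mem_MM.2 (mem_MM.1 (p * tM * p⁻¹).2).symm⟩,
        ?_, Or.inr ⟨?_, ?_⟩⟩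
      · rw [← j_Φ hb, map_mul, map_mul, map_inv, Φ_t hb, ← he, mul_inv_rev, d.j_inv]; group
      · show p.1.1 * 1 * p.1.1⁻¹ = 1
        rw [mul_one, mul_inv_cancel]
      · show sign (p.1.2 * t5 * p.1.2⁻¹) = 1
        simp [Perm.sign_mul, show sign t5 = 1 from ht1]
  · exact absurd hc (not_isConj_t_x hb)
  · exact absurd hc d.not_isConj_t_a
  · exact absurd hc d.not_isConj_t_j
  · exact absurd hc d.not_isConj_t_jc

set_option maxHeartbeats 1000000 in
theorem cent_x_le {g₀ : G} (hg₀ : Commute g₀ (d.b * d.t)) : g₀ ∈ G0 hb := by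
  classical
  obtain ⟨J, hJ0, hJb, hJt⟩ := exists_J hb
  obtain ⟨-, -, -, -, -, -, bt, ats, uau, ux, ax⟩ := x_facts
  have htt := t_sq hb
  set x := d.b * d.t with hx
  have hbt : Commute d.b d.t := by rw [← Φ_b hb, ← Φ_t hb]; exact (commute_Φ hb).2 bt
  have hbb : d.b * d.b = 1 := by rw [← map_mul, show bP * bP = 1 by decide +kernel, map_one]
  have hxx : x * x = 1 := by
    rw [hx]
    calc d.b * d.t * (d.b * d.t) = d.b * (d.t * d.b) * d.t := by group
      _ = (d.b * d.b) * (d.t * d.t) := by rw [← hbt.eq]; group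
      _ = 1 := by rw [hbb, htt, one_mul]
  have htx : d.t * x = d.b := by rw [hx, hbt.eq, ← mul_assoc, htt, one_mul]
  let C : Subgroup G := Subgroup.centralizer ({x} : Set G)
  have hC : ∀ {g : G}, g ∈ C ↔ Commute g x := Subgroup.mem_centralizer_singleton_iff
  let xC : C := ⟨x, hC.2 (Commute.refl _)⟩
  have hnorm := zpowers_normal_of_central (x := xC) fun g => Subtype.ext (hC.1 g.2)
  let π := QuotientGroup.mk' (Subgroup.zpowers xC)
  have hπs : Function.Surjective π := QuotientGroup.mk'_surjective _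
  have hπeq : ∀ p q : C, π p = π q ↔ (p : G) = q ∨ (p : G) = q * x := by
    intro p q
    rw [← inv_mul_eq_one (a := π p), ← map_inv, ← map_mul, QuotientGroup.mk'_apply, QuotientGroup.eq_one_iff]
    constructor
    · intro h
      rcases eq_or_of_mem_zpowers (Subtype.ext hxx : xC * xC = 1) h with h | h
      · exact Or.inl (congrArg Subtype.val (inv_mul_eq_one.1 h))
      · refine Or.inr ?_
        have h' : q = p * xC := inv_mul_eq_iff_eq_mul.1 h
        rw [h', Subgroup.coe_mul, mul_assoc]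
        exact (by rw [show (xC : G) = x from rfl, hxx, mul_one])
    · rintro (h | h)
      · rw [show p = q from Subtype.ext h, inv_mul_cancel]; exact one_mem _
      · refine (show p⁻¹ * q = xC from ?_) ▸ Subgroup.mem_zpowers xC
        refine inv_mul_eq_iff_eq_mul.2 (Subtype.ext ?_)
        rw [Subgroup.coe_mul, h, mul_assoc, show (xC : G) = x from rfl, hxx, mul_one]
  have hxM : x = Φ hb (bM * tM) := (Φ_x hb).symm
  let tC : C := ⟨d.t, hC.2 ((hbt.symm.mul_right (Commute.refl _)))⟩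
  let aC : C := ⟨d.a, hC.2 (by rw [hxM, ← Φ_a hb]; exact (commute_Φ hb).2 ax)⟩
  let uC : C := ⟨d.u, hC.2 (by rw [hxM, ← Φ_u hb]; exact (commute_Φ hb).2 ux)⟩
  let sC : C := uC * aC * uC⁻¹
  have hconj : ∀ k p : C, π k * π p * (π k)⁻¹ = π p ↔
      (k : G) * p * (k : G)⁻¹ = p ∨ (k : G) * p * (k : G)⁻¹ = p * x := by
    intro k p
    rw [← map_inv, ← map_mul, ← map_mul, hπeq]
    simp only [Subgroup.coe_mul, Subgroup.coe_inv]
  have hfixt : ∀ k : G, k * d.t * k⁻¹ = d.t ∨ k * d.t * k⁻¹ = d.b → k ∈ G0 hb := by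
    intro k hk
    rcases hk with hk | hk
    · exact cent_t_le hb (mul_inv_eq_iff_eq_mul.1 hk)
    · have hc : Commute (J⁻¹ * k) d.t := by
        refine mul_inv_eq_iff_eq_mul.1 ?_
        rw [show J⁻¹ * k * d.t * (J⁻¹ * k)⁻¹ = J⁻¹ * (k * d.t * k⁻¹) * J by group, hk, ← hJt]; group
      have := (G0 hb).mul_mem hJ0 (cent_t_le hb hc)
      rwa [mul_inv_cancel_left] at this
  set tb := π tC with htb
  have htb2 : tb * tb = 1 := by
    rw [htb, ← map_mul, ← map_one π]; exact congrArg π (Subtype.ext htt)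
  have htb1 : tb ≠ 1 := by
    rw [htb, ← map_one π]
    intro h
    rcases (hπeq _ _).1 h with h | h
    · exact d.map_ne_one (by decide +kernel : tP ≠ 1) h
    · rw [show ((1 : C) : G) = 1 from rfl, one_mul] at h
      have h' : d.t = d.b * d.t := h
      rw [right_eq_mul] at h'
      exact d.map_ne_one (by decide +kernel : bP ≠ 1) h'
  have hiso : Cfsg.IsIsolated tb := by
    intro g hg
    obtain ⟨k, rfl⟩ := hπs g
    have he : π k * tb * (π k)⁻¹ = π (k * tC * k⁻¹) := by rw [map_mul, map_mul, map_inv]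
    rw [he] at hg ⊢
    have h1 : π (k * tC * k⁻¹) * tb * (π (k * tC * k⁻¹))⁻¹ = tb := by rw [← hg.eq, mul_inv_cancel_right]
    have h2 := (hconj _ _).1 h1
    simp only [Subgroup.coe_mul, Subgroup.coe_inv] at h2
    refine (hπeq _ _).2 ?_
    simp only [Subgroup.coe_mul, Subgroup.coe_inv]
    set v := (k : G) * d.t * (k : G)⁻¹ with hv
    have hv0 : v ∈ G0 hb := hfixt v (h2.imp id fun e => by rw [e]; exact htx)
    have hkx : (k : G) * x * (k : G)⁻¹ = x := by rw [(hC.1 k.2).eq, mul_inv_cancel_right]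
    obtain ⟨q, hq, hcases⟩ := conj_t_G0 hb hv0 (isConj_iff.2 ⟨(k : G), hv.symm⟩)
    have hb't : IsConj d.t d.b := (isConj_iff.2 ⟨J, hJt⟩)
    have hvx : v * x = (k : G) * d.b * (k : G)⁻¹ := by
      rw [hv, ← htx]
      calc (k : G) * d.t * (k : G)⁻¹ * x = (k : G) * d.t * (k : G)⁻¹ * ((k : G) * x * (k : G)⁻¹) := by rw [hkx]
        _ = _ := by group
    obtain ⟨q', hq', hcases'⟩ := conj_t_G0 hb
      ((G0 hb).mul_mem hv0 (hxM ▸ Φ_mem hb _)) (hb't.trans (isConj_iff.2 ⟨(k : G), hvx.symm⟩))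
    rw [hq, hxM, ← map_mul] at hq'
    have e := Φ_injective hb hq'
    have hbne : b5 ≠ 1 := by decide +kernel
    have htne : t5 ≠ 1 := by decide +kernel
    have hsq : b5 * b5 = 1 ∧ t5 * t5 = 1 := by decide +kernel
    rcases hcases with ⟨h11, -⟩ | ⟨h12, -⟩
    · refine Or.inl ?_
      have e1 : q'.1.1 = b5 := by rw [← e]; show q.1.1 * (b5 * 1) = b5; rw [h11]; simp
      have e2 : q'.1.2 = q.1.2 * t5 := by rw [← e]; show q.1.2 * (1 * t5) = _; simp
      rcases hcases' with ⟨h, -⟩ | ⟨h, -⟩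
      · exact absurd (e1.symm.trans h) hbne
      · have h2' : q.1.2 = t5 := by
          calc q.1.2 = q.1.2 * t5 * t5 := by rw [mul_assoc, hsq.2, mul_one]
            _ = t5 := by rw [← e2, h, one_mul]
        show v = d.t
        rw [hq, show q = tM from Subtype.ext (Prod.ext h11 h2'), Φ_t hb]
    · refine Or.inr ?_
      have e2 : q'.1.2 = t5 := by rw [← e]; show q.1.2 * (1 * t5) = t5; rw [h12]; simp
      have e1 : q'.1.1 = q.1.1 * b5 := by rw [← e]; show q.1.1 * (b5 * 1) = _; simp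
      rcases hcases' with ⟨h, -⟩ | ⟨h, -⟩
      · have h1' : q.1.1 = b5 := by
          calc q.1.1 = q.1.1 * b5 * b5 := by rw [mul_assoc, hsq.1, mul_one]
            _ = b5 := by rw [← e1, h, one_mul]
        show v = d.t * x
        rw [htx, hq, show q = bM from Subtype.ext (Prod.ext h1' h12), Φ_b hb]
      · exact absurd (e2.symm.trans h) htne
  set O := core (C ⧸ Subgroup.zpowers xC) with hO
  haveI : O.Normal := Cores.pPrimeCore_normal 2 _
  have himg : ∀ q : MM, Commute (Φ hb q) x → Φ hb q ^ 4 = 1 := by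
    intro q hq
    rw [hxM, commute_Φ hb] at hq
    have e1 : q.1.1 * (b5 * 1) = b5 * 1 * q.1.1 := congrArg (fun r : MM => r.1.1) hq
    have e2 : q.1.2 * (1 * t5) = 1 * t5 * q.1.2 := congrArg (fun r : MM => r.1.2) hq
    rw [mul_one] at e1
    rw [one_mul] at e2
    rw [← map_pow, exp4_S32 hb q (mem_S32.2 ⟨e1, e2⟩), map_one]
  have core_trivial : ∀ k : C, π k ∈ O → (k : G) ∈ G0 hb → π k = 1 := by
    intro k hk hk0
    refine core_pow_eq_one hk (n := 3) ?_
    rw [← map_pow, ← map_one π]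
    refine congrArg π (Subtype.ext ?_)
    rw [SubmonoidClass.coe_pow, OneMemClass.coe_one, show (2 : ℕ) ^ 3 = 2 * 4 from rfl]
    obtain ⟨q, hq | hq⟩ := hk0
    · rw [mul_comm, pow_mul, hq, himg q (hq ▸ hC.1 k.2), one_pow]
    · have h2 : (k : G) ^ 2 = Φ hb (⟨(q.1.2, q.1.1), mem_MM.2 (mem_MM.1 q.2).symm⟩ * q) := by
        rw [hq, pow_two, map_mul, ← j_Φ hb, mul_assoc (d.j * Φ hb q)]
      rw [pow_mul, h2, himg _ (h2 ▸ (hC.1 k.2).pow_left 2)]
  have hfix : ∀ (p : C), (∀ k : C, (k : G) * p * (k : G)⁻¹ = p ∨ (k : G) * p * (k : G)⁻¹ = p * x →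
      (k : G) ^ 2 ∈ G0 hb) → ∀ o ∈ O, Commute o (π p) → o = 1 := by
    intro p hp o ho hc
    obtain ⟨k, rfl⟩ := hπs o
    refine core_pow_eq_one ho (n := 1) ?_
    rw [pow_one, ← map_pow]
    refine core_trivial _ (by rw [map_pow]; exact O.pow_mem ho 2) ?_
    rw [SubmonoidClass.coe_pow]
    exact hp k ((hconj k p).1 (by rw [hc.eq, mul_inv_cancel_right]))
  have ht_inv : ∀ o ∈ O, tb * o * tb⁻¹ = o⁻¹ := fun o ho => core_inverted htb2
    (hfix tC fun k hk => (G0 hb).pow_mem (hfixt k (hk.imp id fun e => by rw [e]; exact htx)) 2) ho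
  have haa : d.a * d.a = 1 := by rw [← map_mul, show aP * aP = 1 by decide +kernel, map_one]
  have ha_inv : ∀ o ∈ O, π aC * o * (π aC)⁻¹ = o⁻¹ := fun o ho => core_inverted
    (by rw [← map_mul, ← map_one π]; exact congrArg π (Subtype.ext haa))
    (hfix aC fun k hk => by
      refine cent_a_le hb (mul_inv_eq_iff_eq_mul.1 ?_)
      have hkx : (k : G) * x * (k : G)⁻¹ = x := by rw [(hC.1 k.2).eq, mul_inv_cancel_right]
      rw [pow_two, show (k : G) * k * d.a * ((k : G) * k)⁻¹ = (k : G) * ((k : G) * d.a * (k : G)⁻¹) * (k : G)⁻¹ by group]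
      rcases hk with e | e <;> rw [show (k : G) * d.a * (k : G)⁻¹ = _ from e]
      · exact e
      · calc (k : G) * (d.a * x) * (k : G)⁻¹ = (k : G) * d.a * (k : G)⁻¹ * ((k : G) * x * (k : G)⁻¹) := by group
          _ = d.a := by rw [show (k : G) * d.a * (k : G)⁻¹ = d.a * x from e, hkx, mul_assoc, hxx, mul_one]) ho
  have hs : π sC = π aC * tb := by
    rw [htb, ← map_mul]
    refine congrArg π (Subtype.ext ?_)
    show d.u * d.a * d.u⁻¹ = d.a * d.t
    rw [← Φ_u hb, ← Φ_a hb, ← Φ_t hb, ← map_inv, ← map_mul, ← map_mul, ← map_mul, uau, ats]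
  have hO1 : ∀ o ∈ O, o = 1 := by
    intro o ho
    have h1 : π sC * o * (π sC)⁻¹ = o⁻¹ := by
      have hE : π sC = π uC * π aC * (π uC)⁻¹ := by rw [← map_inv, ← map_mul, ← map_mul]
      rw [hE]
      set U := π uC
      set A := π aC
      have hU : U⁻¹ * o * U ∈ O := by
        simpa using Subgroup.Normal.conj_mem inferInstance o ho U⁻¹
      calc U * A * U⁻¹ * o * (U * A * U⁻¹)⁻¹ = U * (A * (U⁻¹ * o * U) * A⁻¹) * U⁻¹ := by group
        _ = o⁻¹ := by rw [ha_inv _ hU]; group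
    have h2 : π sC * o * (π sC)⁻¹ = o := by
      rw [hs, show π aC * tb * o * (π aC * tb)⁻¹ = π aC * (tb * o * tb⁻¹) * (π aC)⁻¹ by group,
        ht_inv o ho, ha_inv _ (O.inv_mem ho), inv_inv]
    refine core_pow_eq_one ho (n := 1) ?_
    rw [pow_one, pow_two]
    nth_rewrite 1 [← h2]
    rw [h1, inv_mul_cancel]
  obtain ⟨o, ho, y, hy, hg⟩ := exists_factor (orderOf_eq_prime (by rw [pow_two, htb2]) htb1) hiso
    (π ⟨g₀, hC.2 hg₀⟩)
  have hc : π ⟨g₀, hC.2 hg₀⟩ * tb * (π ⟨g₀, hC.2 hg₀⟩)⁻¹ = tb := by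
    rw [hg, hO1 o ho, one_mul, hy.eq, mul_inv_cancel_right]
  exact hfixt g₀ (((hconj _ tC).1 hc).imp id fun e => by rw [show g₀ * d.t * g₀⁻¹ = _ from e]; exact htx)

end Cfg

end Cfsg.Agent.SymEightThree
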