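/-
The case `(A₅ × A₅).4`.
-/
import Cfsg.Agent.Lib.SymEightThree.CentX
import Cfsg.Agent.Lib.Components.Basic
import Cfsg.Agent.Lib.Components.GenFitting

set_option autoImplicit false
set_option maxRecDepth 100000
set_option synthInstance.maxSize 4000
set_option synthInstance.maxHeartbeats 400000
set_option linter.unusedSectionVars false

namespace Cfsg.Agent.SymEightThree

open Equiv Equiv.Perm

/-- The alternating group of degree five. -/
abbrev A5 : Type := alternatingGroup (Fin 5)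

theorem five_center : ∀ τ : Perm (Fin 5), τ * swap 0 1 * swap 2 3 = swap 0 1 * swap 2 3 * τ →
    τ * (swap 0 2 * swap 0 1) = swap 0 2 * swap 0 1 * τ →
    τ * (swap 0 4 * swap 1 3) = swap 0 4 * swap 1 3 * τ → τ = 1 := by
  decide +kernel

theorem center_A5 {τ : Perm (Fin 5)} (h : ∀ y : A5, τ * y = y * τ) : τ = 1 := by
  have h' : ∀ y : Perm (Fin 5), sign y = 1 → τ * y = y * τ := fun y hy =>
    h ⟨y, mem_alternatingGroup.2 hy⟩
  exact five_center τ (by rw [mul_assoc]; exact h' _ (by decide +kernel))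
    (h' _ (by decide +kernel)) (h' _ (by decide +kernel))

/-- The double transposition in `A₅`. -/
def tA : A5 := ⟨t5, mem_alternatingGroup.2 (by decide +kernel)⟩

theorem tA_ne : tA ≠ 1 := fun h =>
  absurd (congrArg Subtype.val h) (show t5 ≠ 1 by decide +kernel)

theorem center_A5' {x : A5} (h : ∀ y : A5, y * x = x * y) : x = 1 :=
  Subtype.ext (center_A5 (τ := (x : Perm (Fin 5))) fun y => (congrArg Subtype.val (h y)).symm)

theorem isQuasisimple_A5 : Cfsg.IsQuasisimple A5 := by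
  have : IsSimpleGroup A5 := alternatingGroup.isSimpleGroup (by simp)
  have : Group.IsPerfect A5 := by
    refine ⟨?_⟩
    rcases Subgroup.Normal.eq_bot_or_eq_top (inferInstance : (commutator A5).Normal) with h | h
    · exfalso
      have hc := ((_root_.commutator_eq_bot_iff A5).mp h).is_comm.comm
      exact tA_ne (center_A5' fun y => hc y _)
    · exact h
  exact Components.isQuasisimple_of_normal_le_center fun N hN => by
    rcases Subgroup.Normal.eq_bot_or_eq_top hN with h | h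
    · exact Or.inr (h ▸ bot_le)
    · exact Or.inl h

/-- The even pairs in the model. -/
def iota : A5 × A5 →* MM where
  toFun p := ⟨((p.1 : Perm (Fin 5)), (p.2 : Perm (Fin 5))),
    mem_MM.2 ((mem_alternatingGroup.1 p.1.2).trans (mem_alternatingGroup.1 p.2.2).symm)⟩
  map_one' := rfl
  map_mul' _ _ := rfl

theorem iota_injective : Function.Injective iota := fun p q h => by
  have h1 := congrArg (fun r : MM => r.1.1) h
  have h2 := congrArg (fun r : MM => r.1.2) h
  exact Prod.ext (Subtype.ext h1) (Subtype.ext h2)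

theorem mem_iota {q : MM} (h : sign q.1.1 = 1) : q ∈ iota.range :=
  ⟨(⟨q.1.1, mem_alternatingGroup.2 h⟩,
    ⟨q.1.2, mem_alternatingGroup.2 ((mem_MM.1 q.2).symm.trans h)⟩), Subtype.ext rfl⟩

theorem nine_even : ∀ x ∈ nineList, sign (eta x).1.1 = 1 := by decide +kernel

namespace Cfg

variable {G : Type*} [Group G] [Finite G] {d : Cfg G} (hb : d.j * d.a * d.j = d.ψ (bP * cP))
include hb

theorem pow_eight {v : G} (hv : v ∈ G0 hb) (hc : Commute v (d.b * d.t)) : v ^ 8 = 1 := by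
  have hM : ∀ q : MM, Commute (Φ hb q) (d.b * d.t) → Φ hb q ^ 4 = 1 := by
    intro q hq
    rw [← Φ_x hb, commute_Φ hb] at hq
    have e1 : q.1.1 * (b5 * 1) = b5 * 1 * q.1.1 := congrArg (fun r : MM => r.1.1) hq
    have e2 : q.1.2 * (1 * t5) = 1 * t5 * q.1.2 := congrArg (fun r : MM => r.1.2) hq
    rw [mul_one] at e1
    rw [one_mul] at e2
    rw [← map_pow, exp4_S32 hb q (mem_S32.2 ⟨e1, e2⟩), map_one]
  obtain ⟨q, hq | hq⟩ := hv
  · rw [show (8 : ℕ) = 4 * 2 from rfl, pow_mul, hq, hM q (hq ▸ hc), one_pow]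
  · have h2 : v ^ 2 = Φ hb (⟨(q.1.2, q.1.1), mem_MM.2 (mem_MM.1 q.2).symm⟩ * q) := by
      rw [hq, pow_two, map_mul, ← j_Φ hb, mul_assoc (d.j * Φ hb q)]
    rw [show (8 : ℕ) = 2 * 4 from rfl, pow_mul, h2, hM _ (h2 ▸ hc.pow_left 2)]

theorem not_isConj_x_of_commute_zw {i : G} (hi : Commute i (d.ψ (zP * wP))) :
    ¬ IsConj i (d.b * d.t) := by
  intro h
  obtain ⟨k, hk⟩ := isConj_iff.1 h
  have hc : Commute (k * d.ψ (zP * wP) * k⁻¹) (d.b * d.t) := by
    have := commute_conj hi.symm k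
    rwa [hk] at this
  have h8 := orderOf_dvd_of_pow_eq_one (pow_eight hb (cent_x_le hb hc) hc)
  have h3 : orderOf (d.ψ (zP * wP)) = 3 := by
    rw [orderOf_injective _ d.inj]
    exact orderOf_eq_prime (p := 3) (hp := ⟨Nat.prime_three⟩) (by decide +kernel) (by decide +kernel)
  rw [orderOf_conj_eq, h3] at h8
  norm_num at h8

theorem not_jjc {r : G} (hr : r ∈ [d.t, d.b * d.t, d.a]) :
    ¬ IsConj d.j r ∧ ¬ IsConj (d.j * d.c) r := by
  have hcz : Commute (d.j * d.c) (d.ψ (zP * wP)) :=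
    d.j_zw.mul_left (d.commute_iff.2 (show cP * (zP * wP) = zP * wP * cP by decide +kernel))
  simp only [List.mem_cons, List.not_mem_nil, or_false] at hr
  rcases hr with rfl | rfl | rfl
  · exact ⟨fun h => d.not_isConj_t_j h.symm, fun h => d.not_isConj_t_jc h.symm⟩
  · exact ⟨not_isConj_x_of_commute_zw hb d.j_zw, not_isConj_x_of_commute_zw hb hcz⟩
  · exact ⟨fun h => d.not_isConj_c_j (d.isConj_c_a.trans h.symm),
      fun h => d.not_isConj_c_jc (d.isConj_c_a.trans h.symm)⟩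

/-- The classes of involutions of the model. -/
theorem invol_Φ {q : MM} (h2 : Φ hb q * Φ hb q = 1) (h1 : Φ hb q ≠ 1) :
    ∃ g ∈ G0 hb, ∃ r ∈ [d.t, d.b * d.t, d.a], g * r * g⁻¹ = Φ hb q := by
  obtain ⟨g, hg, r, hr, he⟩ := invol_G0 hb (Φ_mem hb q) h2 h1
  have him : ∃ q', r = Φ hb q' := by
    have e : r = g⁻¹ * Φ hb q * g := by rw [← he]; group
    obtain ⟨p, rfl | rfl⟩ := hg
    · exact ⟨p⁻¹ * q * p, by rw [e, map_mul, map_mul, map_inv]⟩
    · refine ⟨p⁻¹ * ⟨(q.1.2, q.1.1), mem_MM.2 (mem_MM.1 q.2).symm⟩ * p, ?_⟩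
      rw [e, map_mul, map_mul, map_inv, ← j_Φ hb, mul_inv_rev, d.j_inv]
      group
  obtain ⟨q', hq'⟩ := him
  simp only [List.mem_cons, List.not_mem_nil, or_false] at hr
  rcases hr with rfl | rfl | rfl | rfl | rfl
  · exact ⟨g, hg, d.t, by simp, he⟩
  · exact ⟨g, hg, d.b * d.t, by simp, he⟩
  · exact ⟨g, hg, d.a, by simp, he⟩
  · exact absurd hq' (j_ne hb q')
  · refine absurd ?_ (j_ne hb (q' * cM⁻¹))
    rw [map_mul, map_inv, Φ_c hb, ← hq', mul_inv_cancel_right]

/-- All conjugates of `t` lie in the model. -/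
theorem conj_t_mem (k : G) : k * d.t * k⁻¹ ∈ G0 hb := by
  by_contra hk
  set t' := k * d.t * k⁻¹ with ht'
  have ho : ∀ x : PP, x * x = 1 → x ≠ 1 → orderOf (d.ψ x) = 2 := fun x hx hx1 => by
    rw [orderOf_injective _ d.inj]; exact Involution.orderOf_of_sq hx hx1
  have ha2 : orderOf d.a = 2 := ho aP (by decide +kernel) (by decide +kernel)
  have ht2 : orderOf t' = 2 := by
    rw [ht', orderOf_conj_eq]; exact ho tP (by decide +kernel) (by decide +kernel)
  have hna : ¬ IsConj d.a t' := fun h =>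
    d.not_isConj_t_a ((isConj_iff.2 ⟨k, ht'.symm⟩).trans h.symm)
  obtain ⟨s, hs2, hsa, hst, -⟩ := Involution.exists_commuting_involution ha2 ht2
    (Involution.even_of_not_isConj ha2 ht2 hna)
  have hs0 := cent_a_le hb hsa
  have hs'2 : orderOf (k⁻¹ * s * k) = 2 := by
    have := orderOf_conj_eq k⁻¹ s
    rw [inv_inv] at this
    rw [this, hs2]
  have hs't : Commute (k⁻¹ * s * k) d.t := by
    have := commute_conj hst k⁻¹
    rw [inv_inv] at this
    rwa [show k⁻¹ * t' * k = d.t by rw [ht']; group] at this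
  obtain ⟨q, hq, -⟩ := mem_ct hb (cent_t_le hb hs't) hs't
  obtain ⟨g, -, r, hr, he⟩ := invol_Φ hb (q := q) (by rw [← hq, Involution.mul_self hs'2])
    (by rw [← hq]; exact Involution.ne_one hs'2)
  obtain ⟨g', hg', r', hr', he'⟩ :=
    invol_G0 hb hs0 (Involution.mul_self hs2) (Involution.ne_one hs2)
  have hconj : IsConj r' r :=
    ((isConj_iff.2 ⟨g', he'⟩).trans
      (isConj_iff.2 ⟨k⁻¹, show k⁻¹ * s * k⁻¹⁻¹ = Φ hb q by rw [inv_inv, hq]⟩)).trans
        (isConj_iff.2 ⟨g, he⟩).symm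
  obtain ⟨hj, hjc⟩ := not_jjc hb hr
  have hle : ∀ x : G, Commute x r' → x ∈ G0 hb := by
    simp only [List.mem_cons, List.not_mem_nil, or_false] at hr'
    rcases hr' with rfl | rfl | rfl | rfl | rfl
    · exact fun x hx => cent_t_le hb hx
    · exact fun x hx => cent_x_le hb hx
    · exact fun x hx => cent_a_le hb hx
    · exact absurd hconj hj
    · exact absurd hconj hjc
  refine hk ?_
  have hc : Commute (g'⁻¹ * t' * g') r' := by
    have := commute_conj hst.symm g'⁻¹
    rw [inv_inv] at this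
    rwa [show g'⁻¹ * s * g' = r' by rw [← he']; group] at this
  have := (G0 hb).mul_mem ((G0 hb).mul_mem hg' (hle _ hc)) ((G0 hb).inv_mem hg')
  rwa [show g' * (g'⁻¹ * t' * g') * g'⁻¹ = t' by group] at this

/-- The embedding of `A₅ × A₅`. -/
def ψA : A5 × A5 →* G := (Φ hb).comp iota

theorem ψA_injective : Function.Injective (ψA hb) := (Φ_injective hb).comp iota_injective

/-- The subgroup `A₅ × A₅`. -/
def MA : Subgroup G := (ψA hb).range

theorem mem_MA {q : MM} (h : sign q.1.1 = 1) : Φ hb q ∈ MA hb := by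
  obtain ⟨p, rfl⟩ := mem_iota h
  exact ⟨p, rfl⟩

theorem swap_ψA (x y : A5) : d.j * ψA hb (x, y) * d.j = ψA hb (y, x) := j_swap hb rfl

theorem conj_t_MA (k : G) : k * d.t * k⁻¹ ∈ MA hb := by
  obtain ⟨q, hq, h⟩ := conj_t_G0 hb (conj_t_mem hb k) (isConj_iff.2 ⟨k, rfl⟩)
  rw [hq]
  rcases h with ⟨h, -⟩ | ⟨-, h⟩
  · exact mem_MA hb (by rw [h, map_one])
  · exact mem_MA hb h

/-- A normal subgroup meeting a factor contains `A₅ × A₅`. -/
theorem MA_le {K : Subgroup G} (hK : K.Normal) {y : A5} (hy : y ≠ 1)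
    (hmem : ψA hb (1, y) ∈ K) : MA hb ≤ K := by
  have : IsSimpleGroup A5 := alternatingGroup.isSimpleGroup (by simp)
  have h2 : ∀ x : A5, ψA hb (1, x) ∈ K := by
    rcases Subgroup.Normal.eq_bot_or_eq_top
      (hK.comap ((ψA hb).comp (MonoidHom.inr A5 A5))) with h | h
    · exfalso
      have : y ∈ K.comap ((ψA hb).comp (MonoidHom.inr A5 A5)) := hmem
      rw [h, Subgroup.mem_bot] at this
      exact hy this
    · intro x
      have : x ∈ K.comap ((ψA hb).comp (MonoidHom.inr A5 A5)) := h ▸ Subgroup.mem_top x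
      exact this
  rintro _ ⟨⟨x, z⟩, rfl⟩
  rw [show ((x, z) : A5 × A5) = (x, 1) * (1, z) by simp, map_mul, ← swap_ψA hb 1 x]
  refine K.mul_mem ?_ (h2 z)
  have := hK.conj_mem _ (h2 x) d.j
  rwa [d.j_inv] at this

theorem ψA_t : ψA hb (1, tA) = d.t := by
  rw [← Φ_t hb]; exact congrArg (Φ hb) (Subtype.ext rfl)

theorem MA_eq : MA hb = Subgroup.normalClosure {d.t} := by
  refine le_antisymm (MA_le hb Subgroup.normalClosure_normal (y := tA)
    tA_ne (by rw [ψA_t hb]; exact Subgroup.subset_normalClosure rfl)) ?_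
  rw [Subgroup.normalClosure, Subgroup.closure_le]
  intro g hg
  rw [Group.mem_conjugatesOfSet_iff] at hg
  obtain ⟨a, ha, hag⟩ := hg
  rw [Set.mem_singleton_iff] at ha
  subst ha
  obtain ⟨k, rfl⟩ := isConj_iff.1 hag
  exact conj_t_MA hb k

theorem MA_normal : (MA hb).Normal := MA_eq hb ▸ Subgroup.normalClosure_normal

theorem card_MA : Nat.card (MA hb) = 3600 := by
  rw [MA, Nat.card_congr (MonoidHom.ofInjective (ψA_injective hb)).toEquiv.symm, Nat.card_prod,
    nat_card_alternatingGroup, Nat.card_fin]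
  rfl

/-- The group is the model. -/
theorem G0_eq_top : G0 hb = ⊤ := by
  have : Fact (Nat.Prime 3) := ⟨Nat.prime_three⟩
  have := MA_normal hb
  set D := nineSub.map d.ψ with hD
  have hDM : D ≤ MA hb := by
    rintro _ ⟨x, hx, rfl⟩
    rw [← Φ_eta hb x]
    exact mem_MA hb (nine_even x hx)
  have hD9 : Nat.card (D.subgroupOf (MA hb)) = 3 ^ 2 := by
    rw [Nat.card_congr (Subgroup.subgroupOfEquivOfLe hDM).toEquiv, hD,
      Nat.card_congr (Subgroup.equivMapOfInjective _ _ d.inj).toEquiv.symm, card_nineSub]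
    norm_num
  obtain ⟨R, hR⟩ := (IsPGroup.of_card hD9).exists_le_sylow
  have hReq : D.subgroupOf (MA hb) = (R : Subgroup (MA hb)) := Subgroup.eq_of_le_of_card_ge hR (by
    rw [hD9, R.card_eq_multiplicity]
    refine pow_le_pow_right₀ (by norm_num) ?_
    by_contra hlt
    have h27 := (pow_dvd_pow 3 (not_le.1 hlt)).trans (Nat.ordProj_dvd _ 3)
    rw [card_MA hb] at h27
    norm_num at h27)
  have hmap : (R : Subgroup (MA hb)).map (MA hb).subtype = D := by
    rw [← hReq, Subgroup.map_subgroupOf_eq_of_le hDM]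
  rw [eq_top_iff, ← Sylow.normalizer_sup_eq_top R, hmap]
  refine sup_le (fun g hg => ?_) ?_
  · obtain ⟨x, hx, hxe⟩ := (Subgroup.mem_normalizer_iff.1 hg d.z).1
      ⟨zP, mem_nineSub.2 nine_mem.1, rfl⟩
    exact near_le hb (d.near_of_conj hx hxe.symm)
  · rintro _ ⟨p, rfl⟩
    exact Φ_mem hb _

theorem card_G : Nat.card G = 14400 := by
  rw [← card_G0 hb, G0_eq_top hb, Subgroup.card_top]

theorem index_MA : (MA hb).index = 4 := by
  have h := (MA hb).card_mul_index
  rw [card_G hb, card_MA hb] at h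
  omega

theorem sq_mem (g : G) : g ^ 2 ∈ MA hb := by
  obtain ⟨q, hq | hq⟩ := (G0_eq_top hb ▸ Subgroup.mem_top g : g ∈ G0 hb)
  · rw [hq, ← map_pow]
    refine mem_MA hb ?_
    rw [pow_two, show (q * q).1.1 = q.1.1 * q.1.1 from rfl, Perm.sign_mul, Int.units_mul_self]
  · have h2 : g ^ 2 = Φ hb (⟨(q.1.2, q.1.1), mem_MM.2 (mem_MM.1 q.2).symm⟩ * q) := by
      rw [hq, pow_two, map_mul, ← j_Φ hb, mul_assoc (d.j * Φ hb q)]
    rw [h2]
    refine mem_MA hb ?_
    show sign (q.1.2 * q.1.1) = 1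
    rw [Perm.sign_mul, ← mem_MM.1 q.2, Int.units_mul_self]

theorem minimal_MA {K : Subgroup G} (hK : K.Normal) (hle : K ≤ MA hb) : K = ⊥ ∨ K = MA hb := by
  by_cases hcase : ∃ y : A5, y ≠ 1 ∧ ψA hb (1, y) ∈ K
  · obtain ⟨y, hy, hm⟩ := hcase
    exact Or.inr (le_antisymm hle (MA_le hb hK hy hm))
  push Not at hcase
  refine Or.inl (eq_bot_iff.2 fun g hg => ?_)
  obtain ⟨⟨x, y⟩, rfl⟩ := hle hg
  have hsnd : ∀ x y : A5, ψA hb (x, y) ∈ K → y = 1 := by
    intro x y hm
    refine center_A5' fun h => ?_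
    have h1 : ψA hb (1, h * y * h⁻¹ * y⁻¹) ∈ K := by
      have := K.mul_mem (hK.conj_mem _ hm (ψA hb (1, h))) (K.inv_mem hm)
      rw [← map_inv, ← map_inv, ← map_mul, ← map_mul, ← map_mul] at this
      simpa using this
    have := hcase (h * y * h⁻¹ * y⁻¹)
    by_contra hne
    exact this (fun e => hne (by rwa [mul_inv_eq_one, mul_inv_eq_iff_eq_mul] at e)) h1
  have hy := hsnd x y hg
  have hx := hsnd y x (by
    have := hK.conj_mem _ hg d.j
    rwa [d.j_inv, swap_ψA hb] at this)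
  rw [hx, hy, Subgroup.mem_bot]
  exact map_one _

theorem centralizer_MA : Subgroup.centralizer (MA hb : Set G) = ⊥ := by
  rw [eq_bot_iff]
  intro g hg
  rw [Subgroup.mem_centralizer_iff] at hg
  have hz : d.z ∈ MA hb := by rw [← Φ_z hb]; exact mem_MA hb (by decide +kernel)
  obtain ⟨x, rfl⟩ := d.mem_of_commute (hg d.z hz).symm
  rw [← Φ_eta hb x] at hg ⊢
  have hcm : ∀ p : A5 × A5, iota p * eta x = eta x * iota p := fun p =>
    Φ_injective hb (by rw [map_mul, map_mul]; exact hg _ ⟨p, rfl⟩)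
  have h1 : (eta x).1.1 = 1 :=
    center_A5 fun y => (congrArg (fun r : MM => r.1.1) (hcm (y, 1))).symm
  have h2 : (eta x).1.2 = 1 :=
    center_A5 fun y => (congrArg (fun r : MM => r.1.2) (hcm (1, y))).symm
  rw [show eta x = 1 from Subtype.ext (Prod.ext h1 h2), map_one, Subgroup.mem_bot]

theorem component_of {f : A5 →* A5 × A5} (hf : Function.Injective f) (hn : f.range.Normal) :
    Cfsg.IsComponent ((ψA hb).comp f).range := by
  have := MA_normal hb
  refine ⟨Subgroup.IsSubnormal.step _ (MA hb) ?_ (MA_normal hb).isSubnormal ?_,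
    (Components.isQuasisimple_congr (MonoidHom.ofInjective (f := (ψA hb).comp f)
      (fun a b h => hf (ψA_injective hb h)))).1 isQuasisimple_A5⟩
  · rintro _ ⟨a, rfl⟩
    exact ⟨f a, rfl⟩
  · constructor
    rintro ⟨n, hnM⟩ hmem ⟨g, hgM⟩
    obtain ⟨p, rfl⟩ := hgM
    obtain ⟨a, rfl⟩ := Subgroup.mem_subgroupOf.1 hmem
    obtain ⟨b, hb'⟩ := hn.conj_mem (f a) ⟨a, rfl⟩ p
    rw [Subgroup.mem_subgroupOf]
    refine ⟨b, ?_⟩
    simp only [Subgroup.coe_mul, Subgroup.coe_inv, MonoidHom.comp_apply, hb', map_mul, map_inv]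

theorem genFitting_MA : Cfsg.generalizedFittingSubgroup G = MA hb := by
  have := MA_normal hb
  have hC := centralizer_MA hb
  have h1 : Cfsg.IsComponent ((ψA hb).comp (MonoidHom.inl A5 A5)).range :=
    component_of hb (fun a b h => congrArg Prod.fst h) ⟨by
      rintro _ ⟨a, rfl⟩ ⟨x, y⟩
      exact ⟨x * a * x⁻¹, by simp⟩⟩
  have h2 : Cfsg.IsComponent ((ψA hb).comp (MonoidHom.inr A5 A5)).range :=
    component_of hb (fun a b h => congrArg Prod.snd h) ⟨by
      rintro _ ⟨a, rfl⟩ ⟨x, y⟩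
      exact ⟨y * a * y⁻¹, by simp⟩⟩
  have hF : Cfsg.fittingSubgroup G = ⊥ := by
    set Fi := Cfsg.fittingSubgroup G
    have : Group.IsNilpotent ↥Fi := Cores.isNilpotent_of_le_fittingSubgroup le_rfl
    have : Fi.Normal := inferInstance
    rcases minimal_MA hb (K := MA hb ⊓ Fi) inferInstance inf_le_left with h | h
    · rw [eq_bot_iff, ← hC]
      intro z hz w hw
      exact (Subgroup.commute_of_normal_of_disjoint (MA hb) Fi inferInstance inferInstance
        (disjoint_iff.2 h) w z hw hz).eq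
    · refine absurd ?_ (Components.IsComponent.not_le_of_isSolvable h1 (H := Fi) inferInstance)
      refine le_trans ?_ (inf_eq_left.1 h)
      rintro _ ⟨a, rfl⟩
      exact ⟨(a, 1), rfl⟩
  rw [Cfsg.generalizedFittingSubgroup, hF, sup_bot_eq]
  refine le_antisymm (Components.layer_le fun K hK => ?_) ?_
  · rcases Components.IsComponent.le_or_commutes hK (MA_normal hb).isSubnormal with h | h
    · exact h
    · rw [Subgroup.commutator_eq_bot_iff_le_centralizer, hC, le_bot_iff] at h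
      exact absurd h (Components.IsComponent.ne_bot hK)
  · rintro _ ⟨⟨x, y⟩, rfl⟩
    rw [show ((x, y) : A5 × A5) = (x, 1) * (1, y) by simp, map_mul]
    exact (Cfsg.layer G).mul_mem (Components.IsComponent.le_layer h1 ⟨x, rfl⟩)
      (Components.IsComponent.le_layer h2 ⟨y, rfl⟩)

theorem conclusion :
    ∃ N : Subgroup G, N.Normal ∧ Cfsg.generalizedFittingSubgroup G = N ∧
      Nonempty (N ≃* alternatingGroup (Fin 5) × alternatingGroup (Fin 5)) ∧
      (∀ K : Subgroup G, K.Normal → K ≤ N → K = ⊥ ∨ K = N) ∧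
      N.index = 4 ∧ ∀ g : G, g ^ 2 ∈ N :=
  ⟨MA hb, MA_normal hb, genFitting_MA hb,
    ⟨(MonoidHom.ofInjective (ψA_injective hb)).symm⟩,
    fun _ hK hle => minimal_MA hb hK hle, index_MA hb, sq_mem hb⟩

end Cfg

end Cfsg.Agent.SymEightThree
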